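import Cfsg.Agent.Lib.InvChar.HeRec.CandCMul

/-!
# The twisted semisimple candidate: the central involution is isolated

Certificates generated from the candidate model: conjugations of the involutions to class
representatives and their root counts.
-/

set_option autoImplicit false
set_option maxRecDepth 100000

namespace CfsgLib.InvChar.HeRec.CModel

universe u

/-- Representatives of the classes that cannot meet the conjugates of the central involution. -/
def candTwistBad : List ℕ := [1, 8, 11, 2697]

/-- Conjugations of the involutions to the representatives. -/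
def candTwistCert : List (ℕ × ℕ × ℕ) := [
  (1, 1, 0), (2, 1, 3072), (3, 1, 256), (4, 1, 1280), (5, 1, 1024), (6, 1, 128),
  (7, 1, 384), (65, 1, 8), (66, 1, 3080), (67, 1, 264), (68, 1, 1288), (69, 1, 1032),
  (70, 1, 136), (71, 1, 392), (8, 8, 0), (16, 8, 1536), (24, 8, 1024), (32, 8, 1280),
  (40, 8, 128), (48, 8, 384), (56, 8, 256), (72, 8, 1), (80, 8, 1537), (88, 8, 1025),
  (96, 8, 1281), (104, 8, 129), (112, 8, 385), (120, 8, 257), (11, 11, 0), (13, 11, 1792),
  (14, 11, 896), (17, 11, 1536), (22, 11, 8192), (23, 11, 2176), (26, 11, 2816), (28, 11, 1024),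
  (30, 11, 2048), (33, 11, 5504), (34, 11, 1280), (35, 11, 2560), (43, 11, 1152), (44, 11, 3712),
  (47, 11, 128), (49, 11, 2432), (52, 11, 384), (53, 11, 7296), (58, 11, 1920), (61, 11, 256),
  (63, 11, 4608), (75, 11, 1), (77, 11, 1793), (78, 11, 897), (81, 11, 1537), (86, 11, 8193),
  (87, 11, 2177), (90, 11, 2817), (92, 11, 1025), (94, 11, 2049), (97, 11, 5505), (98, 11, 1281),
  (99, 11, 2561), (107, 11, 1153), (108, 11, 3713), (111, 11, 129), (113, 11, 2433), (116, 11, 385),
  (117, 11, 7297), (122, 11, 1921), (125, 11, 257), (127, 11, 4609), (2697, 2697, 0), (2700, 2697, 3),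
  (2745, 2697, 16), (2748, 2697, 18), (2761, 2697, 1), (2764, 2697, 2), (2809, 2697, 17), (2812, 2697, 19),
  (3593, 2697, 896), (3594, 2697, 899), (3625, 2697, 912), (3626, 2697, 914), (3657, 2697, 897), (3658, 2697, 898),
  (3689, 2697, 913), (3690, 2697, 915), (4489, 2697, 1792), (4495, 2697, 1795), (4505, 2697, 1808), (4511, 2697, 1810),
  (4553, 2697, 1793), (4559, 2697, 1794), (4569, 2697, 1809), (4575, 2697, 1811), (6186, 2697, 131), (6190, 2697, 128),
  (6194, 2697, 146), (6198, 2697, 144), (6250, 2697, 130), (6254, 2697, 129), (6258, 2697, 154), (6262, 2697, 152),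
  (7081, 2697, 1158), (7086, 2697, 1152), (7097, 2697, 1170), (7102, 2697, 1168), (7145, 2697, 1154), (7150, 2697, 1153),
  (7161, 2697, 1194), (7166, 2697, 2944), (7973, 2697, 2322), (7974, 2697, 2320), (7981, 2697, 2307), (7982, 2697, 2304),
  (8037, 2697, 2387), (8038, 2697, 2321), (8045, 2697, 2306), (8046, 2697, 2305), (8729, 2697, 274), (8731, 2697, 272),
  (8761, 2697, 259), (8763, 2697, 256), (8793, 2697, 282), (8795, 2697, 280), (8825, 2697, 258), (8827, 2697, 257),
  (9651, 2697, 1424), (9654, 2697, 1426), (9659, 2697, 1408), (9662, 2697, 1414), (9715, 2697, 5632), (9718, 2697, 1450),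
  (9723, 2697, 1409), (9726, 2697, 1410), (10515, 2697, 1936), (10516, 2697, 15360), (10555, 2697, 1920), (10556, 2697, 1923),
  (10579, 2697, 1944), (10580, 2697, 15361), (10619, 2697, 1921), (10620, 2697, 1922), (11302, 2697, 402), (11303, 2697, 400),
  (11318, 2697, 387), (11319, 2697, 384), (11366, 2697, 410), (11367, 2697, 408), (11382, 2697, 386), (11383, 2697, 385),
  (12187, 2697, 2816), (12191, 2697, 2819), (12211, 2697, 2832), (12215, 2697, 2834), (12251, 2697, 2817), (12255, 2697, 2818),
  (12275, 2697, 2840), (12279, 2697, 2842), (13066, 2697, 18048), (13071, 2697, 2448), (13106, 2697, 2435), (13111, 2697, 2432),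
  (13130, 2697, 18049), (13135, 2697, 2456), (13170, 2697, 2434), (13175, 2697, 2433), (13843, 2697, 5009), (13845, 2697, 528),
  (13851, 2697, 4993), (13853, 2697, 512), (13907, 2697, 5008), (13909, 2697, 536), (13915, 2697, 4992), (13917, 2697, 513),
  (14749, 2697, 1024), (14751, 2697, 1027), (14757, 2697, 1040), (14759, 2697, 5504), (14813, 2697, 1025), (14815, 2697, 1026),
  (14821, 2697, 1048), (14823, 2697, 5505), (15641, 2697, 2054), (15645, 2697, 2048), (15657, 2697, 2066), (15661, 2697, 2064),
  (15705, 2697, 2050), (15709, 2697, 2049), (15721, 2697, 2090), (15725, 2697, 4736), (16396, 2697, 656), (16399, 2697, 4248),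
  (16420, 2697, 640), (16423, 2697, 4225), (16460, 2697, 664), (16463, 2697, 4240), (16484, 2697, 641), (16487, 2697, 4224),
  (17300, 2697, 1296), (17301, 2697, 8192), (17316, 2697, 1280), (17317, 2697, 1283), (17364, 2697, 1304), (17365, 2697, 8193),
  (17380, 2697, 1281), (17381, 2697, 1282), (18212, 2697, 2560), (18214, 2697, 4624), (18236, 2697, 4611), (18238, 2697, 4608),
  (18276, 2697, 2561), (18278, 2697, 4632), (18300, 2697, 4610), (18302, 2697, 4609), (18962, 2697, 18880), (18965, 2697, 3728),
  (18986, 2697, 3715), (18989, 2697, 3712), (19026, 2697, 18881), (19029, 2697, 3736), (19050, 2697, 3714), (19053, 2697, 3713),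
  (19850, 2697, 1552), (19852, 2697, 10880), (19858, 2697, 1536), (19860, 2697, 1539), (19914, 2697, 1560), (19916, 2697, 10881),
  (19922, 2697, 1537), (19924, 2697, 1538), (20754, 2697, 2176), (20755, 2697, 7312), (20786, 2697, 3073), (20787, 2697, 7296),
  (20818, 2697, 2177), (20819, 2697, 2178), (20850, 2697, 3072), (20851, 2697, 7297)]

theorem candTwist_invol :
    cosetAll (fun i => lmul i i == 0) (involCheck (cmul 0 1) candTwistBad [] candTwistCert) 168 =
      true := by
  decide +kernel

theorem candTwist_roots : candTwistBad.map (cand 0 1).rootN = [48, 48, 16, 8] := by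
  simp only [candTwistBad, List.map, cand_eq, codeCand_rootN (cmul_div 0 1)]
  decide +kernel

theorem candTwist_rootsT : (1 :: candTwistBad).map (cand 0 1).rootTN = [192, 192, 192, 112, 32] := by
  simp only [candTwistBad, List.map, cand_eq, codeCand_rootTN (cmul_div 0 1)]
  decide +kernel

theorem candTwist_facts : CandFacts (cand 0 1) candTwistBad [] 1 :=
  codeCand_facts (cmul_lt 0 1) (cmul_div 0 1) _ _ 1 candTwistCert [] (by decide +kernel)
    (by decide +kernel) candTwist_invol (by decide +kernel) (by decide +kernel) (by decide +kernel)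
    (Cand.mismatch_of_counts _ _ _ _ _ candTwist_roots candTwist_rootsT []
      (by simp)
      (by decide +kernel))

/-- The centraliser of an involution of a simple group of Held's order is not this candidate. -/
theorem false_of_candTwist {G : Type u} [Group G] [Finite G] [IsSimpleGroup G]
    (hna : ¬ IsMulCommutative G) {t : G} (ht : orderOf t = 2)
    {ψ : ℕ → G} (hψ : IsCandFrame (cand 0 1) t ψ) : False :=
  hψ.false_of_facts candTwist_facts hna ht (by decide +kernel) (by decide +kernel) (by decide +kernel)
    (fun h => absurd rfl h)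

end CfsgLib.InvChar.HeRec.CModel
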