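import Cfsg.Agent.Lib.InvChar.HeRec.CandCMul

/-!
# The twisted uniserial candidate: the central involution is isolated

Certificates generated from the candidate model: conjugations of the involutions to class
representatives and their root counts.
-/

set_option autoImplicit false
set_option maxRecDepth 100000

namespace CfsgLib.InvChar.HeRec.CModel

universe u

/-- Representatives of the classes that cannot meet the conjugates of the central involution. -/
def candUniTwistBad : List ℕ := [1, 8, 2689]

/-- Conjugations of the involutions to the representatives. -/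
def candUniTwistCert : List (ℕ × ℕ × ℕ) := [
  (1, 1, 0), (2, 1, 1536), (3, 1, 256), (4, 1, 1280), (5, 1, 1024), (6, 1, 128),
  (7, 1, 384), (65, 1, 8), (66, 1, 3072), (67, 1, 264), (68, 1, 1288), (69, 1, 1032),
  (70, 1, 136), (71, 1, 392), (8, 8, 0), (11, 8, 6657), (13, 8, 10881), (14, 8, 13825),
  (16, 8, 1536), (17, 8, 18177), (22, 8, 3969), (23, 8, 8193), (24, 8, 1024), (26, 8, 8321),
  (28, 8, 5761), (30, 8, 2817), (32, 8, 1280), (33, 8, 12225), (34, 8, 15489), (35, 8, 5505),
  (40, 8, 128), (43, 8, 3713), (44, 8, 13569), (47, 8, 19137), (48, 8, 384), (49, 8, 19009),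
  (52, 8, 5633), (53, 8, 3073), (56, 8, 256), (58, 8, 15617), (61, 8, 2945), (63, 8, 6401),
  (72, 8, 1), (75, 8, 6656), (77, 8, 10880), (78, 8, 13824), (80, 8, 1537), (81, 8, 18176),
  (86, 8, 3968), (87, 8, 8192), (88, 8, 1025), (90, 8, 8320), (92, 8, 5760), (94, 8, 2816),
  (96, 8, 1281), (97, 8, 12224), (98, 8, 15488), (99, 8, 5504), (104, 8, 129), (107, 8, 3712),
  (108, 8, 13568), (111, 8, 19136), (112, 8, 385), (113, 8, 19008), (116, 8, 5632), (117, 8, 3072),
  (120, 8, 257), (122, 8, 15616), (125, 8, 2944), (127, 8, 6400), (2689, 2689, 0), (2692, 2689, 3),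
  (2738, 2689, 16), (2743, 2689, 32), (2753, 2689, 1), (2756, 2689, 2), (2802, 2689, 17), (2807, 2689, 33),
  (3585, 2689, 896), (3586, 2689, 899), (3620, 2689, 928), (3623, 2689, 912), (3649, 2689, 897), (3650, 2689, 898),
  (3684, 2689, 929), (3687, 2689, 913), (4481, 2689, 1792), (4487, 2689, 3586), (4498, 2689, 1824), (4500, 2689, 1808),
  (4545, 2689, 3584), (4551, 2689, 1794), (4562, 2689, 1825), (4564, 2689, 3683), (6146, 2689, 131), (6150, 2689, 128),
  (6169, 2689, 144), (6173, 2689, 160), (6210, 2689, 130), (6214, 2689, 129), (6233, 2689, 152), (6237, 2689, 161),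
  (7041, 2689, 1158), (7046, 2689, 1152), (7058, 2689, 1184), (7061, 2689, 1168), (7105, 2689, 1154), (7110, 2689, 1153),
  (7122, 2689, 1192), (7125, 2689, 1169), (7941, 2689, 6274), (7942, 2689, 2304), (7945, 2689, 2336), (7946, 2689, 2320),
  (8005, 2689, 2306), (8006, 2689, 6272), (8009, 2689, 2337), (8010, 2689, 6371), (8705, 2689, 259), (8707, 2689, 256),
  (8740, 2689, 288), (8742, 2689, 272), (8769, 2689, 258), (8771, 2689, 257), (8804, 2689, 289), (8806, 2689, 280),
  (9603, 2689, 1408), (9606, 2689, 1414), (9609, 2689, 1440), (9612, 2689, 1424), (9667, 2689, 1409), (9670, 2689, 1410),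
  (9673, 2689, 1448), (9676, 2689, 1425), (10499, 2689, 1920), (10500, 2689, 1923), (10537, 2689, 1936), (10542, 2689, 1952),
  (10563, 2689, 1921), (10564, 2689, 1922), (10601, 2689, 1944), (10606, 2689, 1953), (11270, 2689, 387), (11271, 2689, 384),
  (11282, 2689, 416), (11283, 2689, 400), (11334, 2689, 386), (11335, 2689, 385), (11346, 2689, 417), (11347, 2689, 408),
  (12163, 2689, 2816), (12167, 2689, 2818), (12202, 2689, 2832), (12206, 2689, 2913), (12227, 2689, 2817), (12231, 2689, 2883),
  (12266, 2689, 2840), (12270, 2689, 2848), (13058, 2689, 2435), (13063, 2689, 2432), (13115, 2689, 2464), (13118, 2689, 2448),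
  (13122, 2689, 2434), (13127, 2689, 2433), (13179, 2689, 2472), (13182, 2689, 2456), (13827, 2689, 20416), (13829, 2689, 512),
  (13833, 2689, 544), (13839, 2689, 528), (13891, 2689, 4992), (13893, 2689, 13440), (13897, 2689, 552), (13903, 2689, 536),
  (14725, 2689, 1024), (14727, 2689, 1027), (14777, 2689, 1040), (14779, 2689, 1056), (14789, 2689, 1025), (14791, 2689, 1026),
  (14841, 2689, 1048), (14843, 2689, 1057), (15617, 2689, 2054), (15621, 2689, 2048), (15667, 2689, 2064), (15671, 2689, 2080),
  (15681, 2689, 2050), (15685, 2689, 2049), (15731, 2689, 2072), (15735, 2689, 2088), (16388, 2689, 640), (16391, 2689, 4224),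
  (16429, 2689, 656), (16430, 2689, 672), (16452, 2689, 16128), (16455, 2689, 7680), (16493, 2689, 664), (16494, 2689, 680),
  (17284, 2689, 1280), (17285, 2689, 1283), (17334, 2689, 1296), (17335, 2689, 1312), (17348, 2689, 1281), (17349, 2689, 1282),
  (17398, 2689, 1304), (17399, 2689, 1313), (18180, 2689, 4610), (18182, 2689, 4608), (18205, 2689, 4705), (18207, 2689, 4624),
  (18244, 2689, 4675), (18246, 2689, 4609), (18269, 2689, 4640), (18271, 2689, 4632), (18946, 2689, 3714), (18949, 2689, 3712),
  (19003, 2689, 3745), (19004, 2689, 3728), (19010, 2689, 3715), (19013, 2689, 3713), (19067, 2689, 3744), (19068, 2689, 3736),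
  (19842, 2689, 1536), (19844, 2689, 1539), (19867, 2689, 1552), (19869, 2689, 1568), (19906, 2689, 1537), (19908, 2689, 1538),
  (19931, 2689, 1560), (19933, 2689, 1569), (20738, 2689, 3072), (20739, 2689, 7296), (20772, 2689, 2208), (20773, 2689, 3088),
  (20802, 2689, 3073), (20803, 2689, 7297), (20836, 2689, 3104), (20837, 2689, 3096)]

theorem candUniTwist_invol :
    cosetAll (fun i => lmul i i == 0) (involCheck (cmul 1 1) candUniTwistBad [] candUniTwistCert) 168 =
      true := by
  decide +kernel

theorem candUniTwist_roots : candUniTwistBad.map (cand 1 1).rootN = [48, 0, 8] := by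
  simp only [candUniTwistBad, List.map, cand_eq, codeCand_rootN (cmul_div 1 1)]
  decide +kernel

theorem candUniTwist_rootsT : (1 :: candUniTwistBad).map (cand 1 1).rootTN = [192, 192, 72, 56] := by
  simp only [candUniTwistBad, List.map, cand_eq, codeCand_rootTN (cmul_div 1 1)]
  decide +kernel

theorem candUniTwist_facts : CandFacts (cand 1 1) candUniTwistBad [] 1 :=
  codeCand_facts (cmul_lt 1 1) (cmul_div 1 1) _ _ 1 candUniTwistCert [] (by decide +kernel)
    (by decide +kernel) candUniTwist_invol (by decide +kernel) (by decide +kernel) (by decide +kernel)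
    (Cand.mismatch_of_counts _ _ _ _ _ candUniTwist_roots candUniTwist_rootsT []
      (by simp)
      (by decide +kernel))

/-- The centraliser of an involution of a simple group of Held's order is not this candidate. -/
theorem false_of_candUniTwist {G : Type u} [Group G] [Finite G] [IsSimpleGroup G]
    (hna : ¬ IsMulCommutative G) {t : G} (ht : orderOf t = 2)
    {ψ : ℕ → G} (hψ : IsCandFrame (cand 1 1) t ψ) : False :=
  hψ.false_of_facts candUniTwist_facts hna ht (by decide +kernel) (by decide +kernel) (by decide +kernel)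
    (fun h => absurd rfl h)

end CfsgLib.InvChar.HeRec.CModel
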