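import Cfsg.Agent.Lib.InvChar.HeRec.CandRoots
import Cfsg.Agent.Lib.InvChar.SimpleInvol
import Cfsg.Agent.Lib.Transfer.Simple168
import Mathlib.Algebra.BigOperators.Group.Finset.Basic

/-!
# A group whose involution centraliser is a wrong candidate for Held's group

A candidate is a finite set of codes with a multiplication.  From class representatives, their counts
and a commuting orbit `O`, the conjugates of `t` in `C(t)` lie in `{t} ∪ ψ O`; then either `t` is
isolated, or the blocks give an odd permutation.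
-/

set_option autoImplicit false

namespace CfsgLib.InvChar.HeRec

universe u

/-- A multiplication on a finite set of codes with identity `one` and distinguished element `z`. -/
structure Cand where
  mul : ℕ → ℕ → ℕ
  mem : Finset ℕ
  one : ℕ
  z : ℕ

/-- The size of the centraliser of a code. -/
def Cand.centN (K : Cand) (r : ℕ) : ℕ :=
  (K.mem.filter fun x => K.mul x r = K.mul r x).card

/-- The number of square roots of a code. -/
def Cand.rootN (K : Cand) (r : ℕ) : ℕ :=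
  (K.mem.filter fun x => K.mul x x = r).card

/-- The number of square roots of `z` in the centraliser of a code. -/
def Cand.rootTN (K : Cand) (r : ℕ) : ℕ :=
  (K.mem.filter fun x => K.mul x r = K.mul r x ∧ K.mul x x = K.z).card

/-- `ψ` identifies the candidate with the centraliser of `t`. -/
structure IsCandFrame {G : Type u} [Group G] (K : Cand) (t : G) (ψ : ℕ → G) : Prop where
  map_mul : ∀ x ∈ K.mem, ∀ y ∈ K.mem, ψ (K.mul x y) = ψ x * ψ y
  inj : ∀ x ∈ K.mem, ∀ y ∈ K.mem, ψ x = ψ y → x = y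
  mem_iff : ∀ g, g ∈ Subgroup.centralizer ({t} : Set G) ↔ ∃ x ∈ K.mem, ψ x = g
  map_z : ψ K.z = t

/-- The certified facts about a candidate: `bad` and `r₀` represent the classes of involutions other
than `z`; the class of `r₀` is `O`, which commutes in pairs. -/
structure CandFacts (K : Cand) (bad O : List ℕ) (r₀ : ℕ) : Prop where
  closed : ∀ x ∈ K.mem, ∀ y ∈ K.mem, K.mul x y ∈ K.mem
  one_mem : K.one ∈ K.mem
  z_mem : K.z ∈ K.mem
  one_one : K.mul K.one K.one = K.one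
  bad_mem : ∀ r ∈ bad, r ∈ K.mem
  orbit_mem : ∀ r ∈ O, r ∈ K.mem
  r₀_mem : r₀ ∈ K.mem
  invol : ∀ x ∈ K.mem, K.mul x x = K.one →
    x = K.one ∨ x = K.z ∨ x ∈ O ∨ ∃ r ∈ bad, ∃ g ∈ K.mem, K.mul g x = K.mul r g
  orbit : ∀ x ∈ O, ∃ g ∈ K.mem, K.mul g x = K.mul r₀ g
  orbit_comm : ∀ x ∈ O, ∀ y ∈ O, K.mul x y = K.mul y x
  mismatch : ∀ r ∈ bad, ∀ r' ∈ r₀ :: bad,
    ¬ (K.centN r' = K.centN r ∧ K.rootTN r' = K.rootN r)

namespace IsCandFrame

variable {G : Type u} [Group G] {K : Cand} {t : G} {ψ : ℕ → G}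
variable {bad O : List ℕ} {r₀ : ℕ} (hψ : IsCandFrame K t ψ) (F : CandFacts K bad O r₀)
include hψ F

set_option linter.unusedSectionVars false

theorem eq_iff {x y : ℕ} (hx : x ∈ K.mem) (hy : y ∈ K.mem) : ψ x = ψ y ↔ x = y :=
  ⟨hψ.inj x hx y hy, fun h => h ▸ rfl⟩

theorem map_one : ψ K.one = 1 := by
  have h := hψ.map_mul _ F.one_mem _ F.one_mem
  rw [F.one_one] at h
  exact mul_eq_left.1 h.symm

theorem commute_iff {x y : ℕ} (hx : x ∈ K.mem) (hy : y ∈ K.mem) :
    Commute (ψ x) (ψ y) ↔ K.mul x y = K.mul y x := by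
  rw [← hψ.eq_iff F (F.closed x hx y hy) (F.closed y hy x hx), hψ.map_mul x hx y hy,
    hψ.map_mul y hy x hx]
  exact Iff.rfl

theorem sq_iff {x y : ℕ} (hx : x ∈ K.mem) (hy : y ∈ K.mem) :
    ψ x * ψ x = ψ y ↔ K.mul x x = y := by
  rw [← hψ.map_mul x hx x hx, hψ.eq_iff F (F.closed x hx x hx) hy]

theorem commute_t {x : ℕ} (hx : x ∈ K.mem) : Commute (ψ x) t :=
  Subgroup.mem_centralizer_singleton_iff.1 ((hψ.mem_iff _).2 ⟨x, hx, rfl⟩)

theorem card_eq_filter (p : ℕ → Prop) [DecidablePred p] (q : G → Prop)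
    (hpq : ∀ x ∈ K.mem, q (ψ x) ↔ p x) :
    Nat.card {g : G // Commute g t ∧ q g} = (K.mem.filter p).card := by
  let e : {x : ℕ // x ∈ K.mem.filter p} → {g : G // Commute g t ∧ q g} := fun x =>
    ⟨ψ x.1, hψ.commute_t F (Finset.mem_filter.1 x.2).1,
      (hpq _ (Finset.mem_filter.1 x.2).1).2 (Finset.mem_filter.1 x.2).2⟩
  have he : Function.Bijective e := by
    refine ⟨fun x y h => Subtype.ext (hψ.inj _ (Finset.mem_filter.1 x.2).1 _
      (Finset.mem_filter.1 y.2).1 (congrArg Subtype.val h)), fun g => ?_⟩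
    obtain ⟨x, hx, e'⟩ := (hψ.mem_iff g.1).1 (Subgroup.mem_centralizer_singleton_iff.2 g.2.1)
    exact ⟨⟨x, Finset.mem_filter.2 ⟨hx, (hpq x hx).1 (e'.symm ▸ g.2.2)⟩⟩, Subtype.ext e'⟩
  rw [← Nat.card_congr (Equiv.ofBijective e he), Nat.card_eq_fintype_card, Fintype.card_coe]

theorem centCount_eq {r : ℕ} (hr : r ∈ K.mem) : centCount t (ψ r) = K.centN r :=
  hψ.card_eq_filter F _ (fun g => Commute g (ψ r)) fun _ hx => hψ.commute_iff F hx hr

theorem rootCount_eq {r : ℕ} (hr : r ∈ K.mem) : rootCount t (ψ r) = K.rootN r :=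
  hψ.card_eq_filter F _ (fun g => g * g = ψ r) fun _ hx => hψ.sq_iff F hx hr

theorem rootCountT_eq {r : ℕ} (hr : r ∈ K.mem) : rootCountT t (ψ r) = K.rootTN r :=
  hψ.card_eq_filter F _ (fun g => Commute g (ψ r) ∧ g * g = t) fun x hx => by
    rw [hψ.commute_iff F hx hr, ← hψ.map_z, hψ.sq_iff F hx F.z_mem]

/-- A commuting conjugate other than `t` is in `ψ O` or is conjugate in `C(t)` to a representative. -/
theorem cases_of_conj {y : G} (h : IsConj t y) (hc : Commute t y) (hne : y ≠ t)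
    (ht : t * t = 1) (ht1 : t ≠ 1) :
    (∃ x ∈ O, ψ x = y) ∨ ∃ r ∈ bad, ∃ g : G, g * t * g⁻¹ = t ∧ g * y * g⁻¹ = ψ r := by
  obtain ⟨x, hx, rfl⟩ := (hψ.mem_iff y).1 (Subgroup.mem_centralizer_singleton_iff.2 hc.eq.symm)
  have hsq : K.mul x x = K.one := by
    rw [← hψ.sq_iff F hx F.one_mem, hψ.map_one F]
    obtain ⟨g, hg⟩ := isConj_iff.1 h
    rw [← hg, show g * t * g⁻¹ * (g * t * g⁻¹) = g * (t * t) * g⁻¹ by group, ht]
    group
  rcases F.invol x hx hsq with e | e | e | ⟨r, hr, g, hg, e⟩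
  · rw [e, hψ.map_one F] at h
    exact absurd (isConj_one_left.1 h) ht1
  · exact absurd (e ▸ hψ.map_z) hne
  · exact Or.inl ⟨x, e, rfl⟩
  · refine Or.inr ⟨r, hr, ψ g, ?_, ?_⟩
    · rw [(hψ.commute_t F hg).eq, mul_inv_cancel_right]
    · rw [← hψ.map_mul g hg x hx, e, hψ.map_mul r (F.bad_mem r hr) g hg, mul_inv_cancel_right]

theorem orbit_conj {x : ℕ} (hx : x ∈ O) :
    ∃ g : G, g * t * g⁻¹ = t ∧ g * ψ x * g⁻¹ = ψ r₀ := by
  obtain ⟨g, hg, e⟩ := F.orbit x hx
  refine ⟨ψ g, by rw [(hψ.commute_t F hg).eq, mul_inv_cancel_right], ?_⟩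
  rw [← hψ.map_mul g hg x (F.orbit_mem x hx), e, hψ.map_mul r₀ F.r₀_mem g hg,
    mul_inv_cancel_right]

/-- A commuting conjugate other than `t` lies in `ψ O`. -/
theorem mem_orbit {y : G} (h : IsConj t y) (hc : Commute t y) (hne : y ≠ t)
    (ht : t * t = 1) (ht1 : t ≠ 1) : ∃ x ∈ O, ψ x = y := by
  rcases hψ.cases_of_conj F h hc hne ht ht1 with e | ⟨r, hr, g, hgt, hgy⟩
  · exact e
  exfalso
  have hr' : IsConj t (ψ r) := hgy ▸ h.trans (isConj_iff.2 ⟨g, rfl⟩)
  have hrne : ψ r ≠ t := fun e => hne (by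
    exact mul_left_cancel (mul_right_cancel ((hgy.trans e).trans hgt.symm)))
  obtain ⟨y', h', hc', hne', e1, e2⟩ :=
    exists_partner hr' (hψ.commute_t F (F.bad_mem r hr)).symm hrne
  obtain ⟨r', hr'mem, k, hkt, hky⟩ :
      ∃ r' ∈ r₀ :: bad, ∃ k : G, k * t * k⁻¹ = t ∧ k * y' * k⁻¹ = ψ r' := by
    rcases hψ.cases_of_conj F h' hc' hne' ht ht1 with ⟨x, hx, rfl⟩ | ⟨r', hr', hk⟩
    · exact ⟨r₀, List.mem_cons_self, hψ.orbit_conj F hx⟩
    · exact ⟨r', List.mem_cons_of_mem _ hr', hk⟩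
  have hrV : r' ∈ K.mem := by
    rcases List.mem_cons.1 hr'mem with e | e
    · exact e ▸ F.r₀_mem
    · exact F.bad_mem r' e
  rw [← centCount_conj k t y', hkt, hky, hψ.centCount_eq F hrV,
    hψ.centCount_eq F (F.bad_mem r hr)] at e1
  rw [← rootCountT_conj k t y', hkt, hky, hψ.rootCountT_eq F hrV,
    hψ.rootCount_eq F (F.bad_mem r hr)] at e2
  exact F.mismatch r hr r' hr'mem ⟨e1, e2⟩

/-- No simple group of Held's order has a candidate with such facts as its centraliser. -/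
theorem false_of_facts [Finite G] [IsSimpleGroup G] (hna : ¬ IsMulCommutative G)
    (ht : orderOf t = 2) (hO : O.Nodup) (hOz : K.z ∉ O) (hb : Even O.length)
    (hblocks : O ≠ [] → ∃ n, n % 4 = 3 ∧ Nat.card G = K.mem.card * ((O.length + 1) * n)) :
    False := by
  classical
  have ht2 : t * t = 1 := CfsgLib.Invol.invol_mul_self ht
  have ht1 : t ≠ 1 := CfsgLib.Invol.invol_ne_one ht
  by_cases hiso : ∀ y : G, IsConj t y → Commute t y → y = t
  · exact not_isolated_of_simple hna (z := t) ⟨ht, fun g hg => hiso _ (isConj_iff.2 ⟨g, rfl⟩) hg⟩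
  push Not at hiso
  obtain ⟨y, hy, hyc, hyne⟩ := hiso
  obtain ⟨x₀, hx₀, rfl⟩ := hψ.mem_orbit F hy hyc hyne ht2 ht1
  obtain ⟨n, hn, hG⟩ := hblocks (List.ne_nil_of_mem hx₀)
  have h₀ : IsConj t (ψ r₀) := by
    obtain ⟨g, _, hg⟩ := hψ.orbit_conj F hx₀
    exact hg ▸ hy.trans (isConj_iff.2 ⟨g, rfl⟩)
  have hall : ∀ x ∈ O, IsConj t (ψ x) := fun x hx => by
    obtain ⟨g, _, hg⟩ := hψ.orbit_conj F hx
    exact h₀.trans (isConj_iff.2 ⟨g⁻¹, by rw [← hg]; group⟩)
  have hin : ∀ y : G, IsConj t y → Commute t y → y = t ∨ ∃ x ∈ O, ψ x = y := fun y h hc =>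
    or_iff_not_imp_left.2 fun hne => hψ.mem_orbit F h hc hne ht2 ht1
  refine false_of_blocks hna ht2 (b := O.length + 1) (n := n) ?_ ?_ ?_ ?_ hn
  · intro h; obtain ⟨k, hk⟩ := hb; omega
  · intro a b ha hb hca hcb
    rcases hin a ha hca with rfl | ⟨x, hx, rfl⟩
    · exact hcb
    rcases hin b hb hcb with rfl | ⟨x', hx', rfl⟩
    · exact hca.symm
    exact (hψ.commute_iff F (F.orbit_mem x hx) (F.orbit_mem x' hx')).2 (F.orbit_comm x hx x' hx')
  · have hset : {x : G | IsConj t x ∧ Commute t x} = (((K.z :: O).map ψ).toFinset : Set G) := by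
      ext a
      simp only [Set.mem_setOf_eq, List.coe_toFinset, List.mem_map, List.mem_cons]
      refine ⟨fun h => ?_, ?_⟩
      · rcases hin a h.1 h.2 with rfl | ⟨x, hx, rfl⟩
        · exact ⟨K.z, Or.inl rfl, hψ.map_z⟩
        · exact ⟨x, Or.inr hx, rfl⟩
      · rintro ⟨x, rfl | hx, rfl⟩
        · rw [hψ.map_z]; exact ⟨IsConj.refl t, Commute.refl t⟩
        · exact ⟨hall x hx, (hψ.commute_t F (F.orbit_mem x hx)).symm⟩
    show Nat.card ↥{x : G | IsConj t x ∧ Commute t x} = _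
    rw [hset, Nat.card_coe_set_eq, Set.ncard_coe_finset, List.toFinset_card_of_nodup,
      List.length_map, List.length_cons]
    refine List.Nodup.map_on ?_ (List.nodup_cons.2 ⟨hOz, hO⟩)
    have hV : ∀ a ∈ K.z :: O, a ∈ K.mem := fun a ha => by
      rcases List.mem_cons.1 ha with e | e
      · exact e ▸ F.z_mem
      · exact F.orbit_mem a e
    exact fun a ha b hb e => hψ.inj a (hV a ha) b (hV b hb) e
  · have hC : Nat.card (Subgroup.centralizer ({t} : Set G)) = K.mem.card := by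
      rw [show K.mem.card = (K.mem.filter fun _ => True).card by simp,
        ← hψ.card_eq_filter F (fun _ => True) (fun _ => True) fun _ _ => Iff.rfl]
      exact Nat.card_congr (Equiv.subtypeEquivRight fun g =>
        Subgroup.mem_centralizer_singleton_iff.trans ⟨fun h => ⟨h, trivial⟩, fun h => h.1⟩)
    have hpos : 0 < K.mem.card := Finset.card_pos.2 ⟨_, F.one_mem⟩
    refine Nat.eq_of_mul_eq_mul_left hpos ?_
    rw [← hG, ← hC, mul_comm]
    exact CfsgLib.Transfer.card_isConj_mul_card_centralizer t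

end IsCandFrame

end CfsgLib.InvChar.HeRec
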