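import Cfsg.Agent.Lib.InvChar.HeRec.CModel
import Cfsg.Agent.Lib.InvChar.HeRec.CandFrame

/-!
# The candidate models as candidates
-/

set_option autoImplicit false

namespace CfsgLib.InvChar.HeRec.CModel

/-- The candidate with action `u` and twist `e`. -/
def cand (u e : ℕ) : Cand where
  mul := cmul u e
  mem := Finset.range cSize
  one := cOne
  z := cZ

end CfsgLib.InvChar.HeRec.CModel
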