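import Cfsg.Agent.Lib.InvChar.HeRec.Model
import Mathlib

/-!
# The fields of a code: products and the action on the 16 points
-/

set_option autoImplicit false
set_option maxRecDepth 100000

namespace CfsgLib.InvChar.HeRec

/-- The code with given matrix, column, row and corner. -/
def mk (A u f c : ℕ) : ℕ := A + 512 * u + 4096 * f + 32768 * c

/-- Product of two matrices. -/
def matMul (A B : ℕ) : ℕ :=
  rowMul (A &&& 7) B + 8 * rowMul ((A >>> 3) &&& 7) B + 64 * rowMul ((A >>> 6) &&& 7) B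

theorem fields {A u f : ℕ} (c : ℕ) (hA : A < 512) (hu : u < 8) (hf : f < 8) :
    mk A u f c &&& 511 = A ∧ (mk A u f c >>> 9) &&& 7 = u ∧ (mk A u f c >>> 12) &&& 7 = f ∧
      mk A u f c >>> 15 = c := by
  unfold mk
  rw [show (511 : ℕ) = 2 ^ 9 - 1 from rfl, show (7 : ℕ) = 2 ^ 3 - 1 from rfl,
    Nat.and_two_pow_sub_one_eq_mod, Nat.and_two_pow_sub_one_eq_mod, Nat.and_two_pow_sub_one_eq_mod,
    Nat.shiftRight_eq_div_pow, Nat.shiftRight_eq_div_pow, Nat.shiftRight_eq_div_pow]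
  omega

theorem mk_self (x : ℕ) : mk (x &&& 511) ((x >>> 9) &&& 7) ((x >>> 12) &&& 7) (x >>> 15) = x := by
  unfold mk
  rw [show (511 : ℕ) = 2 ^ 9 - 1 from rfl, show (7 : ℕ) = 2 ^ 3 - 1 from rfl,
    Nat.and_two_pow_sub_one_eq_mod, Nat.and_two_pow_sub_one_eq_mod, Nat.and_two_pow_sub_one_eq_mod,
    Nat.shiftRight_eq_div_pow, Nat.shiftRight_eq_div_pow, Nat.shiftRight_eq_div_pow]
  omega

theorem rowMul_lt (r B : ℕ) : rowMul r B < 8 := by
  have h : ∀ a b : ℕ, (a &&& 1) * (b &&& 7) < 2 ^ 3 := fun a b => by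
    have h1 : a &&& 1 ≤ 1 := Nat.and_le_right
    have h2 : b &&& 7 ≤ 7 := Nat.and_le_right
    calc (a &&& 1) * (b &&& 7) ≤ 1 * 7 := Nat.mul_le_mul h1 h2
      _ < 2 ^ 3 := by norm_num
  exact Nat.xor_lt_two_pow (n := 3) (Nat.xor_lt_two_pow (n := 3) (h _ _) (h _ _)) (h _ _)

theorem parThree_le (x : ℕ) : parThree x ≤ 1 := Nat.and_le_right

theorem colMul_lt (A v : ℕ) : colMul A v < 8 := by
  have h1 := parThree_le (A &&& v)
  have h2 := parThree_le ((A >>> 3) &&& v)
  have h3 := parThree_le ((A >>> 6) &&& v)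
  unfold colMul
  omega

theorem matMul_lt (A B : ℕ) : matMul A B < 512 := by
  have h1 := rowMul_lt (A &&& 7) B
  have h2 := rowMul_lt ((A >>> 3) &&& 7) B
  have h3 := rowMul_lt ((A >>> 6) &&& 7) B
  unfold matMul
  omega

theorem hmul_mk {A u f c B v g d : ℕ} (hA : A < 512) (hu : u < 8) (hf : f < 8) (hB : B < 512)
    (hv : v < 8) (hg : g < 8) :
    hmul (mk A u f c) (mk B v g d) =
      mk (matMul A B) (colMul A v ^^^ u) (rowMul f B ^^^ g) (c ^^^ d ^^^ parThree (f &&& v)) := by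
  obtain ⟨a1, a2, a3, a4⟩ := fields c hA hu hf
  obtain ⟨b1, b2, b3, b4⟩ := fields d hB hv hg
  simp only [hmul, a1, a2, a3, a4, b1, b2, b3, b4]
  rfl

/-- All numbers below `n` satisfy `f`. -/
def below (n : ℕ) (f : ℕ → Bool) : Bool := (List.range n).all f

theorem of_below {n : ℕ} {f : ℕ → Bool} (h : below n f = true) {i : ℕ} (hi : i < n) : f i = true :=
  List.all_eq_true.1 h i (List.mem_range.2 hi)

theorem transpose_check : below 8 (fun f => below 512 fun B => below 8 fun v =>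
    parThree (rowMul f B &&& v) == parThree (f &&& colMul B v)) = true := by decide +kernel

theorem col_linear_check : below 512 (fun A => below 8 fun a => below 8 fun b =>
    colMul A (a ^^^ b) == (colMul A a ^^^ colMul A b)) = true := by decide +kernel

theorem par_linear_check : below 8 (fun a => below 8 fun b => below 8 fun v =>
    parThree ((a ^^^ b) &&& v) == (parThree (a &&& v) ^^^ parThree (b &&& v)) &&
      parThree (v &&& (a ^^^ b)) == (parThree (v &&& a) ^^^ parThree (v &&& b))) = true := by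
  decide +kernel

theorem transpose {f B v : ℕ} (hf : f < 8) (hB : B < 512) (hv : v < 8) :
    parThree (rowMul f B &&& v) = parThree (f &&& colMul B v) :=
  beq_iff_eq.1 (of_below (of_below (of_below transpose_check hf) hB) hv)

theorem col_linear {A a b : ℕ} (hA : A < 512) (ha : a < 8) (hb : b < 8) :
    colMul A (a ^^^ b) = colMul A a ^^^ colMul A b :=
  beq_iff_eq.1 (of_below (of_below (of_below col_linear_check hA) ha) hb)

theorem par_left {a b v : ℕ} (ha : a < 8) (hb : b < 8) (hv : v < 8) :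
    parThree ((a ^^^ b) &&& v) = parThree (a &&& v) ^^^ parThree (b &&& v) :=
  beq_iff_eq.1 (Bool.and_eq_true_iff.1 (of_below (of_below (of_below par_linear_check ha) hb) hv)).1

theorem par_right {a b v : ℕ} (ha : a < 8) (hb : b < 8) (hv : v < 8) :
    parThree (v &&& (a ^^^ b)) = parThree (v &&& a) ^^^ parThree (v &&& b) :=
  beq_iff_eq.1 (Bool.and_eq_true_iff.1 (of_below (of_below (of_below par_linear_check ha) hb) hv)).2

theorem and_seven_lt (x : ℕ) : x &&& 7 < 8 := Nat.lt_succ_of_le Nat.and_le_right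

theorem rows {r0 r1 r2 v : ℕ} (h0 : r0 < 8) (h1 : r1 < 8) (h2 : r2 < 8) (hv : v < 8) :
    colMul (r0 + 8 * r1 + 64 * r2) v =
      parThree (r0 &&& v) + 2 * parThree (r1 &&& v) + 4 * parThree (r2 &&& v) := by
  have hm : ∀ a : ℕ, a &&& v = (a % 8) &&& v := fun a => by
    apply Nat.eq_of_testBit_eq
    intro i
    rw [Nat.testBit_and, Nat.testBit_and, show 8 = 2 ^ 3 from rfl, Nat.testBit_mod_two_pow]
    by_cases hi : i < 3
    · simp [hi]
    · rw [Nat.testBit_lt_two_pow (lt_of_lt_of_le (show v < 2 ^ 3 from hv)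
        (Nat.pow_le_pow_right (show 0 < 2 by norm_num) (Nat.le_of_not_lt hi)))]
      simp
  unfold colMul
  rw [hm (r0 + 8 * r1 + 64 * r2), hm ((r0 + 8 * r1 + 64 * r2) >>> 3),
    hm ((r0 + 8 * r1 + 64 * r2) >>> 6), Nat.shiftRight_eq_div_pow, Nat.shiftRight_eq_div_pow,
    show (r0 + 8 * r1 + 64 * r2) % 8 = r0 by omega,
    show (r0 + 8 * r1 + 64 * r2) / 2 ^ 3 % 8 = r1 by omega,
    show (r0 + 8 * r1 + 64 * r2) / 2 ^ 6 % 8 = r2 by omega]

theorem colMul_matMul {A B v : ℕ} (hA : A < 512) (hB : B < 512) (hv : v < 8) :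
    colMul (matMul A B) v = colMul A (colMul B v) := by
  have hc := colMul_lt B v
  rw [matMul, rows (rowMul_lt _ _) (rowMul_lt _ _) (rowMul_lt _ _) hv,
    transpose (and_seven_lt _) hB hv, transpose (and_seven_lt _) hB hv,
    transpose (and_seven_lt _) hB hv,
    show colMul A (colMul B v) = colMul ((A &&& 7) + 8 * ((A >>> 3) &&& 7) + 64 * ((A >>> 6) &&& 7))
      (colMul B v) from ?_, rows (and_seven_lt _) (and_seven_lt _) (and_seven_lt _) hc]
  congr 1
  rw [show (7 : ℕ) = 2 ^ 3 - 1 from rfl, Nat.and_two_pow_sub_one_eq_mod,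
    Nat.and_two_pow_sub_one_eq_mod, Nat.and_two_pow_sub_one_eq_mod, Nat.shiftRight_eq_div_pow,
    Nat.shiftRight_eq_div_pow]
  omega

/-- The action in fields. -/
def act (A u f c i : ℕ) : ℕ :=
  ((i &&& 1) ^^^ parThree (f &&& (i >>> 1)) ^^^ c) + 2 * (colMul A (i >>> 1) ^^^ u)

theorem bit_xor {a b : ℕ} (ha : a ≤ 1) (hb : b ≤ 1) : a ^^^ b ≤ 1 :=
  Nat.le_of_lt_succ (Nat.xor_lt_two_pow (n := 1) (Nat.lt_succ_of_le ha) (Nat.lt_succ_of_le hb))

theorem act_lt {A u f c i : ℕ} (hu : u < 8) (hc : c ≤ 1) : act A u f c i < 16 := by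
  have h1 := bit_xor (bit_xor (a := i &&& 1) Nat.and_le_right (parThree_le (f &&& (i >>> 1)))) hc
  have h2 := Nat.xor_lt_two_pow (n := 3) (colMul_lt A (i >>> 1)) hu
  unfold act
  omega

theorem act_comp {A u f c B v g d i : ℕ} (hA : A < 512) (hf : f < 8) (hB : B < 512)
    (hv : v < 8) (hg : g < 8) (hd : d ≤ 1) (hi : i < 16) :
    act (matMul A B) (colMul A v ^^^ u) (rowMul f B ^^^ g) (c ^^^ d ^^^ parThree (f &&& v)) i =
      act A u f c (act B v g d i) := by
  have hi8 : i >>> 1 < 8 := by rw [Nat.shiftRight_eq_div_pow]; omega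
  have hb : (i &&& 1) ^^^ parThree (g &&& (i >>> 1)) ^^^ d ≤ 1 :=
    bit_xor (bit_xor Nat.and_le_right (parThree_le _)) hd
  have e1 : act B v g d i &&& 1 = (i &&& 1) ^^^ parThree (g &&& (i >>> 1)) ^^^ d := by
    rw [act, show (1 : ℕ) = 2 ^ 1 - 1 from rfl, Nat.and_two_pow_sub_one_eq_mod]
    simp only [show (2 : ℕ) ^ 1 - 1 = 1 from rfl]
    omega
  have e2 : act B v g d i >>> 1 = colMul B (i >>> 1) ^^^ v := by
    rw [act, Nat.shiftRight_eq_div_pow]
    simp only [← Nat.shiftRight_eq_div_pow]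
    omega
  conv_rhs => rw [act, e1, e2, col_linear hA (colMul_lt _ _) hv, ← colMul_matMul hA hB hi8,
    par_right (colMul_lt _ _) hv hf, ← transpose hf hB hi8]
  rw [act, par_left (rowMul_lt _ _) hg hi8]
  simp only [Nat.xor_assoc, Nat.xor_comm, Nat.xor_left_comm]

end CfsgLib.InvChar.HeRec
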