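import Cfsg.Agent.Lib.InvChar.HeRec.ConvertData
import Cfsg.Agent.Lib.InvChar.HeRec.Fields
import Cfsg.Agent.Lib.InvChar.HeRec.CCand

/-!
# The split candidate is the centraliser in Held's group

The translations and matrices multiply as the two parts of the candidate; as the product of matrix codes is
associative, `toH` is multiplicative.
-/

set_option autoImplicit false
set_option maxRecDepth 100000

namespace CfsgLib.InvChar.HeRec

theorem matrix_ext_check : below 512 (fun A =>
    (A == (colMul A 1 &&& 1) + 2 * (colMul A 2 &&& 1) + 4 * (colMul A 4 &&& 1)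
      + 8 * ((colMul A 1 >>> 1) &&& 1) + 16 * ((colMul A 2 >>> 1) &&& 1) + 32 * ((colMul A 4 >>> 1) &&& 1)
      + 64 * (colMul A 1 >>> 2) + 128 * (colMul A 2 >>> 2) + 256 * (colMul A 4 >>> 2))) = true := by
  decide +kernel

theorem vec_ext_check : below 8 (fun a => a ==
    parThree (a &&& 1) + 2 * parThree (a &&& 2) + 4 * parThree (a &&& 4)) = true := by decide +kernel

theorem matrix_ext {A B : ℕ} (hA : A < 512) (hB : B < 512) (h : ∀ v < 8, colMul A v = colMul B v) :
    A = B := by
  rw [beq_iff_eq.1 (of_below matrix_ext_check hA), beq_iff_eq.1 (of_below matrix_ext_check hB),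
    h 1 (by norm_num), h 2 (by norm_num), h 4 (by norm_num)]

theorem vec_ext {a b : ℕ} (ha : a < 8) (hb : b < 8) (h : ∀ v < 8, parThree (a &&& v) = parThree (b &&& v)) :
    a = b := by
  rw [beq_iff_eq.1 (of_below vec_ext_check ha), beq_iff_eq.1 (of_below vec_ext_check hb),
    h 1 (by norm_num), h 2 (by norm_num), h 4 (by norm_num)]

theorem matMul_assoc {A B C : ℕ} (hA : A < 512) (hB : B < 512) (hC : C < 512) :
    matMul (matMul A B) C = matMul A (matMul B C) :=
  matrix_ext (matMul_lt _ _) (matMul_lt _ _) fun v hv => by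
    rw [colMul_matMul (matMul_lt _ _) hC hv, colMul_matMul hA hB (colMul_lt _ _),
      colMul_matMul hA (matMul_lt _ _) hv, colMul_matMul hB hC hv]

theorem row_linear {a b B : ℕ} (ha : a < 8) (hb : b < 8) (hB : B < 512) :
    rowMul (a ^^^ b) B = rowMul a B ^^^ rowMul b B :=
  vec_ext (rowMul_lt _ _) (Nat.xor_lt_two_pow (n := 3) (rowMul_lt _ _) (rowMul_lt _ _)) fun v hv => by
    rw [transpose (Nat.xor_lt_two_pow (n := 3) ha hb) hB hv, par_left ha hb (colMul_lt _ _),
      par_left (rowMul_lt _ _) (rowMul_lt _ _) hv, transpose ha hB hv, transpose hb hB hv]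

theorem rowMul_matMul {f B C : ℕ} (hf : f < 8) (hB : B < 512) (hC : C < 512) :
    rowMul f (matMul B C) = rowMul (rowMul f B) C :=
  vec_ext (rowMul_lt _ _) (rowMul_lt _ _) fun v hv => by
    rw [transpose hf (matMul_lt _ _) hv, colMul_matMul hB hC hv, ← transpose hf hB (colMul_lt _ _),
      ← transpose (rowMul_lt _ _) hC hv]

theorem and_511_lt (x : ℕ) : x &&& 511 < 512 := Nat.lt_succ_of_le Nat.and_le_right

theorem hmul_assoc' (x y w : ℕ) : hmul (hmul x y) w = hmul x (hmul y w) := by
  have x3 : ∀ {a b : ℕ}, a < 8 → b < 8 → a ^^^ b < 8 := fun ha hb => Nat.xor_lt_two_pow (n := 3) ha hb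
  rw [← mk_self x, ← mk_self y, ← mk_self w]
  generalize hA : x &&& 511 = A
  generalize hu : (x >>> 9) &&& 7 = u
  generalize hf : (x >>> 12) &&& 7 = f
  generalize x >>> 15 = c
  generalize hB : y &&& 511 = B
  generalize hv : (y >>> 9) &&& 7 = v
  generalize hg : (y >>> 12) &&& 7 = g
  generalize y >>> 15 = d
  generalize hC : w &&& 511 = C
  generalize hp : (w >>> 9) &&& 7 = p
  generalize hh : (w >>> 12) &&& 7 = k
  generalize w >>> 15 = e
  replace hA : A < 512 := hA ▸ and_511_lt x
  replace hB : B < 512 := hB ▸ and_511_lt y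
  replace hC : C < 512 := hC ▸ and_511_lt w
  replace hu : u < 8 := hu ▸ and_seven_lt _
  replace hf : f < 8 := hf ▸ and_seven_lt _
  replace hv : v < 8 := hv ▸ and_seven_lt _
  replace hg : g < 8 := hg ▸ and_seven_lt _
  replace hp : p < 8 := hp ▸ and_seven_lt _
  replace hh : k < 8 := hh ▸ and_seven_lt _
  rw [hmul_mk hA hu hf hB hv hg,
    hmul_mk (matMul_lt _ _) (x3 (colMul_lt _ _) hu) (x3 (rowMul_lt _ _) hg) hC hp hh,
    hmul_mk hB hv hg hC hp hh,
    hmul_mk hA hu hf (matMul_lt _ _) (x3 (colMul_lt _ _) hv) (x3 (rowMul_lt _ _) hh),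
    matMul_assoc hA hB hC, row_linear (rowMul_lt _ _) hg hC, rowMul_matMul hf hB hC,
    colMul_matMul hA hB hp, col_linear hA (colMul_lt _ _) hv,
    par_left (rowMul_lt _ _) hg hp, transpose hf hB hp, par_right (colMul_lt _ _) hv hf]
  simp only [Nat.xor_assoc, Nat.xor_comm, Nat.xor_left_comm]

namespace CModel

theorem qpart_check : below 128 (fun p => below 128 fun q =>
    qH (qmul p q) == hmul (qH p) (qH q) && decide (qmul p q < 128)) = true := by decide +kernel

theorem act_check : below 168 (fun n => below 128 fun q =>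
    hmul (lH n) (qH q) == hmul (qH (actN 0 n q)) (lH n) && decide (actN 0 n q < 128)) = true := by
  decide +kernel

theorem lpart_check : below 168 (fun n => below 168 fun m =>
    hmul (lH n) (lH m) == lH (lmul n m) && decide (lmul n m < 168)) = true := by decide +kernel

theorem qmul_zero_check : below 128 (fun p => qmul p 0 == p) = true := by decide +kernel

theorem left_inv_check : below 168 (fun n => below 128 fun q =>
    fromH (toH (q + 128 * n)) == q + 128 * n && hvalid (toH (q + 128 * n))) = true := by decide +kernel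

theorem right_inv_check : below 512 (fun A => !hvalid A || below 128 fun k =>
    toH (fromH (A + 512 * k)) == A + 512 * k && decide (fromH (A + 512 * k) < 21504)) = true := by
  decide +kernel

theorem hvalid_low {x : ℕ} (h : hvalid x = true) : x < 65536 ∧ hvalid (x % 512) = true := by
  have e0 : x % 512 % 8 = x % 8 := by omega
  have e1 : x % 512 / 8 % 8 = x / 8 % 8 := by omega
  have e2 : x % 512 / 64 % 8 = x / 64 % 8 := by omega
  simp only [hvalid, Bool.and_eq_true, decide_eq_true_eq, bne_iff_ne, ne_eq, Nat.shiftRight_eq_div_pow,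
    show (7 : ℕ) = 2 ^ 3 - 1 from rfl, Nat.and_two_pow_sub_one_eq_mod] at h ⊢
  norm_num at h ⊢
  simp only [e1, e2]
  omega

theorem toH_fromH {x : ℕ} (h : hvalid x = true) : toH (fromH x) = x ∧ fromH x < 21504 := by
  obtain ⟨hx, hv⟩ := hvalid_low h
  have hk := of_below right_inv_check (show x % 512 < 512 by omega)
  rw [hv, Bool.not_true, Bool.false_or] at hk
  have h2 := of_below hk (show x / 512 < 128 by omega)
  rw [show x % 512 + 512 * (x / 512) = x from by omega, Bool.and_eq_true, beq_iff_eq,
    decide_eq_true_eq] at h2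
  exact h2

theorem fromH_toH {c : ℕ} (h : c < 21504) : fromH (toH c) = c ∧ hvalid (toH c) = true := by
  have h2 := of_below (of_below left_inv_check (show c / 128 < 168 by omega)) (show c % 128 < 128 by omega)
  rw [show c % 128 + 128 * (c / 128) = c from by omega, Bool.and_eq_true, beq_iff_eq] at h2
  exact h2

theorem toH_cmul {a b : ℕ} (ha : a < 21504) (hb : b < 21504) :
    toH (cmul 0 0 a b) = hmul (toH a) (toH b) ∧ cmul 0 0 a b < 21504 := by
  have hp : a % 128 < 128 := by omega
  have hn : a / 128 < 168 := by omega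
  have hq : b % 128 < 128 := by omega
  have hm : b / 128 < 168 := by omega
  have h1 := of_below (of_below act_check hn) hq
  have h2 := of_below (of_below lpart_check hn) hm
  rw [Bool.and_eq_true, beq_iff_eq, decide_eq_true_eq] at h1 h2
  have h3 := of_below (of_below qpart_check hp) h1.2
  rw [Bool.and_eq_true, beq_iff_eq, decide_eq_true_eq] at h3
  have hb0 : lbit 0 (a / 128) (b / 128) = 0 := by
    unfold lbit
    simp
  have hc : cmul 0 0 a b = qmul (a % 128) (actN 0 (a / 128) (b % 128)) + 128 * lmul (a / 128) (b / 128) := by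
    unfold cmul
    rw [hb0, Nat.mul_zero, beq_iff_eq.1 (of_below qmul_zero_check h3.2)]
  refine ⟨?_, by omega⟩
  rw [toH, show cmul 0 0 a b % 128 = qmul (a % 128) (actN 0 (a / 128) (b % 128)) by omega,
    show cmul 0 0 a b / 128 = lmul (a / 128) (b / 128) by omega, h3.1, ← h2.1]
  unfold toH
  rw [hmul_assoc', ← hmul_assoc' (qH (actN 0 _ _)), ← h1.1, hmul_assoc', ← hmul_assoc']

/-- A frame for the split candidate is a frame. -/
theorem isFrame_of_cand {G : Type*} [Group G] {t : G} {ψ : ℕ → G} (hψ : IsCandFrame (cand 0 0) t ψ) :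
    IsFrame t (fun x => ψ (fromH x)) := by
  have hm : ∀ {x}, hvalid x = true → fromH x ∈ Finset.range cSize := fun h =>
    Finset.mem_range.2 (toH_fromH h).2
  constructor
  · intro x y hx hy
    show ψ (fromH (hmul x y)) = ψ (fromH x) * ψ (fromH y)
    obtain ⟨hc, hlt⟩ := toH_cmul (toH_fromH hx).2 (toH_fromH hy).2
    rw [(toH_fromH hx).1, (toH_fromH hy).1] at hc
    rw [← hc, (fromH_toH hlt).1]
    exact hψ.map_mul _ (hm hx) _ (hm hy)
  · intro x y hx hy h
    have := hψ.inj _ (hm hx) _ (hm hy) h
    rw [← (toH_fromH hx).1, this, (toH_fromH hy).1]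
  · intro g
    rw [hψ.mem_iff]
    constructor
    · rintro ⟨c, hc, rfl⟩
      obtain ⟨h1, h2⟩ := fromH_toH (Finset.mem_range.1 hc)
      exact ⟨toH c, h2, congrArg ψ h1⟩
    · rintro ⟨x, hx, rfl⟩
      exact ⟨fromH x, hm hx, rfl⟩
  · show ψ (fromH hZ) = t
    rw [show fromH hZ = (cand 0 0).z by decide +kernel]
    exact hψ.map_z

end CModel

end CfsgLib.InvChar.HeRec
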