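import Cfsg.Agent.Lib.InvChar.HeRec.BFrame.Exists
import Cfsg.Agent.Lib.InvChar.HeRec.Convert
import Cfsg.Agent.Lib.InvChar.HeRec.CandUni
import Cfsg.Agent.Lib.InvChar.HeRec.CandTwist
import Cfsg.Agent.Lib.InvChar.HeRec.CandUniTwist
import Mathlib.GroupTheory.SpecificGroups.Cyclic

/-!
# The involution centraliser in a group of the order of Held's group
-/

set_option autoImplicit false

namespace CfsgLib.InvChar.HeRec

open CModel

universe u

/-- The centraliser of `t` is the centraliser of a transvection in `SL(5, 2)`. -/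
theorem exists_frame {G : Type u} [Group G] [Finite G] [IsSimpleGroup G] (t : G) (ht : orderOf t = 2)
    (Q : Subgroup (Subgroup.centralizer ({t} : Set G))) [Q.Normal] (hQ : Cfsg.IsExtraspecial 2 Q)
    (hcard : Nat.card Q = 2 ^ 7) (h2c : Subgroup.centralizer (Q : Set (Subgroup.centralizer ({t} : Set G))) ≤ Q)
    (e : (Subgroup.centralizer ({t} : Set G)) ⧸ Q ≃* Matrix.SpecialLinearGroup (Fin 3) (ZMod 2))
    (hG : Nat.card G = 4030387200) : ∃ ψ : ℕ → G, IsFrame t ψ := by
  have hna : ¬ IsMulCommutative G := fun h => by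
    let _ : CommGroup G := { (inferInstance : Group G) with mul_comm := h.1.1 }
    have hp := IsSimpleGroup.prime_card (α := G)
    rw [hG] at hp
    norm_num at hp
  obtain ⟨u, c, ψ, hu, hc, hψ⟩ := exists_cand_frame t ht Q hQ hcard h2c e
  interval_cases u <;> interval_cases c
  · exact ⟨_, isFrame_of_cand hψ⟩
  · exact (false_of_candTwist hna ht hψ).elim
  · exact (false_of_candUni hna ht hG hψ).elim
  · exact (false_of_candUniTwist hna ht hψ).elim

end CfsgLib.InvChar.HeRec
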