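import Cfsg.Agent.Lib.InvChar.HeRec.FusionY

/-!
# Fusion in Held's group: the second class of 168 and the class of 42

The congruences of `FusionY` fix more bits of the pattern: both classes of 168 consist of conjugates of
`t`, and the class of 42 does not.
-/

set_option autoImplicit false

namespace CfsgLib.InvChar.HeRec

namespace Fus

/-- A class pattern from its seven bits. -/
def patAll (b₀ b₁ b₂ b₃ b₄ b₅ b₆ : Bool) (k : ℕ) : Bool :=
  [b₀, b₁, b₂, b₃, b₄, b₅, b₆, true].getD k true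

theorem pattern_extra : ∀ b₀ b₁ b₂ b₃ b₄ b₅ b₆ : Bool, ∀ X < 64,
    total invA othA (patAll b₀ b₁ b₂ b₃ b₄ b₅ b₆) X % 64 = 0 ∧
      total invB othB (patAll b₀ b₁ b₂ b₃ b₄ b₅ b₆) X % 16 = 0 ∧
      total invC othC (patAll b₀ b₁ b₂ b₃ b₄ b₅ b₆) X % 32 = 0 → b₃ = true ∧ b₅ = false := by
  decide +kernel

theorem tab_extra : (∃ r ∈ invTab, eCode r = 4257 ∧ rCls r = 3) ∧
    ∃ r ∈ invTab, eCode r = 58129 ∧ rCls r = 5 := by
  decide +kernel

theorem fused_extra {G : Type*} [Group G] [Finite G] {t : G} {ψ : ℕ → G} (hψ : IsFrame t ψ)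
    (ht : orderOf t = 2) (hG : Nat.card G = 4030387200)
    (htwo : ∃ x y : G, orderOf x = 2 ∧ orderOf y = 2 ∧ ¬ IsConj x y ∧
      ∀ z : G, orderOf z = 2 → IsConj z x ∨ IsConj z y) :
    fused t ψ 3 = true ∧ fused t ψ 5 = false := by
  obtain ⟨X, hX⟩ := exists_fix_const ht htwo
  have h7 : fused t ψ 7 = true := by
    simp only [fused, decide_eq_true_eq, show reps.getD 7 0 = hZ from by decide, hψ.map_z]
    exact IsConj.refl t
  set P := patAll (fused t ψ 0) (fused t ψ 1) (fused t ψ 2) (fused t ψ 3) (fused t ψ 4) (fused t ψ 5)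
    (fused t ψ 6)
  have hP : ∀ k < 8, fused t ψ k = P k := by
    intro k hk
    interval_cases k <;> simp [P, patAll, h7]
  have hmod : ∀ {m : ℕ}, m ∣ 64 → ∀ ni oc : List ℕ, total ni oc (fused t ψ) X % m = 0 →
      total ni oc P (X % 64) % m = 0 := by
    intro m hm ni oc e
    have hc : X ≡ X % 64 [MOD m] := ((Nat.mod_modEq X 64).of_dvd hm).symm
    rw [← e]
    exact (total_congr ni oc hP hc).symm
  exact pattern_extra _ _ _ _ _ _ _ (X % 64) (Nat.mod_lt _ (by norm_num))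
    ⟨hmod dvd_rfl _ _ (total_dvd hψ ht hG hX grpA_ok (by norm_num)),
      hmod (by norm_num) _ _ (total_dvd hψ ht hG hX grpB_ok (by norm_num)),
      hmod (by norm_num) _ _ (total_dvd hψ ht hG hX grpC_ok (by norm_num))⟩

end Fus

/-- The other class of 168 consists of conjugates of `t`, the class of 42 does not. -/
theorem fusion_extra {G : Type*} [Group G] [Finite G] {t : G} (ht : orderOf t = 2)
    (hG : Nat.card G = 4030387200) (htwo : ∃ x y : G, orderOf x = 2 ∧ orderOf y = 2 ∧ ¬ IsConj x y ∧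
      ∀ z : G, orderOf z = 2 → IsConj z x ∨ IsConj z y) {ψ : ℕ → G} (hψ : IsFrame t ψ) :
    IsConj t (ψ 4257) ∧ ¬ IsConj t (ψ 58129) := by
  obtain ⟨h3, h5⟩ := Fus.fused_extra hψ ht hG htwo
  obtain ⟨⟨r, hr, hr1, hr2⟩, r', hr', hr1', hr2'⟩ := Fus.tab_extra
  refine ⟨hr1 ▸ (Fus.fused_iff hψ hr).2 (hr2 ▸ h3), fun h => ?_⟩
  rw [← hr1', Fus.fused_iff hψ hr', hr2', h5] at h
  exact Bool.false_ne_true h

end CfsgLib.InvChar.HeRec
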