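import Cfsg.Agent.Lib.InvChar.HeRec.Swap.Action

/-!
# The swap involution of a Held frame
-/

set_option autoImplicit false
set_option maxRecDepth 100000

namespace CfsgLib.InvChar.HeRec

open Swap

variable {G : Type*} [Group G]

theorem Swap.alpha_carries {t : G} {ψ : ℕ → G} (hψ : IsFrame t ψ) {n : G}
    (h : ∀ i, i < 4 → Carries ψ n (hD.getD i 0) (hDimg.getD i 0)) {x : ℕ} (hx : x ∈ dList) :
    Carries ψ n x (alpha x) := by
  have hall : ∀ i, Carries ψ n (hD.getD i hOne) (hDimg.getD i hOne) := by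
    intro i
    by_cases hi : i < 4
    · have e : hD.getD i hOne = hD.getD i 0 ∧ hDimg.getD i hOne = hDimg.getD i 0 := by
        interval_cases i <;> exact ⟨rfl, rfl⟩
      rw [e.1, e.2]; exact h i hi
    · rw [List.getD_eq_default _ _ (Nat.le_of_not_lt hi), List.getD_eq_default _ _ (Nat.le_of_not_lt hi)]
      exact ⟨one_mem, one_mem, by rw [ψ_one hψ, one_mul, mul_one]⟩
  have h1 := aTable_ok
  simp only [Bool.and_eq_true, List.all_eq_true, beq_iff_eq] at h1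
  obtain ⟨hmap, hok⟩ := h1
  rw [← hmap] at hx
  obtain ⟨e, he, rfl⟩ := List.mem_map.1 hx
  obtain ⟨⟨⟨e1, e2⟩, e3⟩, -⟩ := hok e he
  have h2 := Carries.ev hψ hall e.2.1
  rw [e1, e2, ← e3] at h2
  exact h2

/-- The swap involution exists for every frame whose gluing pair consists of conjugates of `t`. -/
theorem exists_swap {t : G} (ht : orderOf t = 2) (ψ : ℕ → G) (hψ : IsFrame t ψ)
    (hy : IsConj t (ψ hY)) (_hzy : IsConj t (ψ hZY)) : ∃ n : G, IsSwap ψ n := by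
  obtain ⟨n₁, hn₁, hnt₁, hd₁⟩ := exists_alpha ht hψ hy
  have ha₁ : ∀ x ∈ dList, Carries ψ n₁ x (alpha x) := fun x hx => alpha_carries hψ hd₁ hx
  obtain ⟨q, hq, hqe, hq1, hq2, hq3⟩ := cube_facts hψ hn₁ ha₁ (by decide +kernel) (by decide +kernel)
  have hfix := List.all_eq_true.1 cube_fix q hq
  have hhD : ∀ x ∈ hD, x ∈ dList := by decide +kernel
  have hcond : (hmul (sig q) q == hOne && sig (alpha q) == q &&
      hD.all fun g => hmul q g == hmul (sig (alpha (sig (alpha (sig (alpha g)))))) q) = true := by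
    simp only [Bool.and_eq_true, List.all_eq_true, beq_iff_eq]
    exact ⟨⟨hq1, hq2⟩, fun g hg => hq3 g (hhD g hg)⟩
  rw [hcond, Bool.not_true, Bool.false_or, List.any_eq_true] at hfix
  obtain ⟨z, hz, hz'⟩ := hfix
  simp only [Bool.and_eq_true, List.all_eq_true, beq_iff_eq] at hz'
  obtain ⟨⟨hz1, hz2⟩, hz3⟩ := hz'
  have hzv := (mem_dList.1 hz).1
  have haz := ha₁ z hz
  have hn : n₁ * ψ z * (n₁ * ψ z) = 1 := by
    calc n₁ * ψ z * (n₁ * ψ z) = ψ (alpha z) * n₁ * (n₁ * ψ z) := by rw [haz.2.2]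
      _ = ψ (alpha z) * (n₁ * n₁) * ψ z := by simp only [mul_assoc]
      _ = 1 := by
        rw [hn₁, mul_one, ψ_mul_eq hψ (mem_dList.1 haz.2.1).1 hzv hz1, ψ_one hψ]
  have hnt : n₁ * ψ z * t = ψ hY * (n₁ * ψ z) := by
    rw [mul_assoc, ψ_comm_t hψ hzv, ← mul_assoc, hnt₁, mul_assoc]
  have ha : ∀ x ∈ dList, Carries ψ (n₁ * ψ z) x (alpha x) := by
    intro x hx
    have h1 := ha₁ x hx
    refine ⟨hx, h1.2.1, ?_⟩
    rw [mul_assoc, (mul_eq_iff hψ hzv (mem_dList.1 hx).1 (mem_dList.1 hx).1 hzv).2 (hz2 x hx),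
      ← mul_assoc, h1.2.2, mul_assoc]
  refine ⟨n₁ * ψ z, ⟨hn, ?_, ?_, fun i hi => ?_, fun i hi => ?_⟩⟩
  · rw [hψ.map_z, hnt, mul_assoc, hn, mul_one]
  · have step : ∀ x ∈ dList, sig (alpha x) ∈ dList ∧
        ψ hS * n₁ * ψ x = ψ (sig (alpha x)) * (ψ hS * n₁) :=
      fun x hx => ⟨(sig_spec hψ (ha₁ x hx).2.1).1, rot_spec hψ (ha₁ x hx)⟩
    obtain ⟨m1, e1⟩ := step z hz
    obtain ⟨m2, e2⟩ := step _ m1
    obtain ⟨m3, e3⟩ := step _ m2
    have v1 := (mem_dList.1 m1).1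
    have v2 := (mem_dList.1 m2).1
    have v3 := (mem_dList.1 m3).1
    rw [← mul_assoc (ψ hS) n₁ (ψ z), e1, pow_three]
    generalize hρ : ψ hS * n₁ = ρ at e1 e2 e3 hqe ⊢
    calc ψ (sig (alpha z)) * ρ * (ψ (sig (alpha z)) * ρ * (ψ (sig (alpha z)) * ρ))
        = ψ (sig (alpha z)) * (ρ * ψ (sig (alpha z))) * ρ * (ψ (sig (alpha z)) * ρ) := by
          simp only [mul_assoc]
      _ = ψ (sig (alpha z)) * ψ (sig (alpha (sig (alpha z)))) * ρ * (ρ * ψ (sig (alpha z))) * ρ := by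
          conv_lhs => rw [e2]
          simp only [mul_assoc]
      _ = ψ (sig (alpha z)) * ψ (sig (alpha (sig (alpha z)))) *
            (ρ * ψ (sig (alpha (sig (alpha z))))) * ρ * ρ := by
          rw [e2]; simp only [mul_assoc]
      _ = ψ (sig (alpha z)) * ψ (sig (alpha (sig (alpha z)))) *
            ψ (sig (alpha (sig (alpha (sig (alpha z)))))) * ρ ^ 3 := by
          rw [e3, pow_three]; simp only [mul_assoc]
      _ = 1 := by
          rw [← hqe, ← hψ.map_mul _ _ v1 v2, ← hψ.map_mul _ _ (hvalid_hmul v1 v2) v3,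
            ψ_mul_eq hψ (hvalid_hmul (hvalid_hmul v1 v2) v3) (mem_dList.1 hq).1 hz3, ψ_one hψ]
  · have hmem : ∀ i < 4, hD.getD i 0 ∈ dList ∧ alpha (hD.getD i 0) = hDimg.getD i 0 := by
      decide +kernel
    have h1 := (ha _ (hmem i hi).1).2.2
    rw [(hmem i hi).2] at h1
    rw [h1, mul_assoc, hn, mul_one]
  · have htr := List.all_eq_true.1 tri_ok i (List.mem_range.2 hi)
    simp only [Bool.and_eq_true, List.all_eq_true, beq_iff_eq, List.elem_eq_mem, decide_eq_true_eq,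
      Bool.or_eq_true, Bool.not_eq_true'] at htr
    obtain ⟨⟨⟨⟨-, hzin⟩, hyin⟩, hch⟩, hopt⟩ := htr
    have hg : hvalid (hTri.getD i 0) = true := by
      have h0 : ∀ i < 3, hvalid (hTri.getD i 0) = true := by decide +kernel
      exact h0 i hi
    generalize hn' : n₁ * ψ z = n at hn hnt ha ⊢
    have stp : ∀ a b, a ∈ dList → hvalid b = true →
        hmul (hTri.getD i 0) (alpha a) = hmul b (hTri.getD i 0) →
        ψ (hTri.getD i 0) * n * ψ a = ψ b * (ψ (hTri.getD i 0) * n) := by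
      intro a b hma hb h
      have h1 := ha a hma
      rw [mul_assoc, h1.2.2, ← mul_assoc,
        (mul_eq_iff hψ hg (mem_dList.1 h1.2.1).1 hb hg).2 h, mul_assoc]
    have com : ∀ e ∈ triChain.getD i [],
        (ψ (hTri.getD i 0) * n) ^ 3 * ψ e.1 = ψ e.1 * (ψ (hTri.getD i 0) * n) ^ 3 := by
      intro e he
      obtain ⟨⟨⟨⟨⟨ma, mb⟩, mc⟩, h1⟩, h2⟩, h3⟩ := hch e he
      have e1 := stp _ _ ma (mem_dList.1 mb).1 h1
      have e2 := stp _ _ mb (mem_dList.1 mc).1 h2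
      have e3 := stp _ _ mc (mem_dList.1 ma).1 h3
      generalize ψ (hTri.getD i 0) * n = ρ at e1 e2 e3 ⊢
      rw [pow_three, mul_assoc ρ, mul_assoc ρ, e1, ← mul_assoc ρ (ψ _), e2,
        ← mul_assoc ρ, ← mul_assoc ρ (ψ _), e3]
      simp only [mul_assoc]
    obtain ⟨ez, hez, hez'⟩ := List.mem_map.1 hzin
    obtain ⟨ey, hey, hey'⟩ := List.mem_map.1 hyin
    have h1 := com ez hez
    have h2 := com ey hey
    rw [hez', hψ.map_z] at h1
    rw [hey'] at h2
    obtain ⟨x, hx, hxe⟩ := code_dList hψ h1 h2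
    have hxv := (mem_dList.1 hx).1
    refine ⟨x, ?_, hxe.symm⟩
    refine (hopt x hx).resolve_left ?_
    simp only [Bool.and_eq_false_iff, not_or, Bool.not_eq_false, List.all_eq_true, beq_iff_eq]
    constructor
    · intro e he
      refine (mul_eq_iff hψ hxv (mem_dList.1 (hch e he).1.1.1.1.1).1
        (mem_dList.1 (hch e he).1.1.1.1.1).1 hxv).1 ?_
      rw [hxe]
      exact com e he
    · have hax := ha x hx
      refine (mul_eq_iff hψ hg (mem_dList.1 hax.2.1).1 hxv hg).1 (mul_right_cancel (b := n) ?_)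
      rw [mul_assoc, mul_assoc (ψ x), ← hax.2.2, ← mul_assoc, hxe, ← pow_succ, ← pow_succ']

end CfsgLib.InvChar.HeRec
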