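import Cfsg.Agent.Lib.Transfer.SylowLemmas
import Cfsg.Agent.Lib.Transfer.TwentyOne
import Mathlib.GroupTheory.Perm.Cycle.Type

/-!
# Commuting blocks of conjugates of an involution

If the conjugates of an involution `t` that commute with `t` commute with each other, the conjugates
fall into commuting blocks; an odd block size makes `t` fix exactly one block.
-/

set_option autoImplicit false

namespace CfsgLib.InvChar.HeRec

universe u

variable {G : Type u} [Group G] [Finite G]

omit [Finite G] in
theorem commute_conj_elem {a b : G} (g : G) (h : Commute a b) :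
    Commute (g * a * g⁻¹) (g * b * g⁻¹) := by
  show g * a * g⁻¹ * (g * b * g⁻¹) = g * b * g⁻¹ * (g * a * g⁻¹)
  calc g * a * g⁻¹ * (g * b * g⁻¹) = g * (a * b) * g⁻¹ := by group
    _ = g * (b * a) * g⁻¹ := by rw [h.eq]
    _ = _ := by group

open scoped Classical in
/-- A simple group has no `n` commuting blocks of odd size `b` with `n ≡ 3 (mod 4)`. -/
theorem false_of_blocks [IsSimpleGroup G] (hna : ¬ IsMulCommutative G) {t : G} (ht : t * t = 1)
    {b n : ℕ} (hb : ¬ 2 ∣ b)
    (hcomm : ∀ x y : G, IsConj t x → IsConj t y → Commute t x → Commute t y → Commute x y)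
    (hblock : Nat.card {x : G // IsConj t x ∧ Commute t x} = b)
    (hK : Nat.card {x : G // IsConj t x} = b * n) (hn : n % 4 = 3) : False := by
  have hbp : 0 < b := by omega
  -- conjugation
  have hconj : ∀ g x : G, IsConj t x → IsConj t (g * x * g⁻¹) := fun g x h =>
    h.trans (isConj_iff.2 ⟨g, rfl⟩)
  let r : Setoid {x : G // IsConj t x} :=
    ⟨fun a c => Commute a.1 c.1, fun a => Commute.refl _, fun h => h.symm, fun {a c d} h1 h2 => by
      obtain ⟨g, hg⟩ := isConj_iff.1 c.2.symm
      have e1 := (commute_conj_elem g h1).symm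
      have e2 := commute_conj_elem g h2
      rw [hg] at e1 e2
      have e3 := commute_conj_elem g⁻¹ (hcomm _ _ (hconj g _ a.2) (hconj g _ d.2) e1 e2)
      simpa [mul_assoc] using e3⟩
  let c : G → {x : G // IsConj t x} → {x : G // IsConj t x} := fun g x =>
    ⟨g * x.1 * g⁻¹, hconj g _ x.2⟩
  have hc : ∀ g a d, r a d → r (c g a) (c g d) := fun g a d h => commute_conj_elem g h
  have hc1 : ∀ a, c 1 a = a := fun a => Subtype.ext (by simp [c])
  have hcm : ∀ g k a, c g (c k a) = c (g * k) a := fun g k a => Subtype.ext (by simp [c, mul_assoc])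
  let q : G → Quotient r → Quotient r := fun g => Quotient.map (c g) fun a d h => hc g a d h
  have hq1 : ∀ a, q 1 a = a := fun a => a.inductionOn fun x => congrArg (Quotient.mk r) (hc1 x)
  have hqm : ∀ g k a, q g (q k a) = q (g * k) a := fun g k a =>
    a.inductionOn fun x => congrArg (Quotient.mk r) (hcm g k x)
  let f : G →* Equiv.Perm (Quotient r) :=
    { toFun := fun g => ⟨q g, q g⁻¹, fun a => by rw [hqm, inv_mul_cancel, hq1],
        fun a => by rw [hqm, mul_inv_cancel, hq1]⟩
      map_one' := Equiv.ext hq1
      map_mul' := fun g k => Equiv.ext fun a => (hqm g k a).symm }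
  haveI : Fintype (Quotient r) := Fintype.ofFinite _
  -- the blocks have size `b`
  have hfib : ∀ a : {x : G // IsConj t x},
      Nat.card {x : {x : G // IsConj t x} // Commute a.1 x.1} = b := by
    intro a
    obtain ⟨g, hg⟩ := isConj_iff.1 a.2
    rw [← hblock]
    refine Nat.card_congr
      { toFun := fun x => ⟨g⁻¹ * x.1.1 * g⁻¹⁻¹, hconj g⁻¹ _ x.1.2, ?_⟩
        invFun := fun x => ⟨⟨g * x.1 * g⁻¹, hconj g _ x.2.1⟩, ?_⟩
        left_inv := fun x => Subtype.ext (Subtype.ext (by simp [mul_assoc]))
        right_inv := fun x => Subtype.ext (by simp [mul_assoc]) }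
    · have := commute_conj_elem g⁻¹ x.2
      have e : g⁻¹ * a.1 * g⁻¹⁻¹ = t := by rw [← hg]; group
      rwa [e] at this
    · show Commute a.1 (g * x.1 * g⁻¹)
      rw [← hg]
      exact commute_conj_elem g x.2.2
  have hcard : Fintype.card (Quotient r) = n := by
    have e : Nat.card {x : G // IsConj t x} = Nat.card (Quotient r) * b := by
      rw [Nat.card_congr (Equiv.sigmaFiberEquiv (Quotient.mk r)).symm]
      haveI : Fintype {x : G // IsConj t x} := Fintype.ofFinite _
      rw [Nat.card_sigma]
      have : ∀ y : Quotient r, Nat.card {x // Quotient.mk r x = y} = b := fun y =>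
        y.inductionOn fun a => by
          rw [← hfib a]
          refine Nat.card_congr (Equiv.subtypeEquivRight fun x => ?_)
          exact ⟨fun h => (Quotient.exact h : r x a).symm, fun h => Quotient.sound h.symm⟩
      rw [Finset.sum_congr rfl fun y _ => this y, Finset.sum_const, Finset.card_univ,
        smul_eq_mul, Nat.card_eq_fintype_card]
    rw [hK, mul_comm] at e
    rw [← Nat.card_eq_fintype_card]
    exact (Nat.eq_of_mul_eq_mul_right hbp e).symm
  -- `t` fixes only its own block
  set T : {x : G // IsConj t x} := ⟨t, IsConj.refl t⟩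
  have hinv : t⁻¹ = t := inv_eq_of_mul_eq_one_right ht
  have hfix : ∀ a, f t a = a → a = Quotient.mk r T := by
    intro a
    refine a.inductionOn fun x hx => ?_
    have hx' : Commute (t * x.1 * t⁻¹) x.1 := Quotient.exact hx
    let B := {y : {x : G // IsConj t x} // r x y}
    let σ : Equiv.Perm B := Equiv.subtypeEquiv
      ⟨c t, c t⁻¹, fun y => by rw [hcm, inv_mul_cancel, hc1],
        fun y => by rw [hcm, mul_inv_cancel, hc1]⟩ (fun y => by
        constructor
        · intro h
          exact r.trans' (r.symm' (show r (c t x) x from hx')) (hc t _ _ h)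
        · intro h
          have h' := hc t⁻¹ _ _ (r.trans' (show r (c t x) x from hx') h)
          simpa [hcm, hc1] using h')
    haveI : Fintype B := Fintype.ofFinite _
    have hB : Fintype.card B = b := by
      rw [← Nat.card_eq_fintype_card]; exact hfib x
    have hσ : σ ^ 2 ^ 1 = 1 := by
      ext1 y
      apply Subtype.ext
      show c t (c t y.1) = y.1
      rw [hcm, ht, hc1]
    obtain ⟨y, hy⟩ := Equiv.Perm.exists_fixed_point_of_prime (hB ▸ hb) hσ
    have hy' : t * y.1.1 * t⁻¹ = y.1.1 := congrArg (fun w : B => w.1.1) hy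
    exact Quotient.sound (r.trans' y.2 (show Commute y.1.1 t from
      (mul_inv_eq_iff_eq_mul.1 hy').symm))
  have hsup : (f t).support = Finset.univ.erase (Quotient.mk r T) := by
    ext a
    simp only [Equiv.Perm.mem_support, Finset.mem_erase, Finset.mem_univ, and_true]
    refine ⟨fun h e => h (e ▸ ?_), fun h e => h (hfix a e)⟩
    exact congrArg (Quotient.mk r) (Subtype.ext (show t * t * t⁻¹ = t by group))
  have hsq : f t ^ 2 = 1 := by rw [← map_pow, pow_two, ht, map_one]
  have hs := CfsgLib.Transfer.sign_eq_one_of_simple hna f t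
  rw [CfsgLib.Transfer.sign_of_pow_four_eq_one _ (by rw [pow_mul (f t) 2 2, hsq, one_pow]), hsq,
    Equiv.Perm.support_one, Finset.card_empty, hsup,
    Finset.card_erase_of_mem (Finset.mem_univ _), Finset.card_univ, hcard] at hs
  rw [Odd.neg_one_pow (Nat.odd_iff.2 (by omega))] at hs
  exact absurd hs (by decide)

end CfsgLib.InvChar.HeRec
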