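import Cfsg.Agent.Lib.InvChar.HeRec.CandCheck
import Cfsg.Agent.Lib.InvChar.HeRec.CCand

/-!
# The coset index of a product in the candidate models
-/

set_option autoImplicit false

namespace CfsgLib.InvChar.HeRec.CModel

theorem qmul_lt (p q : ℕ) : qmul p q < 128 := by
  have h1 : (p ^^^ q) &&& 63 ≤ 63 := Nat.and_le_right
  have h2 : ((p >>> 6) ^^^ (q >>> 6) ^^^ pairQ ((p >>> 3) &&& 7) (q &&& 7)) &&& 1 ≤ 1 :=
    Nat.and_le_right
  simp only [qmul]
  omega

theorem cmul_div (u e x y : ℕ) : cmul u e x y / 128 = lmul (x / 128) (y / 128) := by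
  have h := qmul_lt (qmul (x % 128) (actN u (x / 128) (y % 128))) (64 * lbit e (x / 128) (y / 128))
  simp only [cmul]
  omega

theorem enc_lt {i j κ : ℕ} (h : κ < 8) : enc i j κ < 168 := by
  simp only [enc]
  omega

theorem lmul_lt {n m : ℕ} (hm : m < 168) : lmul n m < 168 := by
  simp only [lmul]
  split_ifs <;> exact enc_lt (by omega)

theorem cmul_lt (u e : ℕ) : ∀ x < 21504, ∀ y < 21504, cmul u e x y < 21504 := by
  intro x _ y hy
  have h := qmul_lt (qmul (x % 128) (actN u (x / 128) (y % 128))) (64 * lbit e (x / 128) (y / 128))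
  have h2 := lmul_lt (n := x / 128) (show y / 128 < 168 by omega)
  simp only [cmul]
  omega

theorem cand_eq (u e : ℕ) : cand u e = codeCand (cmul u e) := rfl

end CfsgLib.InvChar.HeRec.CModel
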