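import Cfsg.Agent.Lib.InvChar.HeRec.CandFrame
import Mathlib.Data.Nat.Bitwise

/-!
# Candidates on the codes `q + 128 * n`

If the coset index of a product depends only on those of the factors, counting the roots of an
element needs only the cosets with the right square, so the certificates are small.
-/

set_option autoImplicit false

namespace CfsgLib.InvChar.HeRec

/-- The codes below `21504 = 128 * 168` with a multiplication. -/
def codeCand (mul : ℕ → ℕ → ℕ) : Cand where
  mul := mul
  mem := Finset.range 21504
  one := 0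
  z := 64

/-- The number of `x` in `[a, a + 2 ^ k)` with `p x`. -/
def countBlock (p : ℕ → Bool) : ℕ → ℕ → ℕ
  | 0, a => if p a then 1 else 0
  | k + 1, a => countBlock p k a + countBlock p k (a + 2 ^ k)

/-- Every `x` in `[a, a + 2 ^ k)` satisfies `p`. -/
def allBlock (p : ℕ → Bool) : ℕ → ℕ → Bool
  | 0, a => p a
  | k + 1, a => allBlock p k a && allBlock p k (a + 2 ^ k)

/-- The count over the first `n` cosets, evaluating only those passed by the guard `g`. -/
def cosetCount (g p : ℕ → Bool) : ℕ → ℕ
  | 0 => 0
  | n + 1 => cosetCount g p n + if g n then countBlock p 7 (128 * n) else 0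

/-- The test over the first `n` cosets, evaluating only those passed by the guard `g`. -/
def cosetAll (g p : ℕ → Bool) : ℕ → Bool
  | 0 => true
  | n + 1 => cosetAll g p n && (!g n || allBlock p 7 (128 * n))

theorem countBlock_eq (p : ℕ → Bool) : ∀ k a : ℕ, countBlock p k a =
    ((Finset.Ico a (a + 2 ^ k)).filter fun x => p x = true).card
  | 0, a => by
    rw [countBlock, pow_zero, Nat.Ico_succ_singleton, Finset.filter_singleton]
    cases hp : p a <;> simp
  | k + 1, a => by
    rw [countBlock, countBlock_eq p k a, countBlock_eq p k (a + 2 ^ k),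
      ← Finset.card_union_of_disjoint (Finset.disjoint_filter_filter
        (Finset.Ico_disjoint_Ico_consecutive _ _ _)),
      ← Finset.filter_union, Finset.Ico_union_Ico_eq_Ico (Nat.le_add_right _ _) (Nat.le_add_right _ _)]
    congr 2
    rw [pow_succ]; ring_nf

theorem allBlock_spec (p : ℕ → Bool) : ∀ k a : ℕ, allBlock p k a = true →
    ∀ x, a ≤ x → x < a + 2 ^ k → p x = true
  | 0, a, h, x, hax, hx => by
    obtain rfl : x = a := by rw [pow_zero] at hx; omega
    simpa [allBlock] using h
  | k + 1, a, h, x, hax, hx => by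
    rw [allBlock, Bool.and_eq_true] at h
    by_cases hlt : x < a + 2 ^ k
    · exact allBlock_spec p k a h.1 x hax hlt
    · exact allBlock_spec p k _ h.2 x (not_lt.1 hlt) (by rw [pow_succ] at hx; omega)

theorem cosetAll_spec (g p : ℕ → Bool) : ∀ n : ℕ, cosetAll g p n = true →
    ∀ x, x < 128 * n → g (x / 128) = true → p x = true
  | 0, _, x, hx, _ => by omega
  | n + 1, h, x, hx, hg => by
    rw [cosetAll, Bool.and_eq_true] at h
    by_cases hlt : x < 128 * n
    · exact cosetAll_spec g p n h.1 x hlt hg
    · have e : x / 128 = n := by omega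
      rw [e] at hg
      rw [hg, Bool.not_true, Bool.false_or] at h
      exact allBlock_spec p 7 _ h.2 x (by omega) (by norm_num; omega)

theorem cosetCount_eq (g p : ℕ → Bool) : ∀ n : ℕ,
    (∀ x, x < 128 * n → p x = true → g (x / 128) = true) →
    cosetCount g p n = ((Finset.range (128 * n)).filter fun x => p x = true).card
  | 0, _ => by simp [cosetCount]
  | n + 1, h => by
    rw [cosetCount, cosetCount_eq g p n fun x hx => h x (by omega)]
    have hsplit : Finset.range (128 * (n + 1)) =
        Finset.range (128 * n) ∪ Finset.Ico (128 * n) (128 * n + 2 ^ 7) := by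
      rw [Finset.range_eq_Ico, Finset.range_eq_Ico,
        Finset.Ico_union_Ico_eq_Ico (Nat.zero_le _) (Nat.le_add_right _ _)]
      norm_num [mul_add]
    have hdisj : Disjoint (Finset.range (128 * n)) (Finset.Ico (128 * n) (128 * n + 2 ^ 7)) := by
      rw [Finset.range_eq_Ico]; exact Finset.Ico_disjoint_Ico_consecutive _ _ _
    rw [hsplit, Finset.filter_union,
      Finset.card_union_of_disjoint (Finset.disjoint_filter_filter hdisj), ← countBlock_eq]
    congr 1
    cases hg : g n with
    | true => simp
    | false =>
      rw [if_neg (by simp), countBlock_eq, eq_comm, Finset.card_eq_zero, Finset.filter_eq_empty_iff]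
      intro x hx hp
      rw [Finset.mem_Ico] at hx
      have := h x (by omega) hp
      rw [show x / 128 = n by omega, hg] at this
      exact Bool.noConfusion this

variable {mul kidx : ℕ → ℕ → ℕ}

theorem codeCand_centN (hdiv : ∀ x y, mul x y / 128 = kidx (x / 128) (y / 128)) (r : ℕ) :
    (codeCand mul).centN r = cosetCount (fun i => kidx i (r / 128) == kidx (r / 128) i)
      (fun x => mul x r == mul r x) 168 := by
  rw [cosetCount_eq _ _ _ fun x _ h => by
    rw [beq_iff_eq] at h ⊢
    rw [← hdiv, ← hdiv, h], Cand.centN]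
  refine congrArg Finset.card (Finset.ext fun x => ?_)
  rw [Finset.mem_filter, Finset.mem_filter]; simp [codeCand]

theorem codeCand_rootN (hdiv : ∀ x y, mul x y / 128 = kidx (x / 128) (y / 128)) (r : ℕ) :
    (codeCand mul).rootN r = cosetCount (fun i => kidx i i == r / 128)
      (fun x => mul x x == r) 168 := by
  rw [cosetCount_eq _ _ _ fun x _ h => by
    rw [beq_iff_eq] at h ⊢
    rw [← hdiv, h], Cand.rootN]
  refine congrArg Finset.card (Finset.ext fun x => ?_)
  rw [Finset.mem_filter, Finset.mem_filter]; simp [codeCand]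

theorem codeCand_rootTN (hdiv : ∀ x y, mul x y / 128 = kidx (x / 128) (y / 128)) (r : ℕ) :
    (codeCand mul).rootTN r = cosetCount (fun i => kidx i i == 0)
      (fun x => mul x x == 64 && mul x r == mul r x) 168 := by
  rw [cosetCount_eq _ _ _ fun x _ h => by
    rw [Bool.and_eq_true, beq_iff_eq] at h
    rw [beq_iff_eq, ← hdiv, h.1], Cand.rootTN]
  refine congrArg Finset.card (Finset.ext fun x => ?_)
  rw [Finset.mem_filter, Finset.mem_filter]; simp [codeCand, and_comm]

/-- Test for the list of involutions: `x ^ 2 ≠ 1`, or a listed conjugation to a representative. -/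
def involCheck (mul : ℕ → ℕ → ℕ) (bad O : List ℕ) (cert : List (ℕ × ℕ × ℕ)) (x : ℕ) : Bool :=
  mul x x != 0 || x == 0 || x == 64 || O.contains x ||
    match cert.find? (fun c => c.1 == x) with
    | some (_, r, g) => bad.contains r && decide (g < 21504) && mul g x == mul r g
    | none => false

/-- The facts from checks on the tables. -/
theorem codeCand_facts (hlt : ∀ x < 21504, ∀ y < 21504, mul x y < 21504)
    (hdiv : ∀ x y, mul x y / 128 = kidx (x / 128) (y / 128)) (bad O : List ℕ) (r₀ : ℕ) (cert : List (ℕ × ℕ × ℕ))
    (co : List ℕ) (h1 : mul 0 0 = 0) (hmem : (r₀ :: (bad ++ O)).all (· < 21504) = true)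
    (hinv : cosetAll (fun i => kidx i i == 0) (involCheck mul bad O cert) 168 = true)
    (horb : (O.zip co).all (fun c => decide (c.2 < 21504) && mul c.2 c.1 == mul r₀ c.2) = true)
    (hlen : O.length = co.length)
    (hcomm : O.all (fun x => O.all fun y => mul x y == mul y x) = true)
    (hmis : ∀ r ∈ bad, ∀ r' ∈ r₀ :: bad,
      ¬ ((codeCand mul).centN r' = (codeCand mul).centN r ∧ (codeCand mul).rootTN r' = (codeCand mul).rootN r)) :
    CandFacts (codeCand mul) bad O r₀ := by
  simp only [List.all_eq_true, decide_eq_true_eq] at hmem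
  refine
    { closed := fun x hx y hy => Finset.mem_range.2 (hlt x (Finset.mem_range.1 hx) y (Finset.mem_range.1 hy))
      one_mem := Finset.mem_range.2 (show 0 < 21504 by norm_num)
      z_mem := Finset.mem_range.2 (show 64 < 21504 by norm_num)
      one_one := h1
      bad_mem := fun r hr => Finset.mem_range.2 (hmem r (by simp [hr]))
      orbit_mem := fun r hr => Finset.mem_range.2 (hmem r (by simp [hr]))
      r₀_mem := Finset.mem_range.2 (hmem r₀ (by simp))
      invol := fun x hx hsq => ?_
      orbit := fun x hx => ?_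
      orbit_comm := fun x hx y hy => ?_
      mismatch := hmis }
  · have hx' : x < 21504 := Finset.mem_range.1 hx
    have hsq' : mul x x = 0 := hsq
    have h := cosetAll_spec _ _ _ hinv x (by omega) (by rw [beq_iff_eq, ← hdiv, hsq'])
    simp only [involCheck, hsq', bne_self_eq_false, Bool.false_or, Bool.or_eq_true, beq_iff_eq,
      List.contains_iff_mem] at h
    rcases h with ((h | h) | h) | h
    · exact Or.inl h
    · exact Or.inr (Or.inl h)
    · exact Or.inr (Or.inr (Or.inl h))
    · refine Or.inr (Or.inr (Or.inr ?_))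
      cases hf : cert.find? (fun c => c.1 == x) with
      | none => simp [hf] at h
      | some c =>
        obtain ⟨a, r, g⟩ := c
        simp only [hf, Bool.and_eq_true, List.contains_iff_mem, decide_eq_true_eq, beq_iff_eq] at h
        exact ⟨r, h.1.1, g, Finset.mem_range.2 h.1.2, h.2⟩
  · obtain ⟨i, hi, rfl⟩ := List.getElem_of_mem hx
    have hm : (O[i], co[i]'(hlen ▸ hi)) ∈ O.zip co :=
      List.mem_iff_getElem.2 ⟨i, by simp [← hlen, hi], by simp⟩
    simp only [List.all_eq_true, Bool.and_eq_true, decide_eq_true_eq, beq_iff_eq] at horb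
    exact ⟨_, Finset.mem_range.2 (horb _ hm).1, (horb _ hm).2⟩
  · simp only [List.all_eq_true, beq_iff_eq] at hcomm
    exact hcomm x hx y hy

/-- No count of roots is matched: the root counts differ, or, for the listed pairs, the
centralisers do. -/
theorem Cand.mismatch_of_counts (K : Cand) (bad : List ℕ) (r₀ : ℕ) (u v : List ℕ)
    (hu : bad.map K.rootN = u) (hv : (r₀ :: bad).map K.rootTN = v)
    (exc : List (ℕ × ℕ)) (hexc : ∀ p ∈ exc, K.centN p.2 ≠ K.centN p.1)
    (hc : (bad.zip u).all (fun a => ((r₀ :: bad).zip v).all fun b =>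
      b.2 != a.2 || exc.contains (a.1, b.1)) = true) :
    ∀ r ∈ bad, ∀ r' ∈ r₀ :: bad,
      ¬ (K.centN r' = K.centN r ∧ K.rootTN r' = K.rootN r) := by
  intro r hr r' hr' ⟨e1, e2⟩
  simp only [List.all_eq_true, Bool.or_eq_true, bne_iff_ne, List.contains_iff_mem] at hc
  have key : ∀ (f : ℕ → ℕ) (l : List ℕ) (a : ℕ), a ∈ l → (a, f a) ∈ l.zip (l.map f) := by
    intro f l
    induction l with
    | nil => simp
    | cons b l ih =>
      intro a ha
      rcases List.mem_cons.1 ha with rfl | ha
      · simp
      · exact List.mem_cons_of_mem _ (ih a ha)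
  rcases hc _ (hu ▸ key K.rootN bad r hr) _ (hv ▸ key K.rootTN _ r' hr') with e | e
  · exact e e2
  · exact hexc _ e e1

end CfsgLib.InvChar.HeRec
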