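import Cfsg.Agent.Lib.InvChar.HeRec.CandBlocks
import Mathlib.SetTheory.Cardinal.Finite

/-!
# Centraliser and square-root counts of commuting conjugates of an involution

For `y` commuting with `t`: the order of `C(t, y)`, the number of square roots of `y` in `C(t)`, and
the number of square roots of `t` in `C(t, y)`.  If `y` is a conjugate of `t`, some commuting
conjugate `y'` has the same centraliser order and as many roots of `t` as `y` has roots.
-/

set_option autoImplicit false

namespace CfsgLib.InvChar.HeRec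

universe u

variable {G : Type u} [Group G]

/-- The order of `C(t, y)`. -/
noncomputable def centCount (t y : G) : ℕ :=
  Nat.card {x : G // Commute x t ∧ Commute x y}

/-- The number of square roots of `y` in `C(t)`. -/
noncomputable def rootCount (t y : G) : ℕ :=
  Nat.card {x : G // Commute x t ∧ x * x = y}

/-- The number of square roots of `t` in `C(t, y)`. -/
noncomputable def rootCountT (t y : G) : ℕ :=
  Nat.card {x : G // Commute x t ∧ Commute x y ∧ x * x = t}

theorem card_subtype_conj (g : G) (p : G → Prop) :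
    Nat.card {x : G // p (g * x * g⁻¹)} = Nat.card {x : G // p x} :=
  Nat.card_congr ((MulAut.conj g).toEquiv.subtypeEquiv fun _ => Iff.rfl)

theorem commute_conj_iff_elem (g a b : G) :
    Commute (g * a * g⁻¹) (g * b * g⁻¹) ↔ Commute a b := by
  refine ⟨fun h => ?_, fun h => ?_⟩
  · have : Commute (g⁻¹ * (g * a * g⁻¹) * g⁻¹⁻¹) (g⁻¹ * (g * b * g⁻¹) * g⁻¹⁻¹) := by
      show _ * _ = _ * _
      calc g⁻¹ * (g * a * g⁻¹) * g⁻¹⁻¹ * (g⁻¹ * (g * b * g⁻¹) * g⁻¹⁻¹)
          = g⁻¹ * (g * a * g⁻¹ * (g * b * g⁻¹)) * g⁻¹⁻¹ := by group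
        _ = g⁻¹ * (g * b * g⁻¹ * (g * a * g⁻¹)) * g⁻¹⁻¹ := by rw [h.eq]
        _ = _ := by group
    simpa [mul_assoc] using this
  · show g * a * g⁻¹ * (g * b * g⁻¹) = g * b * g⁻¹ * (g * a * g⁻¹)
    calc g * a * g⁻¹ * (g * b * g⁻¹) = g * (a * b) * g⁻¹ := by group
      _ = g * (b * a) * g⁻¹ := by rw [h.eq]
      _ = _ := by group

theorem conj_sq_iff (g x a : G) : g * x * g⁻¹ * (g * x * g⁻¹) = g * a * g⁻¹ ↔ x * x = a := by
  rw [show g * x * g⁻¹ * (g * x * g⁻¹) = g * (x * x) * g⁻¹ by group, mul_left_inj, mul_right_inj]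

theorem centCount_conj (g t y : G) :
    centCount (g * t * g⁻¹) (g * y * g⁻¹) = centCount t y := by
  rw [centCount, ← card_subtype_conj g]
  simp only [commute_conj_iff_elem]
  rfl

theorem rootCount_conj (g t y : G) :
    rootCount (g * t * g⁻¹) (g * y * g⁻¹) = rootCount t y := by
  rw [rootCount, ← card_subtype_conj g]
  simp only [commute_conj_iff_elem, conj_sq_iff]
  rfl

theorem rootCountT_conj (g t y : G) :
    rootCountT (g * t * g⁻¹) (g * y * g⁻¹) = rootCountT t y := by
  rw [rootCountT, ← card_subtype_conj g]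
  simp only [commute_conj_iff_elem, conj_sq_iff]
  rfl

theorem centCount_comm (t y : G) : centCount t y = centCount y t :=
  Nat.card_congr (Equiv.subtypeEquivRight fun _ => and_comm)

theorem rootCount_eq_rootCountT (t y : G) : rootCount t y = rootCountT y t :=
  Nat.card_congr (Equiv.subtypeEquivRight fun x => ⟨fun h =>
    ⟨h.2 ▸ (Commute.refl x).mul_right (Commute.refl x), h.1, h.2⟩, fun h => ⟨h.2.1, h.2.2⟩⟩)

/-- The counts at a commuting conjugate `y` reappear at a commuting conjugate `y'`. -/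
theorem exists_partner {t y : G} (h : IsConj t y) (hc : Commute t y) (hne : y ≠ t) :
    ∃ y' : G, IsConj t y' ∧ Commute t y' ∧ y' ≠ t ∧ centCount t y' = centCount t y ∧
      rootCountT t y' = rootCount t y := by
  obtain ⟨g, rfl⟩ := isConj_iff.1 h
  have et : g * (g⁻¹ * t * g) * g⁻¹ = t := by group
  refine ⟨g⁻¹ * t * g, isConj_iff.2 ⟨g⁻¹, by group⟩, ?_, ?_, ?_, ?_⟩
  · have h1 : Commute (g * (g⁻¹ * t * g) * g⁻¹) (g * t * g⁻¹) := by rw [et]; exact hc
    exact ((commute_conj_iff_elem g _ _).1 h1).symm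
  · intro e
    rw [e] at et
    exact hne et
  · calc centCount t (g⁻¹ * t * g) = centCount (g * t * g⁻¹) t := by
          rw [← centCount_conj g, et]
      _ = _ := centCount_comm _ _
  · rw [← rootCountT_conj g, et, ← rootCount_eq_rootCountT]

end CfsgLib.InvChar.HeRec
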