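import Cfsg.Agent.Lib.InvChar.HeRec.Model
import Cfsg.Agent.Lib.InvChar.SporHeModel

/-!
# The five letters of the centraliser, in the codes and in the presented Held group
-/

set_option autoImplicit false

namespace CfsgLib.InvChar.HeRec

open CfsgLib.InvChar.Coset CfsgLib.InvChar.SporHeInvol

/-- The codes of the five involution letters generating the centraliser. -/
def hLet : List ℕ := [673, 8276, 28938, 4042, 50457]

/-- The same letters as words in the three generators of the centraliser of `e` in the presented group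
(arguments of `kElt`). -/
def hLetK : List (List ℕ) := [[0, 0, 2, 0, 2, 0, 0, 0, 0, 0], [1, 0, 1, 0, 1, 2, 1, 2, 0], [0, 0, 1, 0, 0, 1, 2, 0, 0, 1], [1, 0, 0, 0, 0, 1, 0, 1, 2, 0], [0, 1, 0, 1, 0, 1, 2, 0, 0, 0, 2, 1]]

/-- The action of a code on the 16 affine points `i = c + 2 v`. -/
def hActRaw (x i : ℕ) : ℕ :=
  ((i &&& 1) ^^^ parThree (((x >>> 12) &&& 7) &&& (i >>> 1)) ^^^ (x >>> 15))
    + 2 * (colMul (x &&& 511) (i >>> 1) ^^^ ((x >>> 9) &&& 7))

/-- Renumbering of the points of `kCode` as affine points. -/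
def hTo : List ℕ := [6, 7, 0, 1, 3, 2, 5, 4, 8, 9, 14, 15, 13, 12, 11, 10]

/-- The inverse renumbering. -/
def hFrom : List ℕ := [2, 3, 5, 4, 7, 6, 0, 1, 8, 9, 15, 14, 13, 12, 10, 11]

/-- The code on 16 points of a code. -/
noncomputable def hCode16 (x : ℕ) : ℕ := enc16 fun i => hFrom.getD (hActRaw x (hTo.getD i 0)) 0

theorem hLetK_code : ∀ i < 5, kCode (hLetK.getD i []) = hCode16 (hLet.getD i 0) ∧
    hvalid (hLet.getD i 0) = true := by
  decide +kernel

end CfsgLib.InvChar.HeRec
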