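import Cfsg.Agent.Lib.InvChar.HeRec.CompletionData
import Cfsg.Agent.Lib.InvChar.HeRec.Letters
import Cfsg.Agent.Lib.InvChar.SporHe

/-!
# The six letters inside the presented Held group
-/

set_option autoImplicit false
set_option maxRecDepth 100000

namespace CfsgLib.InvChar.HeRec

open CfsgLib.InvChar.Coset CfsgLib.InvChar.SporHeInvol Cfsg.Spor

/-- The five letters and the generator `d` (as letter `5`). -/
noncomputable def klD (x : ℕ) : He :=
  if x < 5 then (kElt (hLetK.getD x []) : He) else if x = 5 then SporHe.gen 3 else 1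

/-- The six letters. -/
noncomputable def kl (x : ℕ) : He :=
  if x < 5 then (kElt (hLetK.getD x []) : He) else if x = 5 then wprod klD Data.nWord else 1

/-- The action of a letter on the 2058 points. -/
noncomputable def pmApp (x p : ℕ) : ℕ := field Data.pmTr 128 20 (p * 6 + x)

/-- The action of a word. -/
noncomputable def pmWord : List ℕ → ℕ → ℕ
  | [], p => p
  | x :: L, p => pmApp x (pmWord L p)

/-- The action of a word in the five letters and `d`. -/
noncomputable def dWord : List ℕ → ℕ → ℕ
  | [], p => p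
  | x :: L, p => bif Nat.blt x 5 then kFollow (hLetK.getD x []) (dWord L p) else HeA.table.app (dWord L p) 3

theorem pm_letters : ∀ x < 5, allFrom (fun p => Nat.beq (pmApp x p) (kFollow (hLetK.getD x []) p)) 2058 0 = true := by
  decide +kernel

theorem pm_five : allFrom (fun p => Nat.beq (pmApp 5 p) (dWord Data.nWord p)) 2058 0 = true ∧
    (∀ x ∈ Data.nWord, x < 6) := by
  decide +kernel

theorem pm_sq : ∀ x < 6, allFrom (fun p => Nat.beq (pmApp x (pmApp x p)) p) 2058 0 = true := by
  decide +kernel

theorem all_2058 {f : ℕ → Bool} (h : allFrom f 2058 0 = true) (p : Fin HeA.table.n) : f p = true :=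
  allFrom_get f 2058 0 h p (Nat.zero_le _) (lt_of_lt_of_eq p.2 (n_eq.trans (Nat.zero_add _).symm))

theorem rep_klD : ∀ (L : List ℕ), (∀ x ∈ L, x < 6) → ∀ p : Fin HeA.table.n,
    (SporHe.rep (wprod klD L) p : ℕ) = dWord L p
  | [], _, p => by simp [wprod, dWord]
  | x :: L, hL, p => by
    have hx : x < 6 := hL x List.mem_cons_self
    have ih := rep_klD L (fun y hy => hL y (List.mem_cons_of_mem x hy)) p
    have e : wprod klD (x :: L) = klD x * wprod klD L := by simp [wprod]
    rw [e, map_mul, Equiv.Perm.mul_apply, dWord, ← ih]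
    rcases Nat.lt_or_ge x 5 with h | h
    · rw [show Nat.blt x 5 = true by simpa [Nat.blt] using h, cond_true, klD, if_pos h, rep_kElt]
    · obtain rfl : x = 5 := by omega
      rw [show Nat.blt 5 5 = false by rfl, cond_false, klD, if_neg (lt_irrefl 5), if_pos rfl,
        SporHe.rep_gen 3 (by norm_num), SporHe.perm, HeA.valid.toPerm_apply HeA.sq (by decide)]

theorem rep_kl {x : ℕ} (hx : x < 6) (p : Fin HeA.table.n) : (SporHe.rep (kl x) p : ℕ) = pmApp x p := by
  rcases Nat.lt_or_ge x 5 with h | h
  · rw [kl, if_pos h, rep_kElt, Nat.eq_of_beq_eq_true (all_2058 (pm_letters x h) p)]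
  · obtain rfl : x = 5 := by omega
    rw [kl, if_neg (lt_irrefl 5), if_pos rfl, rep_klD _ pm_five.2,
      Nat.eq_of_beq_eq_true (all_2058 pm_five.1 p)]

theorem kl_mul_self (x : ℕ) : kl x * kl x = 1 := by
  rcases Nat.lt_or_ge x 6 with hx | hx
  · refine SporHe.card_eq.2 (Equiv.ext fun p => Fin.ext ?_)
    rw [map_mul, map_one, Equiv.Perm.mul_apply, rep_kl hx, rep_kl hx, Equiv.Perm.one_apply]
    exact Nat.eq_of_beq_eq_true (all_2058 (pm_sq x hx) p)
  · rw [kl, if_neg (by omega), if_neg (by omega), one_mul]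

theorem rep_wprod_kl : ∀ (L : List ℕ), (∀ x ∈ L, x < 6) → ∀ p : Fin HeA.table.n,
    (SporHe.rep (wprod kl L) p : ℕ) = pmWord L p
  | [], _, p => by simp [wprod, pmWord]
  | x :: L, hL, p => by
    have e : wprod kl (x :: L) = kl x * wprod kl L := by simp [wprod]
    rw [e, map_mul, Equiv.Perm.mul_apply, rep_kl (hL x List.mem_cons_self), pmWord,
      rep_wprod_kl L (fun y hy => hL y (List.mem_cons_of_mem x hy)) p]

/-- The word fixes all the points. -/
noncomputable def chkKl (w : List ℕ) : Bool :=
  w.all (fun x => Nat.blt x 6) && allFrom (fun p => Nat.beq (pmWord w p) p) 2058 0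

theorem wprod_kl_eq_one {w : List ℕ} (h : chkKl w = true) : wprod kl w = 1 := by
  simp only [chkKl, Bool.and_eq_true, List.all_eq_true] at h
  refine SporHe.card_eq.2 (Equiv.ext fun p => Fin.ext ?_)
  rw [map_one, Equiv.Perm.one_apply, rep_wprod_kl w fun x hx => by simpa [Nat.blt] using h.1 x hx]
  exact Nat.eq_of_beq_eq_true (all_2058 h.2 p)

/-- The code on 16 points of a word in the five letters. -/
noncomputable def c16Word : List ℕ → ℕ
  | [] => idCode
  | x :: L => comp16 (kCode (hLetK.getD x [])) (c16Word L)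

/-- A word is trivial in the presented group: by the codes of the centraliser, or on the points. -/
noncomputable def chkHe (w : List ℕ) : Bool :=
  (w.all (fun x => Nat.blt x 5) && Nat.beq (c16Word w) idCode) || chkKl w

theorem exists_cElt : ∀ (w : List ℕ), (∀ x ∈ w, x < 5) →
    ∃ g : ↥(Subgroup.centralizer ({SporHe.gen 4} : Set He)), (g : He) = wprod kl w ∧ phiCode g = c16Word w
  | [], _ => ⟨1, by simp [wprod], phiCode_one⟩
  | x :: L, hw => by
    obtain ⟨g, hg, hc⟩ := exists_cElt L fun y hy => hw y (List.mem_cons_of_mem x hy)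
    refine ⟨kElt (hLetK.getD x []) * g, ?_, ?_⟩
    · rw [Subgroup.coe_mul, hg, show (kElt (hLetK.getD x []) : He) = kl x from (if_pos (hw x List.mem_cons_self)).symm]
      simp [wprod]
    · rw [phiCode_mul, phiCode_kElt, hc, c16Word]

theorem wprod_kl_of_chkHe {w : List ℕ} (h : chkHe w = true) : wprod kl w = 1 := by
  simp only [chkHe, Bool.or_eq_true, Bool.and_eq_true, List.all_eq_true] at h
  rcases h with ⟨h1, h2⟩ | h
  · obtain ⟨g, hg, hc⟩ := exists_cElt w fun x hx => by simpa [Nat.blt] using h1 x hx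
    rw [← hg, phiCode_injective (hc.trans ((Nat.eq_of_beq_eq_true h2).trans phiCode_one.symm)), Subgroup.coe_one]
  · exact wprod_kl_eq_one h

end CfsgLib.InvChar.HeRec
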