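import Mathlib.Data.Nat.Bitwise

/-! Words in the five letters, in base six, for the parts of the codes of the Held centraliser. -/

set_option autoImplicit false

namespace CfsgLib.InvChar.HeRec

/-- Words for the translations `u + 8 c`. -/
def wordsU : List ℕ :=
 [0, 7354089, 9469291, 49812673, 9220117, 9671108, 775304, 1193275,
  43989, 1615115, 1226818, 35905, 7490179, 17845, 946881, 919610]

/-- Words for the linear forms. -/
def wordsF : List ℕ :=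
 [0, 1109085, 44879, 1383687, 549211, 13771, 922437, 41108]

/-- Words for the matrices. -/
def wordsA : List ℕ :=
 [0, 0, 0, 0, 0, 0, 0, 0,
  0, 0, 0, 0, 0, 0, 0, 0,
  0, 0, 0, 0, 0, 0, 0, 0,
  0, 0, 0, 0, 0, 0, 0, 0,
  0, 0, 0, 0, 0, 0, 0, 0,
  0, 0, 0, 0, 0, 0, 0, 0,
  0, 0, 0, 0, 0, 0, 0, 0,
  0, 0, 0, 0, 0, 0, 0, 0,
  0, 0, 0, 0, 0, 0, 0, 0,
  0, 0, 0, 0, 0, 0, 0, 0,
  0, 0, 0, 0, 269276, 41324, 1191860, 478592,
  0, 0, 0, 0, 434539, 1389272, 43683, 76309,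
  0, 0, 204394, 7477, 0, 0, 79687, 398857,
  0, 0, 201363, 41311, 0, 0, 453452, 2300,
  0, 0, 4379, 91473, 453439, 185171, 0, 0,
  0, 0, 5526841, 1600939, 61, 38338, 0, 0,
  0, 0, 0, 0, 0, 0, 0, 0,
  0, 0, 0, 0, 212164, 1584843, 151478, 1611754,
  0, 0, 0, 0, 0, 0, 0, 0,
  0, 0, 0, 0, 76957, 1488224, 1087677, 527390,
  0, 9311660, 0, 43390, 0, 33575, 0, 35583,
  0, 945925, 0, 231179, 2297, 0, 124100, 0,
  0, 262414, 0, 777158, 0, 87677, 0, 89327,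
  0, 137285, 0, 712563, 402097, 0, 231397, 0,
  0, 0, 0, 0, 0, 0, 0, 0,
  0, 0, 0, 0, 7179, 217244, 245533, 743033,
  0, 0, 0, 0, 758515, 7256929, 1256, 1239907,
  0, 0, 0, 0, 0, 0, 0, 0,
  0, 969043, 948443, 0, 0, 977888, 777235, 0,
  0, 30867, 260434, 0, 920077, 0, 0, 42325,
  0, 1243, 266613, 0, 80299, 0, 0, 5818,
  0, 247885, 772825, 0, 0, 178477, 29266, 0,
  0, 0, 0, 0, 0, 0, 0, 0,
  0, 0, 181076, 19797, 0, 0, 631, 2961,
  0, 0, 0, 153343, 0, 181063, 0, 771601,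
  0, 4841041, 30512, 0, 0, 1099381, 85049, 0,
  0, 0, 0, 0, 0, 0, 0, 0,
  0, 0, 356, 4841761, 0, 0, 969326, 254869,
  0, 1526102, 0, 138075, 0, 90427, 0, 157640,
  0, 6239281, 4256, 0, 0, 771837, 8859397, 0,
  0, 0, 0, 0, 0, 0, 0, 0,
  0, 0, 17696, 826, 0, 0, 209511, 651825,
  0, 7132801, 0, 44471, 22439, 0, 931081, 0,
  0, 108620, 2501, 0, 38158, 0, 0, 14165,
  0, 0, 126873, 79882, 0, 0, 912237, 106040,
  0, 0, 0, 0, 0, 0, 0, 0,
  0, 1041601, 1627328, 0, 1628602, 0, 0, 1192171,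
  0, 387351, 0, 6028, 259161, 0, 1611999, 0,
  0, 0, 0, 0, 0, 0, 0, 0,
  0, 0, 20636, 181307, 250678, 526772, 0, 0,
  0, 215541, 0, 7295, 0, 29086, 0, 38331,
  0, 478141, 1071, 0, 3805, 0, 0, 200007,
  0, 201479, 0, 246127, 0, 790478, 0, 256027,
  0, 82055, 1293344, 0, 12071, 0, 0, 434027,
  0, 0, 0, 0, 0, 0, 0, 0,
  0, 0, 178396, 38151, 807787, 1272525, 0, 0,
  0, 0, 0, 0, 0, 0, 0, 0,
  0, 0, 73531, 7051, 4632385, 200759, 0, 0,
  0, 1224121, 0, 41321, 1270885, 0, 4278943, 0,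
  0, 496861, 244797, 0, 0, 1469287, 1529204, 0,
  0, 253940, 1468221, 0, 0, 258974, 1506307, 0,
  0, 353, 0, 527806, 182263, 0, 819019, 0,
  0, 0, 127343, 1111055, 42475, 776900, 0, 0,
  0, 0, 0, 0, 0, 0, 0, 0]

end CfsgLib.InvChar.HeRec
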