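import Cfsg.Agent.Lib.InvChar.HeRec.Letters
import Cfsg.Agent.Lib.InvChar.HeRec.Fields
import Cfsg.Agent.Lib.InvChar.HeRec.PairData

/-!
# The graph of the centraliser in the product with the presented Held group
-/

set_option autoImplicit false
set_option maxRecDepth 100000

namespace CfsgLib.InvChar.HeRec

open CfsgLib.InvChar.Coset CfsgLib.InvChar.SporHeInvol
open Cfsg.Spor

/-- The letters in the presented group. -/
noncomputable def hHe (i : ℕ) : He := (SporHeInvol.kElt (hLetK.getD i []) : He)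

/-- The graph. -/
noncomputable def pairH {G : Type*} [Group G] (ψ : ℕ → G) : Subgroup (G × He) :=
  Subgroup.closure (Set.range fun i : Fin 5 => (ψ (hLet.getD i 0), hHe i))

theorem hvalid_mk {A u f c : ℕ} (hA : A < 512) (hu : u < 8) (hf : f < 8) (hc : c ≤ 1) :
    hvalid (mk A u f c) = hvalid A := by
  have e : ∀ x : ℕ, x &&& 7 = x % 8 := fun x => Nat.and_two_pow_sub_one_eq_mod x 3
  have h0 : mk A u f c % 8 = A % 8 := by unfold mk; omega
  have h3 : mk A u f c / 2 ^ 3 % 8 = A / 2 ^ 3 % 8 := by unfold mk; omega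
  have h6 : mk A u f c / 2 ^ 6 % 8 = A / 2 ^ 6 % 8 := by unfold mk; omega
  have hlt : mk A u f c < 65536 := by unfold mk; omega
  simp only [hvalid, e, Nat.shiftRight_eq_div_pow, h0, h3, h6, hlt, show A < 65536 by omega]

theorem of_valid {x : ℕ} (hx : hvalid x = true) : ∃ A u f c, x = mk A u f c ∧ A < 512 ∧ u < 8 ∧
    f < 8 ∧ c ≤ 1 ∧ hvalid A = true := by
  have hA : x &&& 511 < 512 := Nat.lt_succ_of_le Nat.and_le_right
  have hc : x >>> 15 ≤ 1 := by
    simp only [hvalid, Bool.and_eq_true, decide_eq_true_eq] at hx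
    have := hx.1.1.1.1.1.1.1
    rw [Nat.shiftRight_eq_div_pow]
    omega
  refine ⟨_, _, _, _, (mk_self x).symm, hA, and_seven_lt _, and_seven_lt _, hc, ?_⟩
  rwa [← hvalid_mk hA (and_seven_lt (x >>> 9)) (and_seven_lt (x >>> 12)) hc, mk_self]

theorem let_fields : ∀ i < 5, hvalid (hLet.getD i 0) = true ∧
    below 512 (fun A => !hvalid A || hvalid (matMul A (hLet.getD i 0 &&& 511))) = true := by
  decide +kernel

theorem hActRaw_mk {A u f c i : ℕ} (hA : A < 512) (hu : u < 8) (hf : f < 8) :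
    hActRaw (mk A u f c) i = act A u f c i := by
  obtain ⟨a1, a2, a3, a4⟩ := fields c hA hu hf
  simp only [hActRaw, a1, a2, a3, a4]
  rfl

theorem renumber : ∀ i < 16, hTo.getD i 0 < 16 ∧ hFrom.getD i 0 < 16 ∧
    hTo.getD (hFrom.getD i 0) 0 = i ∧ hFrom.getD (hTo.getD i 0) 0 = i := by decide +kernel

theorem hvalid_hmul {x : ℕ} (hx : hvalid x = true) {i : ℕ} (hi : i < 5) :
    hvalid (hmul x (hLet.getD i 0)) = true ∧
      hCode16 (hmul x (hLet.getD i 0)) = comp16 (hCode16 x) (hCode16 (hLet.getD i 0)) := by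
  obtain ⟨A, u, f, c, rfl, hA, hu, hf, hc, hvA⟩ := of_valid hx
  obtain ⟨hL, hmat⟩ := let_fields i hi
  obtain ⟨B, v, g, d, e, hB, hv, hg, hd, -⟩ := of_valid hL
  rw [e] at hmat ⊢
  rw [(fields d hB hv hg).1] at hmat
  have hAB := of_below hmat hA
  rw [hvA, Bool.not_true, Bool.false_or] at hAB
  have hu' := Nat.xor_lt_two_pow (n := 3) (colMul_lt A v) hu
  have hf' := Nat.xor_lt_two_pow (n := 3) (rowMul_lt f B) hg
  have hc' := bit_xor (bit_xor hc hd) (parThree_le (f &&& v))
  rw [hmul_mk hA hu hf hB hv hg]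
  refine ⟨(hvalid_mk (matMul_lt _ _) hu' hf' hc').trans hAB, ?_⟩
  rw [comp16, hCode16]
  refine enc16_congr _ _ fun t ht => ?_
  have h1 : ∀ A' u' f' c' : ℕ, u' < 8 → f' < 8 → A' < 512 → c' ≤ 1 → ∀ s < 16,
      app16 (hCode16 (mk A' u' f' c')) s = hFrom.getD (act A' u' f' c' (hTo.getD s 0)) 0 := by
    intro A' u' f' c' h2 h3 h4 h5 s hs
    rw [hCode16, app16_enc16 _ (fun r hr => (renumber _ ?_).2.1) hs, hActRaw_mk h4 h2 h3]
    rw [hActRaw_mk h4 h2 h3]
    exact act_lt h2 h5
  have hs := act_lt (A := B) (f := g) (i := hTo.getD t 0) hv hd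
  rw [h1 B v g d hv hg hB hd t ht, h1 A u f c hu hf hA hc _ (renumber _ hs).2.1,
    (renumber _ hs).2.2.1, hActRaw_mk (matMul_lt _ _) hu' hf',
    act_comp hA hf hB hv hg hd (renumber t ht).1]

theorem one_check : below 512 (fun A => !(colMul A 1 == 1 && colMul A 2 == 2 && colMul A 4 == 4) ||
    A == 273) = true ∧ below 8 (fun f => !(parThree (f &&& 1) == 0 && parThree (f &&& 2) == 0 &&
    parThree (f &&& 4) == 0) || f == 0) = true := by decide +kernel

theorem eq_hOne {x : ℕ} (hx : hvalid x = true) (h : hCode16 x = idCode) : x = hOne := by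
  obtain ⟨A, u, f, c, rfl, hA, hu, hf, hc, -⟩ := of_valid hx
  have hid : ∀ s < 16, act A u f c s = s := by
    intro s hs
    obtain ⟨hfr, hfr', -, -⟩ := renumber s hs
    have h1 := congrArg (fun p => app16 p (hFrom.getD s 0)) h
    rw [hCode16, app16_enc16 _ (fun r hr => (renumber _ ?_).2.1) hfr', idCode,
      app16_enc16 _ (fun r hr => hr) hfr', (renumber s hs).2.2.1, hActRaw_mk hA hu hf] at h1
    · have h2 := congrArg (fun j => hTo.getD j 0) h1
      rwa [(renumber _ (act_lt hu hc)).2.2.1, (renumber s hs).2.2.1] at h2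
    · rw [hActRaw_mk hA hu hf]
      exact act_lt hu hc
  have z0 : colMul A 0 = 0 := by simp [colMul, parThree]
  have h0 := hid 0 (by norm_num)
  simp only [act, show (0 : ℕ) &&& 1 = 0 from rfl, show (0 : ℕ) >>> 1 = 0 from rfl, Nat.and_zero,
    show parThree 0 = 0 from rfl, Nat.zero_xor, z0] at h0
  obtain ⟨rfl, rfl⟩ : c = 0 ∧ u = 0 := by omega
  have key : ∀ v < 8, colMul A v = v ∧ parThree (f &&& v) = 0 := by
    intro v hv
    have h1 := hid (2 * v) (by omega)
    have e1 : 2 * v &&& 1 = 0 := by rw [Nat.and_one_is_mod]; omega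
    have e2 : (2 * v) >>> 1 = v := by rw [Nat.shiftRight_eq_div_pow]; omega
    simp only [act, e1, e2, Nat.zero_xor, Nat.xor_zero] at h1
    have := parThree_le (f &&& v)
    omega
  have hA' := of_below one_check.1 hA
  rw [(key 1 (by norm_num)).1, (key 2 (by norm_num)).1, (key 4 (by norm_num)).1] at hA'
  have hf' := of_below one_check.2 hf
  rw [(key 1 (by norm_num)).2, (key 2 (by norm_num)).2, (key 4 (by norm_num)).2] at hf'
  simp only [BEq.rfl, Bool.and_self, Bool.not_true, Bool.false_or, beq_iff_eq] at hA' hf'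
  rw [hA', hf']
  rfl

/-- The code of a word in the letters. -/
def wfold (L : List ℕ) : ℕ := L.foldl (fun x i => hmul x (hLet.getD i 0)) hOne

/-- The letters of a word given in base six. -/
def wordOf : ℕ → ℕ → List ℕ
  | 0, _ => []
  | k + 1, n => if n = 0 then [] else (n % 6 - 1) :: wordOf k (n / 6)

/-- Word check. -/
def wordOK (w target : ℕ) : Bool :=
  (wordOf 12 w).all (fun i => decide (i < 5)) && wfold (wordOf 12 w) == target

theorem words_ok : below 16 (fun k => wordOK (wordsU.getD k 0) (mk 273 (k % 8) 0 (k / 8))) = true ∧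
    below 8 (fun f => wordOK (wordsF.getD f 0) (mk 273 0 f 0)) = true ∧
    below 512 (fun A => !hvalid A || wordOK (wordsA.getD A 0) A) = true := by
  decide +kernel

variable {G : Type*} [Group G] {t : G} {ψ : ℕ → G}

theorem frame_one (hψ : IsFrame t ψ) : ψ hOne = 1 := by
  have h := hψ.map_mul hOne hOne (by decide +kernel) (by decide +kernel)
  rw [show hmul hOne hOne = hOne by decide +kernel] at h
  exact (mul_eq_left.1 h.symm)

theorem word_mem (hψ : IsFrame t ψ) : ∀ L : List ℕ, (∀ i ∈ L, i < 5) →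
    ∃ h : ↥(Subgroup.centralizer ({SporHe.gen 4} : Set He)), hvalid (wfold L) = true ∧
      (ψ (wfold L), (h : He)) ∈ pairH ψ ∧ phiCode h = hCode16 (wfold L) ∧
      (L.map fun i => (ψ (hLet.getD i 0), hHe i)).prod = (ψ (wfold L), (h : He)) := by
  intro L
  induction L using List.reverseRecOn with
  | nil =>
    intro _
    refine ⟨1, by decide +kernel, ?_, ?_, ?_⟩
    · simp only [wfold, List.foldl_nil, frame_one hψ, Subgroup.coe_one]
      exact one_mem _
    · rw [phiCode_one]; decide +kernel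
    · simp only [wfold, List.foldl_nil, frame_one hψ, Subgroup.coe_one, List.map_nil, List.prod_nil]
      rfl
  | append_singleton L i ih =>
    intro hL
    obtain ⟨h, hv, hm, hc, hp⟩ := ih fun j hj => hL j (List.mem_append_left _ hj)
    have hi : i < 5 := hL i (List.mem_append_right _ (List.mem_singleton_self i))
    obtain ⟨hv', hc'⟩ := hvalid_hmul hv hi
    have e : wfold (L ++ [i]) = hmul (wfold L) (hLet.getD i 0) := by simp [wfold]
    have hmul' : ψ (wfold (L ++ [i])) = ψ (wfold L) * ψ (hLet.getD i 0) := by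
      rw [e, hψ.map_mul _ _ hv (let_fields i hi).1]
    refine ⟨h * kElt (hLetK.getD i []), e ▸ hv', ?_, ?_, ?_⟩
    · rw [hmul', Subgroup.coe_mul]
      exact mul_mem hm (Subgroup.subset_closure ⟨⟨i, hi⟩, rfl⟩)
    · rw [phiCode_mul, hc, phiCode_kElt, (hLetK_code i hi).1, e, hc']
    · rw [List.map_append, List.prod_append, hp, hmul', Subgroup.coe_mul]
      simp [hHe]

/-- A relation of the letters in the presented group holds in `G`. -/
theorem eq_one_of_mem_pairH [Finite G] (hψ : IsFrame t ψ) {g : G} (h : (g, (1 : He)) ∈ pairH ψ) :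
    g = 1 := by
  have : Finite He := SporHe.card_le.1
  have h' : (g, (1 : He)) ∈ Submonoid.closure
      (Set.range fun i : Fin 5 => (ψ (hLet.getD i 0), hHe i)) := by
    rw [← Subgroup.closure_toSubmonoid_of_finite]
    exact h
  obtain ⟨l, hl, hprod⟩ := Submonoid.exists_list_of_mem_closure h'
  have hsplit : ∃ L : List ℕ, (∀ i ∈ L, i < 5) ∧
      L.map (fun i => (ψ (hLet.getD i 0), hHe i)) = l := by
    clear hprod
    induction l with
    | nil => exact ⟨[], by simp, rfl⟩
    | cons a l ih =>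
      obtain ⟨L, h1, h2⟩ := ih fun y hy => hl y (List.mem_cons_of_mem _ hy)
      obtain ⟨i, rfl⟩ := hl a (List.mem_cons_self ..)
      refine ⟨(i : ℕ) :: L, ?_, by rw [List.map_cons, h2]⟩
      intro j hj
      rcases List.mem_cons.1 hj with rfl | hj
      · exact i.2
      · exact h1 j hj
  obtain ⟨L, hL, rfl⟩ := hsplit
  obtain ⟨k, hv, -, hc, hp⟩ := word_mem hψ L hL
  rw [hprod] at hp
  have hk : k = 1 := Subtype.ext (congrArg Prod.snd hp).symm
  rw [hk, phiCode_one] at hc
  have := eq_hOne hv hc.symm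
  rw [show g = ψ (wfold L) from congrArg Prod.fst hp, this, frame_one hψ]

theorem exists_word {w target : ℕ} (h : wordOK w target = true) :
    ∃ L : List ℕ, (∀ i ∈ L, i < 5) ∧ wfold L = target := by
  simp only [wordOK, Bool.and_eq_true, List.all_eq_true, decide_eq_true_eq, beq_iff_eq] at h
  exact ⟨_, h.1, h.2⟩

theorem units_check : below 512 (fun A => matMul 273 A == A && (matMul A 273 == A &&
    (colMul A 0 == 0 && rowMul 0 A == 0))) = true ∧
    below 8 (fun f => rowMul f 273 == f) = true := by decide +kernel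

/-- Every element of the centraliser occurs in the graph. -/
theorem exists_mem_pairH (hψ : IsFrame t ψ) (x : ℕ) (hx : hvalid x = true) :
    ∃ h : He, (ψ x, h) ∈ pairH ψ := by
  obtain ⟨A, u, f, c, rfl, hA, hu, hf, hc, hvA⟩ := of_valid hx
  obtain ⟨wU, wF, wA⟩ := words_ok
  have hk : u + 8 * c < 16 := by omega
  have hU := of_below wU hk
  rw [show (u + 8 * c) % 8 = u by omega, show (u + 8 * c) / 8 = c by omega] at hU
  have hA' := of_below wA hA
  rw [hvA, Bool.not_true, Bool.false_or] at hA'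
  obtain ⟨L1, l1, e1⟩ := exists_word hU
  obtain ⟨L2, l2, e2⟩ := exists_word hA'
  obtain ⟨L3, l3, e3⟩ := exists_word (of_below wF hf)
  obtain ⟨h1, v1, m1, -, -⟩ := word_mem hψ L1 l1
  obtain ⟨h2, v2, m2, -, -⟩ := word_mem hψ L2 l2
  obtain ⟨h3, v3, m3, -, -⟩ := word_mem hψ L3 l3
  rw [e1] at v1 m1
  rw [e2] at v2 m2
  rw [e3] at v3 m3
  refine ⟨(h1 : He) * h2 * h3, ?_⟩
  have hm := mul_mem (mul_mem m1 m2) m3
  simp only [Prod.mk_mul_mk] at hm
  obtain ⟨hu1, hu2, hu3, hu4⟩ : matMul 273 A = A ∧ matMul A 273 = A ∧ colMul A 0 = 0 ∧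
      rowMul 0 A = 0 := by simpa using of_below units_check.1 hA
  have hr : rowMul f 273 = f := beq_iff_eq.1 (of_below units_check.2 hf)
  have hAmk : mk A 0 0 0 = A := by simp [mk]
  have p1 : hmul (mk 273 u 0 c) A = mk A u 0 c := by
    conv_lhs => rw [← hAmk]
    rw [hmul_mk (by norm_num) hu (by norm_num) hA (by norm_num) (by norm_num), hu1, hu4,
      show colMul 273 0 = 0 from rfl]
    simp [parThree]
  have p2 : hmul (mk A u 0 c) (mk 273 0 f 0) = mk A u f c := by
    rw [hmul_mk hA hu (by norm_num) (by norm_num) (by norm_num) hf, hu2, hu3,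
      show rowMul 0 273 = 0 from rfl]
    simp [parThree]
  have v12 : hvalid (mk A u 0 c) = true := (hvalid_mk hA hu (by norm_num) hc).trans hvA
  rwa [← hψ.map_mul _ _ v1 v2, p1, ← hψ.map_mul _ _ v12 v3, p2] at hm

end CfsgLib.InvChar.HeRec
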