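import Cfsg.Agent.Lib.InvChar.HeRec.Model
import Mathlib.GroupTheory.Perm.Basic

/-!
# The five letters and the swap on 24 points, for the Mathieu pattern of the triangle values
-/

set_option autoImplicit false

namespace CfsgLib.InvChar.HeRec

/-- Six involutions on 24 points: the five letters and the swap. -/
def mPerms : List (List ℕ) := [[0, 1, 3, 2, 8, 9, 11, 10, 4, 5, 7, 6, 12, 13, 15, 14, 16, 17, 20, 21, 18, 19, 22, 23], [4, 5, 12, 13, 0, 1, 8, 9, 6, 7, 14, 15, 2, 3, 10, 11, 18, 22, 16, 20, 19, 23, 17, 21], [14, 15, 10, 11, 12, 13, 8, 9, 6, 7, 2, 3, 4, 5, 0, 1, 23, 21, 22, 20, 19, 17, 18, 16], [0, 1, 5, 4, 3, 2, 6, 7, 15, 14, 10, 11, 12, 13, 9, 8, 19, 21, 22, 16, 23, 17, 18, 20], [9, 8, 11, 10, 14, 15, 12, 13, 1, 0, 3, 2, 6, 7, 4, 5, 20, 23, 22, 21, 16, 19, 18, 17], [1, 0, 2, 10, 19, 18, 14, 7, 8, 9, 3, 11, 16, 17, 6, 15, 12, 13, 5, 4, 20, 21, 23, 22]]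

/-- The right action of a code on the points `c + 2 v < 16`, read as the rows `(1, v, c)`. -/
def mAct (x i : ℕ) : ℕ :=
  ((i &&& 1) ^^^ (x >>> 15) ^^^ parThree ((i >>> 1) &&& ((x >>> 9) &&& 7)))
    + 2 * (rowMul (i >>> 1) (x &&& 511) ^^^ ((x >>> 12) &&& 7))

theorem mAct_let : ∀ k < 5, ∀ i < 16,
    mAct (([673, 8276, 28938, 4042, 50457] : List ℕ).getD k 0) i = (mPerms.getD k []).getD i 0 := by
  decide +kernel

theorem mPerms_invol : ∀ k < 6, ∀ i < 24, (mPerms.getD k []).getD i 0 < 24 ∧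
    (mPerms.getD k []).getD ((mPerms.getD k []).getD i 0) 0 = i := by
  decide +kernel

end CfsgLib.InvChar.HeRec
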