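import Cfsg.Agent.Lib.InvChar.HeRec.Swap.Basic
import Cfsg.Agent.Lib.InvChar.HeRec.Letters
import Cfsg.Agent.Lib.InvChar.HeRec.MathieuPerms

/-!
# Pairing a frame with the Mathieu pattern on 24 points

The subgroup of `G × Perm (Fin 24)` generated by the five letters is a graph over the centraliser.
-/

set_option autoImplicit false
set_option maxRecDepth 100000

namespace CfsgLib.InvChar.HeRec

open Swap

theorem mPerms_lt (k : ℕ) (i : Fin 24) (hk : k < 6) : (mPerms.getD k []).getD (i : ℕ) 0 < 24 :=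
  (mPerms_invol k hk i i.2).1

/-- The underlying map of `mPerm`. -/
def mFun (k : ℕ) (i : Fin 24) : Fin 24 :=
  if hk : k < 6 then ⟨(mPerms.getD k []).getD (i : ℕ) 0, mPerms_lt k i hk⟩ else i

theorem mFun_invol (k : ℕ) : Function.Involutive (mFun k) := by
  intro i
  by_cases hk : k < 6
  · simp only [mFun, hk, dif_pos]
    exact Fin.ext (mPerms_invol k hk i i.2).2
  · simp [mFun, hk]

/-- The involution `mPerms k` for `k < 6`, else the identity. -/
noncomputable def mPerm (k : ℕ) : Equiv.Perm (Fin 24) := (mFun_invol k).toPerm (mFun k)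

theorem mPerm_mul_self (k : ℕ) : mPerm k * mPerm k = 1 :=
  Equiv.ext fun i => mFun_invol k i

/-- The pairs of letters. -/
noncomputable def pairM {G : Type*} [Group G] (ψ : ℕ → G) : Subgroup (G × Equiv.Perm (Fin 24)) :=
  Subgroup.closure (Set.range fun i : Fin 5 => (ψ (hLet.getD i 0), mPerm i))

theorem rowMul_xor : ∀ a < 8, ∀ b < 8, ∀ k < 5,
    rowMul (a ^^^ b) (hLet.getD k 0 % 512) =
      rowMul a (hLet.getD k 0 % 512) ^^^ rowMul b (hLet.getD k 0 % 512) := by
  decide +kernel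

theorem rowMul_amul : ∀ k < 5, ∀ v < 8, ∀ A < 512,
    rowMul (rowMul v A) (hLet.getD k 0 % 512) = rowMul v (amul A (hLet.getD k 0 % 512)) := by
  decide +kernel

theorem par_colMul : ∀ k < 5, ∀ v < 8, ∀ A < 512,
    parThree (rowMul v A &&& (hLet.getD k 0 / 512 % 8)) =
      parThree (v &&& colMul A (hLet.getD k 0 / 512 % 8)) := by
  decide +kernel

theorem par_xor : ∀ a < 8, ∀ b < 8, ∀ c < 8,
    parThree ((a ^^^ b) &&& c) = parThree (a &&& c) ^^^ parThree (b &&& c) ∧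
      parThree (c &&& (a ^^^ b)) = parThree (c &&& a) ^^^ parThree (c &&& b) := by
  decide +kernel

theorem mat_id : ∀ A < 512, rowMul 1 A = 1 → rowMul 2 A = 2 → rowMul 4 A = 4 → A = 273 := by
  decide +kernel

theorem col_id : ∀ u < 8, parThree (1 &&& u) = 0 → parThree (2 &&& u) = 0 → parThree (4 &&& u) = 0 →
    u = 0 := by
  decide +kernel

theorem mAct_eq (x i : ℕ) : mAct x i =
    ((i % 2) ^^^ (x / 32768) ^^^ parThree ((i / 2) &&& (x / 512 % 8)))
      + 2 * (rowMul (i / 2) (x % 512) ^^^ (x / 4096 % 8)) := by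
  simp only [mAct, and_seven, and_one, and_511, shift_eq]
  norm_num

theorem hmul_eq (x y : ℕ) : hmul x y =
    amul (x % 512) (y % 512) + 512 * (colMul (x % 512) (y / 512 % 8) ^^^ (x / 512 % 8))
      + 4096 * (rowMul (x / 4096 % 8) (y % 512) ^^^ (y / 4096 % 8))
      + 32768 * ((x / 32768) ^^^ (y / 32768) ^^^ parThree ((x / 4096 % 8) &&& (y / 512 % 8))) := by
  have e0 : ∀ A B : ℕ, amul A B =
      rowMul (A % 8) B + 8 * rowMul (A / 2 ^ 3 % 8) B + 64 * rowMul (A / 2 ^ 6 % 8) B := by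
    intro A B; simp only [amul, and_seven, shift_eq]
  rw [e0]
  simp only [hmul, and_seven, and_511, shift_eq]
  norm_num

theorem mAct_letter {x : ℕ} (hx : hvalid x = true) {k : ℕ} (hk : k < 5) {i : ℕ} (hi : i < 16) :
    mAct (hmul x (hLet.getD k 0)) i = mAct (hLet.getD k 0) (mAct x i) := by
  have hlt : ∀ k < 5, hLet.getD k 0 < 65536 := by decide +kernel
  have hy := hlt k hk
  have hx' : x < 65536 := by
    rw [hvalid_split, Bool.and_eq_true, decide_eq_true_eq] at hx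
    exact hx.1
  have r1 := fun a ha b hb => rowMul_xor a ha b hb k hk
  have r2 := rowMul_amul k hk (i / 2) (by omega) (x % 512) (Nat.mod_lt _ (by norm_num))
  have p2 := par_colMul k hk (i / 2) (by omega) (x % 512) (Nat.mod_lt _ (by norm_num))
  generalize hLet.getD k 0 = y at hy r1 r2 p2 ⊢
  have hp := parThree_le ((x / 4096 % 8) &&& (y / 512 % 8))
  have hb : (x / 32768) ^^^ (y / 32768) ^^^ parThree ((x / 4096 % 8) &&& (y / 512 % 8)) < 2 :=
    Nat.xor_lt_two_pow (n := 1) (Nat.xor_lt_two_pow (n := 1) (by omega) (by omega)) (by omega)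
  have hu : colMul (x % 512) (y / 512 % 8) ^^^ (x / 512 % 8) < 8 :=
    Nat.xor_lt_two_pow (n := 3) (colMul_lt _ _) (by omega)
  have hf : rowMul (x / 4096 % 8) (y % 512) ^^^ (y / 4096 % 8) < 8 :=
    Nat.xor_lt_two_pow (n := 3) (rowMul_lt _ _) (by omega)
  have ha := amul_lt (x % 512) (y % 512)
  have hm := hmul_eq x y
  rw [mAct_eq, mAct_eq y, mAct_eq x]
  have f1 : hmul x y / 32768 =
      (x / 32768) ^^^ (y / 32768) ^^^ parThree ((x / 4096 % 8) &&& (y / 512 % 8)) := by omega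
  have f2 : hmul x y / 512 % 8 = colMul (x % 512) (y / 512 % 8) ^^^ (x / 512 % 8) := by omega
  have f3 : hmul x y % 512 = amul (x % 512) (y % 512) := hmul_mod x y
  have f4 : hmul x y / 4096 % 8 = rowMul (x / 4096 % 8) (y % 512) ^^^ (y / 4096 % 8) := by omega
  have hq : rowMul (i / 2) (x % 512) ^^^ (x / 4096 % 8) < 8 :=
    Nat.xor_lt_two_pow (n := 3) (rowMul_lt _ _) (by omega)
  have hs : i % 2 ^^^ x / 32768 ^^^ parThree ((i / 2) &&& (x / 512 % 8)) < 2 :=
    Nat.xor_lt_two_pow (n := 1) (Nat.xor_lt_two_pow (n := 1) (by omega) (by omega))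
      (Nat.lt_succ_of_le (parThree_le _))
  generalize hQ : rowMul (i / 2) (x % 512) ^^^ (x / 4096 % 8) = Q at hq ⊢
  generalize hS : i % 2 ^^^ x / 32768 ^^^ parThree ((i / 2) &&& (x / 512 % 8)) = S at hs ⊢
  rw [f1, f2, f3, f4, show (S + 2 * Q) % 2 = S by omega, show (S + 2 * Q) / 2 = Q by omega, ← hS, ← hQ]
  rw [(par_xor _ (colMul_lt _ _) _ (Nat.mod_lt _ (by norm_num)) _ (by omega)).2,
    (par_xor _ (rowMul_lt _ _) _ (Nat.mod_lt _ (by norm_num)) _ (Nat.mod_lt _ (by norm_num))).1, p2]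
  refine congrArg₂ (· + ·) ?_ (congrArg (2 * ·) ?_)
  · ac_rfl
  · rw [r1 _ (rowMul_lt _ _) _ (Nat.mod_lt _ (by norm_num)), r2]
    ac_rfl

theorem mAct_one {x : ℕ} (hx : hvalid x = true) (h : ∀ i < 16, mAct x i = i) : x = hOne := by
  have hx' : x < 65536 := by
    rw [hvalid_split, Bool.and_eq_true, decide_eq_true_eq] at hx
    exact hx.1
  have h0 := h 0 (by norm_num)
  have h2 := h 2 (by norm_num)
  have h4 := h 4 (by norm_num)
  have h8 := h 8 (by norm_num)
  rw [mAct_eq] at h0 h2 h4 h8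
  have z0 : parThree 0 = 0 ∧ ∀ A < 512, rowMul 0 A = 0 := by decide +kernel
  obtain ⟨z1, z2⟩ := z0
  norm_num [z1, z2 (x % 512) (Nat.mod_lt _ (by norm_num))] at h0
  obtain ⟨e1, e2⟩ : x / 32768 = 0 ∧ x / 4096 % 8 = 0 := by omega
  rw [e1, e2] at h2 h4 h8
  simp only [Nat.zero_xor, Nat.xor_zero, Nat.reduceMod, Nat.reduceDiv] at h2 h4 h8
  have b1 := parThree_le (1 &&& (x / 512 % 8))
  have b2 := parThree_le (2 &&& (x / 512 % 8))
  have b4 := parThree_le (4 &&& (x / 512 % 8))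
  have e3 := mat_id (x % 512) (Nat.mod_lt _ (by norm_num)) (by omega) (by omega) (by omega)
  have e4 := col_id (x / 512 % 8) (Nat.mod_lt _ (by norm_num)) (by omega) (by omega) (by omega)
  show x = 273
  omega

theorem mPerm_let {k : ℕ} (hk : k < 5) (i : Fin 24) (hi : (i : ℕ) < 16) :
    (mPerm k i : ℕ) = mAct (hLet.getD k 0) i := by
  refine Eq.trans ?_ (mAct_let k hk i hi).symm
  show (mFun k i : ℕ) = _
  simp [mFun, show k < 6 by omega]

variable {G : Type*} [Group G] {t : G} {ψ : ℕ → G}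

/-- Every element of the paired group has a code acting as the inverse permutation on the first 16 points. -/
theorem pairM_code (hψ : IsFrame t ψ) {p : G × Equiv.Perm (Fin 24)} (h : p ∈ pairM ψ) :
    ∃ x, hvalid x = true ∧ p.1 = ψ x ∧ ∀ i : Fin 24, (i : ℕ) < 16 →
      (p.2⁻¹ i : ℕ) = mAct x i ∧ mAct x i < 16 := by
  have hl : ∀ k < 5, hvalid (hLet.getD k 0) = true := fun k hk => (hLetK_code k hk).2
  have hlt : ∀ k < 5, ∀ i < 16, mAct (hLet.getD k 0) i < 16 := by decide +kernel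
  have hone : ∀ i < 16, mAct hOne i = i := by decide +kernel
  have step : ∀ (q : G × Equiv.Perm (Fin 24)) (k : Fin 5),
      (∃ x, hvalid x = true ∧ q.1 = ψ x ∧ ∀ i : Fin 24, (i : ℕ) < 16 →
        (q.2⁻¹ i : ℕ) = mAct x i ∧ mAct x i < 16) →
      ∃ x, hvalid x = true ∧ q.1 * ψ (hLet.getD k 0) = ψ x ∧ ∀ i : Fin 24, (i : ℕ) < 16 →
        ((q.2 * mPerm k)⁻¹ i : ℕ) = mAct x i ∧ mAct x i < 16 := by
    rintro q k ⟨x, hx, hq, hact⟩
    refine ⟨hmul x (hLet.getD k 0), hvalid_hmul hx (hl k k.2),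
      by rw [hψ.map_mul _ _ hx (hl k k.2), hq], fun i hi => ?_⟩
    obtain ⟨h1, h2⟩ := hact i hi
    rw [mul_inv_rev, inv_eq_of_mul_eq_one_right (mPerm_mul_self k), Equiv.Perm.mul_apply,
      mAct_letter hx k.2 hi, mPerm_let k.2 _ (h1.symm ▸ h2), h1]
    exact ⟨rfl, hlt k k.2 _ h2⟩
  induction h using Subgroup.closure_induction_right with
  | one =>
    exact ⟨hOne, valid_one, (ψ_one hψ).symm, fun i hi => ⟨by simp [hone i hi], by rw [hone i hi]; exact hi⟩⟩
  | mul_right q hq y hy ih =>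
    obtain ⟨k, rfl⟩ := hy
    exact step q k ih
  | mul_inv_cancel q hq y hy ih =>
    obtain ⟨k, rfl⟩ := hy
    obtain ⟨x, hx, he, hact⟩ := step q k ih
    have hself : ψ (hLet.getD k 0) * ψ (hLet.getD k 0) = 1 := by
      have h5 : ∀ k < 5, hmul (hLet.getD k 0) (hLet.getD k 0) = hOne := by decide +kernel
      rw [ψ_mul_eq hψ (hl k k.2) (hl k k.2) (h5 k k.2), ψ_one hψ]
    refine ⟨x, hx, ?_, ?_⟩
    · rw [Prod.fst_mul, Prod.fst_inv, inv_eq_of_mul_eq_one_right hself]; exact he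
    · rw [Prod.snd_mul, Prod.snd_inv, inv_eq_of_mul_eq_one_right (mPerm_mul_self k)]; exact hact

theorem eq_one_of_mem_pairM (hψ : IsFrame t ψ) {g : G} (h : (g, (1 : Equiv.Perm (Fin 24))) ∈ pairM ψ) :
    g = 1 := by
  obtain ⟨x, hx, he, hact⟩ := pairM_code hψ h
  have hx1 := mAct_one hx fun i hi => by simpa using ((hact ⟨i, by omega⟩ hi).1).symm
  rw [show g = ψ x from he, hx1, ψ_one hψ]

end CfsgLib.InvChar.HeRec
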