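import Cfsg.Agent.Lib.InvChar.HeRec.Derive
import Cfsg.Agent.Lib.InvChar.HeRec.HeSide
import Cfsg.Agent.Lib.InvChar.HeRec.Pair
import Cfsg.Agent.Lib.InvChar.HeRec.PairMathieu
import Cfsg.Agent.Lib.InvChar.HeRec.Cert.Ad
import Cfsg.Agent.Lib.InvChar.HeRec.Cert.Bd
import Cfsg.Agent.Lib.InvChar.HeRec.Cert.Cand00
import Cfsg.Agent.Lib.InvChar.HeRec.Cert.Cand01
import Cfsg.Agent.Lib.InvChar.HeRec.Cert.Cand02
import Cfsg.Agent.Lib.InvChar.HeRec.Cert.Cand03
import Cfsg.Agent.Lib.InvChar.HeRec.Cert.Cand04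
import Cfsg.Agent.Lib.InvChar.HeRec.Cert.Cand05
import Cfsg.Agent.Lib.InvChar.HeRec.Cert.Cand06
import Cfsg.Agent.Lib.InvChar.HeRec.Cert.Cand07
import Cfsg.Agent.Lib.InvChar.HeRec.Cert.Cand08
import Cfsg.Agent.Lib.InvChar.HeRec.Cert.Cand09
import Cfsg.Agent.Lib.InvChar.HeRec.Cert.Cand10
import Cfsg.Agent.Lib.InvChar.HeRec.Cert.Cand11
import Cfsg.Agent.Lib.InvChar.HeRec.Cert.Cand12
import Cfsg.Agent.Lib.InvChar.HeRec.Cert.Cand13
import Cfsg.Agent.Lib.InvChar.HeRec.Cert.Cand14
import Cfsg.Agent.Lib.InvChar.HeRec.Cert.Cand15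
import Cfsg.Agent.Lib.InvChar.HeRec.Cert.Cand16
import Cfsg.Agent.Lib.InvChar.HeRec.Cert.Cand17
import Cfsg.Agent.Lib.InvChar.HeRec.Cert.Cand18
import Cfsg.Agent.Lib.InvChar.HeRec.Cert.Cand19
import Cfsg.Agent.Lib.InvChar.HeRec.Cert.Cd21
import Cfsg.Agent.Lib.InvChar.HeRec.Cert.Cd22
import Cfsg.Agent.Lib.InvChar.HeRec.Cert.Cd23
import Cfsg.Agent.Lib.InvChar.HeRec.Cert.Cd41
import Cfsg.Agent.Lib.InvChar.HeRec.Cert.Cd42
import Cfsg.Agent.Lib.InvChar.HeRec.Cert.Cd43
import Cfsg.Agent.Lib.InvChar.HeRec.Cert.Cd5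
import Cfsg.Agent.Lib.InvChar.HeRec.Cert.CdX
import Cfsg.Agent.Lib.InvChar.HeRec.Cert.CdY
import Cfsg.Agent.Lib.InvChar.HeRec.Cert.CertM24
import Cfsg.Agent.Lib.InvChar.HeRec.Cert.Col01
import Cfsg.Agent.Lib.InvChar.HeRec.Cert.Col02
import Cfsg.Agent.Lib.InvChar.HeRec.Cert.Col03
import Cfsg.Agent.Lib.InvChar.HeRec.Cert.Col22
import Cfsg.Agent.Lib.InvChar.HeRec.Cert.Col23
import Cfsg.Agent.Lib.InvChar.HeRec.Cert.Col41
import Cfsg.Agent.Lib.InvChar.HeRec.Cert.Col50
import Cfsg.Agent.Lib.InvChar.HeRec.Cert.Col51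
import Cfsg.Agent.Lib.InvChar.HeRec.Cert.Col60
import Cfsg.Agent.Lib.InvChar.HeRec.Cert.Col70
import Cfsg.Agent.Lib.InvChar.HeRec.Cert.Col71
import Cfsg.Agent.Lib.InvChar.HeRec.Cert.Dd
import Cfsg.Agent.Lib.InvChar.HeRec.Cert.De
import Cfsg.Agent.Lib.InvChar.HeRec.Cert.Df31
import Cfsg.Agent.Lib.InvChar.HeRec.Cert.Df32
import Cfsg.Agent.Lib.InvChar.HeRec.Cert.DfX
import Cfsg.Agent.Lib.InvChar.HeRec.Cert.Dg
import Cfsg.Agent.Lib.InvChar.HeRec.Cert.Q21
import Cfsg.Agent.Lib.InvChar.HeRec.Cert.Q22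
import Cfsg.Agent.Lib.InvChar.HeRec.Cert.Q4
import Cfsg.Agent.Lib.InvChar.HeRec.Cert.QX

/-!
# A nontrivial homomorphism from Held's group to a group with a frame and a swap

The wrong values of the triangle cubes collapse or contradict fusion; for the right ones the relators of the
presented group are derived by pruned coset enumerations, run in the product with the presented group.
-/

set_option autoImplicit false
set_option maxRecDepth 100000
set_option linter.unusedVariables false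
set_option linter.unusedSectionVars false

namespace CfsgLib.InvChar.HeRec

open CfsgLib.InvChar.Coset Cfsg.Spor

/-- The swap relators with chosen values of the three triangle cubes. -/
def baseRels (k0 k1 k2 : ℕ) : List (List ℕ) := nRels ++ [triWord 0 k0, triWord 1 k1, triWord 2 k2]

variable {G : Type*} [Group G] [Finite G] {t : G} {ψ : ℕ → G} {n : G}

theorem collapse (hψ : IsFrame t ψ) (hn : IsSwap ψ n) {rels : List (List ℕ)}
    (sound : ∀ (s : ℕ → G), (∀ x, s x * s x = 1) → ∀ H : Subgroup G,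
      (∀ r ∈ rels, wprod s r = 1) → (∀ x < 5, s x ∈ H) → wprod s [5] ∈ H)
    (hR : ∀ r ∈ rels, wprod (gl ψ n) r = 1) : False := by
  have h := sound (gl ψ n) (gl_mul_self hψ hn.sq) (Subgroup.centralizer ({t} : Set G)) hR
    fun x hx => by rw [gl_lt ψ n hx]; exact hψ.mul_mem (let_valid hx)
  rw [show wprod (gl ψ n) [5] = n by simp [wprod, gl_five], Subgroup.mem_centralizer_singleton_iff] at h
  have e := hn.map_z
  rw [hψ.map_z, h, mul_assoc, hn.sq, mul_one] at e
  exact absurd (hψ.inj hZ hY (by decide) (by decide) (hψ.map_z.trans e)) (by decide)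

theorem okCol01 : Col01.rels.all (okRel (nRels ++ [triWord 0 1])) = true ∧ Col01.word = [5] := by
  decide +kernel

theorem okCol02 : Col02.rels.all (okRel (nRels ++ [triWord 0 2])) = true ∧ Col02.word = [5] := by
  decide +kernel

theorem okCol03 : Col03.rels.all (okRel (nRels ++ [triWord 0 3])) = true ∧ Col03.word = [5] := by
  decide +kernel

theorem okCol22 : Col22.rels.all (okRel (nRels ++ [triWord 0 0, triWord 2 2])) = true ∧ Col22.word = [5] := by
  decide +kernel

theorem okCol23 : Col23.rels.all (okRel (nRels ++ [triWord 0 0, triWord 2 3])) = true ∧ Col23.word = [5] := by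
  decide +kernel

theorem okCol41 : Col41.rels.all (okRel (baseRels 0 0 1)) = true ∧ Col41.word = [5] := by
  decide +kernel

theorem okCol50 : Col50.rels.all (okRel (baseRels 0 1 0)) = true ∧ Col50.word = [5] := by
  decide +kernel

theorem okCol51 : Col51.rels.all (okRel (baseRels 0 1 1)) = true ∧ Col51.word = [5] := by
  decide +kernel

theorem okCol60 : Col60.rels.all (okRel (baseRels 0 2 0)) = true ∧ Col60.word = [5] := by
  decide +kernel

theorem okCol70 : Col70.rels.all (okRel (baseRels 0 3 0)) = true ∧ Col70.word = [5] := by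
  decide +kernel

theorem okCol71 : Col71.rels.all (okRel (baseRels 0 3 1)) = true ∧ Col71.word = [5] := by
  decide +kernel


/-- The triangle values in the right pattern or in the Mathieu pattern. -/
theorem triangle_values (hψ : IsFrame t ψ) (hn : IsSwap ψ n) :
    (∀ r ∈ baseRels 0 0 0, wprod (gl ψ n) r = 1) ∨ ∀ r ∈ baseRels 0 2 1, wprod (gl ψ n) r = 1 := by
  have htri : ∀ i < 3, ∃ k < 4, wprod (gl ψ n) (triWord i k) = 1 := by
    intro i hi
    obtain ⟨x, hx, he⟩ := hn.tri i hi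
    obtain ⟨k, hk, rfl⟩ := List.getElem_of_mem hx
    have hlen : (hTriOpts.getD i []).length = 4 := (by decide : ∀ i < 3, (hTriOpts.getD i []).length = 4) i hi
    refine ⟨k, hlen ▸ hk, triWord_one hψ hn.sq hi (hlen ▸ hk) ?_⟩
    rw [List.getD_eq_getElem _ _ hk]
    exact he
  obtain ⟨k0, hk0, e0⟩ := htri 0 (by norm_num)
  obtain ⟨k1, hk1, e1⟩ := htri 1 (by norm_num)
  obtain ⟨k2, hk2, e2⟩ := htri 2 (by norm_num)
  have kill : ∀ {B rels : List (List ℕ)}, (∀ r ∈ B, r ∈ nRels ∨ r = triWord 0 k0 ∨ r = triWord 1 k1 ∨ r = triWord 2 k2) →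
      rels.all (okRel B) = true →
      (∀ (s : ℕ → G), (∀ x, s x * s x = 1) → ∀ H : Subgroup G,
        (∀ r ∈ rels, wprod s r = 1) → (∀ x < 5, s x ∈ H) → wprod s [5] ∈ H) → False := by
    intro B rels hB hok hs
    refine collapse hψ hn hs fun r hr => okRel_sound hψ hn.sq (fun b hb => ?_) (List.all_eq_true.1 hok r hr)
    rcases hB b hb with h | rfl | rfl | rfl
    · exact nRels_one hψ hn b h
    · exact e0
    · exact e1
    · exact e2
  have base : ∀ r ∈ baseRels k0 k1 k2, wprod (gl ψ n) r = 1 := by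
    intro r hr
    simp only [baseRels, List.mem_append, List.mem_cons, List.not_mem_nil, or_false] at hr
    rcases hr with h | rfl | rfl | rfl
    · exact nRels_one hψ hn r h
    · exact e0
    · exact e1
    · exact e2

  obtain ⟨oCol01, wCol01⟩ := okCol01
  obtain ⟨oCol02, wCol02⟩ := okCol02
  obtain ⟨oCol03, wCol03⟩ := okCol03
  obtain ⟨oCol22, wCol22⟩ := okCol22
  obtain ⟨oCol23, wCol23⟩ := okCol23
  obtain ⟨oCol41, wCol41⟩ := okCol41
  obtain ⟨oCol50, wCol50⟩ := okCol50
  obtain ⟨oCol51, wCol51⟩ := okCol51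
  obtain ⟨oCol60, wCol60⟩ := okCol60
  obtain ⟨oCol70, wCol70⟩ := okCol70
  obtain ⟨oCol71, wCol71⟩ := okCol71

  interval_cases k0
  · interval_cases k2
    · interval_cases k1
      · exact Or.inl base
      ·
        refine absurd (kill (fun r hr => ?_) oCol50 (wCol50 ▸ fun s hs H => Col50.sound s hs H)) id
        simp only [baseRels, List.mem_append, List.mem_cons, List.not_mem_nil, or_false] at hr
        tauto
      ·
        refine absurd (kill (fun r hr => ?_) oCol60 (wCol60 ▸ fun s hs H => Col60.sound s hs H)) id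
        simp only [baseRels, List.mem_append, List.mem_cons, List.not_mem_nil, or_false] at hr
        tauto
      ·
        refine absurd (kill (fun r hr => ?_) oCol70 (wCol70 ▸ fun s hs H => Col70.sound s hs H)) id
        simp only [baseRels, List.mem_append, List.mem_cons, List.not_mem_nil, or_false] at hr
        tauto
    · interval_cases k1
      ·
        refine absurd (kill (fun r hr => ?_) oCol41 (wCol41 ▸ fun s hs H => Col41.sound s hs H)) id
        simp only [baseRels, List.mem_append, List.mem_cons, List.not_mem_nil, or_false] at hr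
        tauto
      ·
        refine absurd (kill (fun r hr => ?_) oCol51 (wCol51 ▸ fun s hs H => Col51.sound s hs H)) id
        simp only [baseRels, List.mem_append, List.mem_cons, List.not_mem_nil, or_false] at hr
        tauto
      · exact Or.inr base
      ·
        refine absurd (kill (fun r hr => ?_) oCol71 (wCol71 ▸ fun s hs H => Col71.sound s hs H)) id
        simp only [baseRels, List.mem_append, List.mem_cons, List.not_mem_nil, or_false] at hr
        tauto
    ·
      refine absurd (kill (fun r hr => ?_) oCol22 (wCol22 ▸ fun s hs H => Col22.sound s hs H)) id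
      simp only [baseRels, List.mem_append, List.mem_cons, List.not_mem_nil, or_false] at hr
      tauto
    ·
      refine absurd (kill (fun r hr => ?_) oCol23 (wCol23 ▸ fun s hs H => Col23.sound s hs H)) id
      simp only [baseRels, List.mem_append, List.mem_cons, List.not_mem_nil, or_false] at hr
      tauto
  ·
    refine absurd (kill (fun r hr => ?_) oCol01 (wCol01 ▸ fun s hs H => Col01.sound s hs H)) id
    simp only [baseRels, List.mem_append, List.mem_cons, List.not_mem_nil, or_false] at hr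
    tauto
  ·
    refine absurd (kill (fun r hr => ?_) oCol02 (wCol02 ▸ fun s hs H => Col02.sound s hs H)) id
    simp only [baseRels, List.mem_append, List.mem_cons, List.not_mem_nil, or_false] at hr
    tauto
  ·
    refine absurd (kill (fun r hr => ?_) oCol03 (wCol03 ▸ fun s hs H => Col03.sound s hs H)) id
    simp only [baseRels, List.mem_append, List.mem_cons, List.not_mem_nil, or_false] at hr
    tauto

theorem rels_side_ok : Data.relsA.all (okRel (baseRels 0 0 0)) = true ∧
    Data.relsB.all (okRel (baseRels 0 0 0 ++ Data.candW)) = true ∧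
    (Data.relsA.all fun r => Data.relsB.any (leq r)) = true ∧ Data.relsB.length ≤ 98 := by
  decide +kernel

theorem he_part0 : ((Data.relsB.drop 0).take 14).all chkHe = true := by
  decide +kernel

theorem he_part1 : ((Data.relsB.drop 14).take 14).all chkHe = true := by
  decide +kernel

theorem he_part2 : ((Data.relsB.drop 28).take 14).all chkHe = true := by
  decide +kernel

theorem he_part3 : ((Data.relsB.drop 42).take 14).all chkHe = true := by
  decide +kernel

theorem he_part4 : ((Data.relsB.drop 56).take 14).all chkHe = true := by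
  decide +kernel

theorem he_part5 : ((Data.relsB.drop 70).take 14).all chkHe = true := by
  decide +kernel

theorem he_part6 : ((Data.relsB.drop 84).take 14).all chkHe = true := by
  decide +kernel

theorem he_side_ok : (∀ r ∈ Data.relsB, wprod kl r = 1) ∧ ∀ r ∈ Data.relsA, wprod kl r = 1 := by
  have hB : ∀ r ∈ Data.relsB, wprod kl r = 1 := by
    intro r hr
    obtain ⟨i, hi, rfl⟩ := List.getElem_of_mem hr
    have key : ∀ k, ((Data.relsB.drop (14 * k)).take 14).all chkHe = true → i / 14 = k →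
        wprod kl Data.relsB[i] = 1 := by
      intro k hk hik
      refine wprod_kl_of_chkHe (List.all_eq_true.1 hk _ (List.mem_iff_getElem.2 ⟨i - 14 * k, ?_, ?_⟩))
      · rw [List.length_take, List.length_drop]; omega
      · rw [List.getElem_take, List.getElem_drop]
        congr 1
        omega
    have hlt : i / 14 < 7 := by
      have := rels_side_ok.2.2.2
      omega
    interval_cases hq : i / 14
    · exact key 0 he_part0 rfl
    · exact key 1 he_part1 rfl
    · exact key 2 he_part2 rfl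
    · exact key 3 he_part3 rfl
    · exact key 4 he_part4 rfl
    · exact key 5 he_part5 rfl
    · exact key 6 he_part6 rfl
  refine ⟨hB, fun r hr => ?_⟩
  have h := List.all_eq_true.1 rels_side_ok.2.2.1 r hr
  simp only [List.any_eq_true] at h
  obtain ⟨b, hb, h⟩ := h
  rw [eq_of_leq _ _ h]
  exact hB b hb

theorem cand_len : Data.candW.length = 20 := by decide +kernel

theorem candOK0 : Cand00.rels = Data.relsA ∧ Cand00.word = Data.candW.getD 0 [] ∧ chkKl Cand00.word = true := by
  decide +kernel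

theorem candOK1 : Cand01.rels = Data.relsA ∧ Cand01.word = Data.candW.getD 1 [] ∧ chkKl Cand01.word = true := by
  decide +kernel

theorem candOK2 : Cand02.rels = Data.relsA ∧ Cand02.word = Data.candW.getD 2 [] ∧ chkKl Cand02.word = true := by
  decide +kernel

theorem candOK3 : Cand03.rels = Data.relsA ∧ Cand03.word = Data.candW.getD 3 [] ∧ chkKl Cand03.word = true := by
  decide +kernel

theorem candOK4 : Cand04.rels = Data.relsA ∧ Cand04.word = Data.candW.getD 4 [] ∧ chkKl Cand04.word = true := by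
  decide +kernel

theorem candOK5 : Cand05.rels = Data.relsA ∧ Cand05.word = Data.candW.getD 5 [] ∧ chkKl Cand05.word = true := by
  decide +kernel

theorem candOK6 : Cand06.rels = Data.relsA ∧ Cand06.word = Data.candW.getD 6 [] ∧ chkKl Cand06.word = true := by
  decide +kernel

theorem candOK7 : Cand07.rels = Data.relsA ∧ Cand07.word = Data.candW.getD 7 [] ∧ chkKl Cand07.word = true := by
  decide +kernel

theorem candOK8 : Cand08.rels = Data.relsA ∧ Cand08.word = Data.candW.getD 8 [] ∧ chkKl Cand08.word = true := by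
  decide +kernel

theorem candOK9 : Cand09.rels = Data.relsA ∧ Cand09.word = Data.candW.getD 9 [] ∧ chkKl Cand09.word = true := by
  decide +kernel

theorem candOK10 : Cand10.rels = Data.relsA ∧ Cand10.word = Data.candW.getD 10 [] ∧ chkKl Cand10.word = true := by
  decide +kernel

theorem candOK11 : Cand11.rels = Data.relsA ∧ Cand11.word = Data.candW.getD 11 [] ∧ chkKl Cand11.word = true := by
  decide +kernel

theorem candOK12 : Cand12.rels = Data.relsA ∧ Cand12.word = Data.candW.getD 12 [] ∧ chkKl Cand12.word = true := by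
  decide +kernel

theorem candOK13 : Cand13.rels = Data.relsA ∧ Cand13.word = Data.candW.getD 13 [] ∧ chkKl Cand13.word = true := by
  decide +kernel

theorem candOK14 : Cand14.rels = Data.relsA ∧ Cand14.word = Data.candW.getD 14 [] ∧ chkKl Cand14.word = true := by
  decide +kernel

theorem candOK15 : Cand15.rels = Data.relsA ∧ Cand15.word = Data.candW.getD 15 [] ∧ chkKl Cand15.word = true := by
  decide +kernel

theorem candOK16 : Cand16.rels = Data.relsA ∧ Cand16.word = Data.candW.getD 16 [] ∧ chkKl Cand16.word = true := by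
  decide +kernel

theorem candOK17 : Cand17.rels = Data.relsA ∧ Cand17.word = Data.candW.getD 17 [] ∧ chkKl Cand17.word = true := by
  decide +kernel

theorem candOK18 : Cand18.rels = Data.relsA ∧ Cand18.word = Data.candW.getD 18 [] ∧ chkKl Cand18.word = true := by
  decide +kernel

theorem candOK19 : Cand19.rels = Data.relsA ∧ Cand19.word = Data.candW.getD 19 [] ∧ chkKl Cand19.word = true := by
  decide +kernel

theorem pair_letters (hψ : IsFrame t ψ) (n : G) : ∀ x < 5, (gl ψ n x, kl x) ∈ pairH ψ := by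
  intro x hx
  rw [gl_lt ψ n hx, show kl x = hHe x from if_pos hx]
  exact Subgroup.subset_closure ⟨⟨x, hx⟩, rfl⟩

theorem cand_one (hψ : IsFrame t ψ) (hn : n * n = 1) (hb : ∀ r ∈ baseRels 0 0 0, wprod (gl ψ n) r = 1) :
    ∀ r ∈ Data.candW, wprod (gl ψ n) r = 1 := by
  have hlen := cand_len
  obtain ⟨a0, b0, c0⟩ := candOK0
  obtain ⟨a1, b1, c1⟩ := candOK1
  obtain ⟨a2, b2, c2⟩ := candOK2
  obtain ⟨a3, b3, c3⟩ := candOK3
  obtain ⟨a4, b4, c4⟩ := candOK4
  obtain ⟨a5, b5, c5⟩ := candOK5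
  obtain ⟨a6, b6, c6⟩ := candOK6
  obtain ⟨a7, b7, c7⟩ := candOK7
  obtain ⟨a8, b8, c8⟩ := candOK8
  obtain ⟨a9, b9, c9⟩ := candOK9
  obtain ⟨a10, b10, c10⟩ := candOK10
  obtain ⟨a11, b11, c11⟩ := candOK11
  obtain ⟨a12, b12, c12⟩ := candOK12
  obtain ⟨a13, b13, c13⟩ := candOK13
  obtain ⟨a14, b14, c14⟩ := candOK14
  obtain ⟨a15, b15, c15⟩ := candOK15
  obtain ⟨a16, b16, c16⟩ := candOK16
  obtain ⟨a17, b17, c17⟩ := candOK17
  obtain ⟨a18, b18, c18⟩ := candOK18
  obtain ⟨a19, b19, c19⟩ := candOK19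

  have key : ∀ {rels : List (List ℕ)} {w : List ℕ}, rels = Data.relsA →
      (∀ (s : ℕ → G × He), (∀ x, s x * s x = 1) → ∀ H : Subgroup (G × He),
        (∀ r ∈ rels, wprod s r = 1) → (∀ x < 5, s x ∈ H) → wprod s w ∈ H) →
      chkKl w = true → wprod (gl ψ n) w = 1 := by
    intro rels w e hs hw
    subst e
    exact derive_one (gl_mul_self hψ hn) kl_mul_self (fun g => eq_one_of_mem_pairH hψ) (pair_letters hψ n) hs
      (fun r hr => okRel_sound hψ hn hb (List.all_eq_true.1 rels_side_ok.1 r hr))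
      he_side_ok.2 (wprod_kl_eq_one hw)
  intro r hr
  obtain ⟨i, hi, rfl⟩ := List.getElem_of_mem hr
  rw [← List.getD_eq_getElem _ [] hi]
  rw [hlen] at hi
  interval_cases i
  · rw [← b0]; exact key a0 Cand00.sound c0
  · rw [← b1]; exact key a1 Cand01.sound c1
  · rw [← b2]; exact key a2 Cand02.sound c2
  · rw [← b3]; exact key a3 Cand03.sound c3
  · rw [← b4]; exact key a4 Cand04.sound c4
  · rw [← b5]; exact key a5 Cand05.sound c5
  · rw [← b6]; exact key a6 Cand06.sound c6
  · rw [← b7]; exact key a7 Cand07.sound c7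
  · rw [← b8]; exact key a8 Cand08.sound c8
  · rw [← b9]; exact key a9 Cand09.sound c9
  · rw [← b10]; exact key a10 Cand10.sound c10
  · rw [← b11]; exact key a11 Cand11.sound c11
  · rw [← b12]; exact key a12 Cand12.sound c12
  · rw [← b13]; exact key a13 Cand13.sound c13
  · rw [← b14]; exact key a14 Cand14.sound c14
  · rw [← b15]; exact key a15 Cand15.sound c15
  · rw [← b16]; exact key a16 Cand16.sound c16
  · rw [← b17]; exact key a17 Cand17.sound c17
  · rw [← b18]; exact key a18 Cand18.sound c18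
  · rw [← b19]; exact key a19 Cand19.sound c19

theorem mainOKDd : Dd.rels = Data.relsB ∧ chkKl Dd.word = true ∧
    cycEq Dd.word (redW (Data.lhsDd ++ Data.rhsDd.reverse)) 1 false = true := by
  decide +kernel

theorem mainOKAd : Ad.rels = Data.relsB ∧ chkKl Ad.word = true ∧
    cycEq Ad.word (redW (Data.lhsAd ++ Data.rhsAd.reverse)) 2 true = true := by
  decide +kernel

theorem mainOKBd : Bd.rels = Data.relsB ∧ chkKl Bd.word = true ∧
    cycEq Bd.word (redW (Data.lhsBd ++ Data.rhsBd.reverse)) 2 false = true := by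
  decide +kernel

theorem mainOKDe : De.rels = Data.relsB ∧ chkKl De.word = true ∧
    cycEq De.word (redW (Data.lhsDe ++ Data.rhsDe.reverse)) 1 true = true := by
  decide +kernel

theorem mainOKDg : Dg.rels = Data.relsB ∧ chkKl Dg.word = true ∧
    cycEq Dg.word (redW (Data.lhsDg ++ Data.rhsDg.reverse)) 1 true = true := by
  decide +kernel

theorem mainOKCdX : CdX.rels = Data.relsB ∧ chkKl CdX.word = true ∧
    cycEq CdX.word (redW (Data.lhsCdX ++ Data.rhsCdX.reverse)) 1 false = true := by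
  decide +kernel

theorem mainOKCdY : CdY.rels = Data.relsB ∧ chkKl CdY.word = true ∧
    cycEq CdY.word (redW (Data.lhsCdY ++ Data.rhsCdY.reverse)) 2 true = true := by
  decide +kernel

theorem mainOKCd21 : Cd21.rels = Data.relsB ∧ chkKl Cd21.word = true ∧
    cycEq Cd21.word (redW (Data.lhsCd21 ++ Data.rhsCd21.reverse)) 6 true = true := by
  decide +kernel

theorem mainOKCd22 : Cd22.rels = Data.relsB ∧ chkKl Cd22.word = true ∧
    cycEq Cd22.word (redW (Data.lhsCd22 ++ Data.rhsCd22.reverse)) 4 false = true := by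
  decide +kernel

theorem mainOKCd23 : Cd23.rels = Data.relsB ∧ chkKl Cd23.word = true ∧
    cycEq Cd23.word (redW (Data.lhsCd23 ++ Data.rhsCd23.reverse)) 5 false = true := by
  decide +kernel

theorem mainOKCd41 : Cd41.rels = Data.relsB ∧ chkKl Cd41.word = true ∧
    cycEq Cd41.word (redW (Data.lhsCd41 ++ Data.rhsCd41.reverse)) 1 false = true := by
  decide +kernel

theorem mainOKCd42 : Cd42.rels = Data.relsB ∧ chkKl Cd42.word = true ∧
    cycEq Cd42.word (redW (Data.lhsCd42 ++ Data.rhsCd42.reverse)) 6 false = true := by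
  decide +kernel

theorem mainOKCd43 : Cd43.rels = Data.relsB ∧ chkKl Cd43.word = true ∧
    cycEq Cd43.word (redW (Data.lhsCd43 ++ Data.rhsCd43.reverse)) 2 false = true := by
  decide +kernel

theorem mainOKCd5 : Cd5.rels = Data.relsB ∧ chkKl Cd5.word = true ∧
    cycEq Cd5.word (redW (Data.lhsCd5 ++ Data.rhsCd5.reverse)) 4 false = true := by
  decide +kernel

theorem mainOKDfX : DfX.rels = Data.relsB ∧ chkKl DfX.word = true ∧
    cycEq DfX.word (redW (Data.lhsDfX ++ Data.rhsDfX.reverse)) 2 true = true := by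
  decide +kernel

theorem mainOKDf31 : Df31.rels = Data.relsB ∧ chkKl Df31.word = true ∧
    cycEq Df31.word (redW (Data.lhsDf31 ++ Data.rhsDf31.reverse)) 5 false = true := by
  decide +kernel

theorem mainOKDf32 : Df32.rels = Data.relsB ∧ chkKl Df32.word = true ∧
    cycEq Df32.word (redW (Data.lhsDf32 ++ Data.rhsDf32.reverse)) 6 true = true := by
  decide +kernel

theorem mainOKQX : QX.rels = Data.relsB ∧ chkKl QX.word = true ∧
    cycEq QX.word (redW (Data.lhsQX ++ Data.rhsQX.reverse)) 1 true = true := by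
  decide +kernel

theorem mainOKQ21 : Q21.rels = Data.relsB ∧ chkKl Q21.word = true ∧
    cycEq Q21.word (redW (Data.lhsQ21 ++ Data.rhsQ21.reverse)) 4 false = true := by
  decide +kernel

theorem mainOKQ22 : Q22.rels = Data.relsB ∧ chkKl Q22.word = true ∧
    cycEq Q22.word (redW (Data.lhsQ22 ++ Data.rhsQ22.reverse)) 5 true = true := by
  decide +kernel

theorem mainOKQ4 : Q4.rels = Data.relsB ∧ chkKl Q4.word = true ∧
    cycEq Q4.word (redW (Data.lhsQ4 ++ Data.rhsQ4.reverse)) 2 false = true := by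
  decide +kernel

/-- The images of the generators of the presented group. -/
def genIm (ψ : ℕ → G) (n : G) (k : ℕ) : G := wprod (gl ψ n) (Data.imW.getD k [])

/-- A word in the generators as a word in the six letters. -/
def expand (r : List ℕ) : List ℕ := (r.map fun k => Data.imW.getD k []).flatten

theorem wprod_expand (r : List ℕ) : wprod (genIm ψ n) r = wprod (gl ψ n) (expand r) := by
  induction r with
  | nil => rfl
  | cons a L ih =>
    have e : wprod (genIm ψ n) (a :: L) = genIm ψ n a * wprod (genIm ψ n) L := by simp [wprod]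
    rw [e, ih, show expand (a :: L) = Data.imW.getD a [] ++ expand L by simp [expand], wprod_append, genIm]

/-- The relators involving the generator `d`. -/
def dRels : List (List ℕ) :=
  [[3, 3], [0, 3, 0, 3], [1, 3, 1, 3], [3, 4, 3, 4, 3, 4], [3, 5, 3, 5, 3, 5], [3, 6, 3, 6, 3, 6],
    [2, 3, 2, 3, 2, 3, 2, 3, 2, 3, 2, 3, 2, 3, 2, 3, 2, 3, 2, 3], [0, 3, 2, 3, 2, 3, 2, 3, 2, 3, 2],
    [2, 3, 5, 6, 2, 3, 5, 6, 2, 3, 5, 6, 2, 3, 5, 6]]

theorem shape_ok : (HeA.rels.all fun r => segEq (expand r) [] || dRels.any (leq r)) = true ∧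
    (∀ k < 7, k ≠ 3 → segEq (Data.imW.getD k [] ++ Data.imW.getD k []) [] = true) ∧
    hFold (Data.imW.getD 4 []) = some hZ ∧
    Data.lhsDd = redW (expand [3, 3]) ∧ Data.rhsDd = [] ∧ Data.lhsAd = redW (expand [0, 3, 0, 3]) ∧ Data.rhsAd = [] ∧
    Data.lhsBd = redW (expand [1, 3, 1, 3]) ∧ Data.rhsBd = [] ∧
    Data.lhsDe = redW (expand [3, 4, 3, 4, 3, 4]) ∧ Data.rhsDe = [] ∧
    Data.lhsDg = redW (expand [3, 6, 3, 6, 3, 6]) ∧ Data.rhsDg = [] ∧
    Data.lhsCdX = expand [2, 3] ∧ Data.lhsCdY = expand [2, 3] := by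
  decide +kernel

theorem chain_ok :
    Data.rhsCdX ++ Data.rhsCdX = Data.lhsCd21 ++ (Data.lhsCd22.drop Data.rhsCd21.length ++ Data.lhsCd23.drop Data.rhsCd22.length) ∧
    Data.lhsCd22 = Data.rhsCd21 ++ Data.lhsCd22.drop Data.rhsCd21.length ∧
    Data.lhsCd23 = Data.rhsCd22 ++ Data.lhsCd23.drop Data.rhsCd22.length ∧
    Data.rhsCd23 ++ Data.rhsCd23 = Data.lhsCd41 ++ (Data.lhsCd42.drop Data.rhsCd41.length ++ Data.lhsCd43.drop Data.rhsCd42.length) ∧
    Data.lhsCd42 = Data.rhsCd41 ++ Data.lhsCd42.drop Data.rhsCd41.length ∧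
    Data.lhsCd43 = Data.rhsCd42 ++ Data.lhsCd43.drop Data.rhsCd42.length ∧
    Data.lhsCd5 = expand [0] ++ Data.rhsCd43 ++ Data.rhsCdY ∧ Data.rhsCd5 = [] ∧
    Data.lhsDfX = expand [3, 5] ∧ Data.lhsDf31 = Data.df3A ∧ Data.lhsDf32 = Data.rhsDf31 ++ Data.df3B ∧
    Data.rhsDf32 = [] ∧ cycEq (Data.df3A ++ Data.df3B) (Data.rhsDfX ++ Data.rhsDfX ++ Data.rhsDfX) 2 false = true ∧
    Data.lhsQX = expand [2, 3, 5, 6] ∧ Data.lhsQ21 = Data.q2A ∧ Data.lhsQ22 = Data.rhsQ21 ++ Data.q2B ∧
    Data.rhsQ22 = [] ∧ Data.rhsQ4 = [] ∧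
    cycEq (Data.q2A ++ Data.q2B) (Data.rhsQX ++ Data.rhsQX ++ (Data.lhsQ4.take (Data.lhsQ4.length / 2)).reverse) 2 false = true ∧
    Data.lhsQ4 = Data.lhsQ4.take (Data.lhsQ4.length / 2) ++ Data.lhsQ4.take (Data.lhsQ4.length / 2) := by
  decide +kernel

theorem chain_prod {f : ℕ → G} {v x l1 l2 l3 r1 r2 r3 p1 p2 : List ℕ} (hv : wprod f v = wprod f x)
    (hs : v ++ v = l1 ++ (p1 ++ p2)) (h2 : l2 = r1 ++ p1) (h3 : l3 = r2 ++ p2)
    (e1 : wprod f l1 = wprod f r1) (e2 : wprod f l2 = wprod f r2) (e3 : wprod f l3 = wprod f r3) :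
    wprod f r3 = wprod f x * wprod f x := by
  rw [← hv, ← wprod_append, hs, wprod_append, wprod_append, e1, ← mul_assoc, ← wprod_append, ← h2, e2,
    ← wprod_append, ← h3, e3]

theorem genIm_rels (hψ : IsFrame t ψ) (hn : n * n = 1) (hb : ∀ r ∈ baseRels 0 0 0, wprod (gl ψ n) r = 1) :
    (∀ k, k < 7 → genIm ψ n k * genIm ψ n k = 1) ∧ ∀ r ∈ HeA.rels, wprod (genIm ψ n) r = 1 := by
  obtain ⟨aDd, bDd, cDd⟩ := mainOKDd
  obtain ⟨aAd, bAd, cAd⟩ := mainOKAd
  obtain ⟨aBd, bBd, cBd⟩ := mainOKBd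
  obtain ⟨aDe, bDe, cDe⟩ := mainOKDe
  obtain ⟨aDg, bDg, cDg⟩ := mainOKDg
  obtain ⟨aCdX, bCdX, cCdX⟩ := mainOKCdX
  obtain ⟨aCdY, bCdY, cCdY⟩ := mainOKCdY
  obtain ⟨aCd21, bCd21, cCd21⟩ := mainOKCd21
  obtain ⟨aCd22, bCd22, cCd22⟩ := mainOKCd22
  obtain ⟨aCd23, bCd23, cCd23⟩ := mainOKCd23
  obtain ⟨aCd41, bCd41, cCd41⟩ := mainOKCd41
  obtain ⟨aCd42, bCd42, cCd42⟩ := mainOKCd42
  obtain ⟨aCd43, bCd43, cCd43⟩ := mainOKCd43
  obtain ⟨aCd5, bCd5, cCd5⟩ := mainOKCd5
  obtain ⟨aDfX, bDfX, cDfX⟩ := mainOKDfX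
  obtain ⟨aDf31, bDf31, cDf31⟩ := mainOKDf31
  obtain ⟨aDf32, bDf32, cDf32⟩ := mainOKDf32
  obtain ⟨aQX, bQX, cQX⟩ := mainOKQX
  obtain ⟨aQ21, bQ21, cQ21⟩ := mainOKQ21
  obtain ⟨aQ22, bQ22, cQ22⟩ := mainOKQ22
  obtain ⟨aQ4, bQ4, cQ4⟩ := mainOKQ4

  have hB : ∀ r ∈ baseRels 0 0 0 ++ Data.candW, wprod (gl ψ n) r = 1 := fun r hr =>
    (List.mem_append.1 hr).elim (hb r) (cand_one hψ hn hb r)
  have key : ∀ {rels : List (List ℕ)} {w l r : List ℕ} {k : ℕ} {rev : Bool}, rels = Data.relsB →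
      (∀ (s : ℕ → G × He), (∀ x, s x * s x = 1) → ∀ H : Subgroup (G × He),
        (∀ r ∈ rels, wprod s r = 1) → (∀ x < 5, s x ∈ H) → wprod s w ∈ H) →
      chkKl w = true → cycEq w (redW (l ++ r.reverse)) k rev = true →
      wprod (gl ψ n) l = wprod (gl ψ n) r := by
    intro rels w l r k rev e hs hw hc
    subst e
    exact eq_of_cycle hψ hn hc (derive_one (gl_mul_self hψ hn) kl_mul_self (fun g => eq_one_of_mem_pairH hψ)
      (pair_letters hψ n) hs (fun r hr => okRel_sound hψ hn hB (List.all_eq_true.1 rels_side_ok.2.1 r hr))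
      he_side_ok.1 (wprod_kl_eq_one hw))
  have eDd := key aDd Dd.sound bDd cDd
  have eAd := key aAd Ad.sound bAd cAd
  have eBd := key aBd Bd.sound bBd cBd
  have eDe := key aDe De.sound bDe cDe
  have eDg := key aDg Dg.sound bDg cDg
  have eCdX := key aCdX CdX.sound bCdX cCdX
  have eCdY := key aCdY CdY.sound bCdY cCdY
  have eCd21 := key aCd21 Cd21.sound bCd21 cCd21
  have eCd22 := key aCd22 Cd22.sound bCd22 cCd22
  have eCd23 := key aCd23 Cd23.sound bCd23 cCd23
  have eCd41 := key aCd41 Cd41.sound bCd41 cCd41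
  have eCd42 := key aCd42 Cd42.sound bCd42 cCd42
  have eCd43 := key aCd43 Cd43.sound bCd43 cCd43
  have eCd5 := key aCd5 Cd5.sound bCd5 cCd5
  have eDfX := key aDfX DfX.sound bDfX cDfX
  have eDf31 := key aDf31 Df31.sound bDf31 cDf31
  have eDf32 := key aDf32 Df32.sound bDf32 cDf32
  have eQX := key aQX QX.sound bQX cQX
  have eQ21 := key aQ21 Q21.sound bQ21 cQ21
  have eQ22 := key aQ22 Q22.sound bQ22 cQ22
  have eQ4 := key aQ4 Q4.sound bQ4 cQ4
  obtain ⟨hshape, hinv, -, sdd, tdd, sad, tad, sbd, tbd, sde, tde, sdg, tdg, scx, scy⟩ := shape_ok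
  obtain ⟨q2, q22, q23, q4, q42, q43, q5, t5, sdfx, sdf1, sdf2, tdf2, kdf, sqx, sq1, sq2, tq2, tq4, kq,
    sq4⟩ := chain_ok
  have hnil : wprod (gl ψ n) [] = 1 := rfl
  have hcd : wprod (gl ψ n) Data.rhsCdX = wprod (genIm ψ n) [2, 3] := by rw [wprod_expand, ← scx, eCdX]
  have hcd' : wprod (gl ψ n) Data.rhsCdY = wprod (genIm ψ n) [2, 3] := by rw [wprod_expand, ← scy, eCdY]
  have hW2 := chain_prod (x := Data.rhsCdX) rfl q2 q22 q23 eCd21 eCd22 eCd23
  have hW4 := chain_prod (x := Data.rhsCd23) rfl q4 q42 q43 eCd41 eCd42 eCd43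
  have h5 : genIm ψ n 0 * (genIm ψ n 2 * genIm ψ n 3) ^ 5 = 1 := by
    have e := eCd5
    rw [q5, t5, hnil, wprod_append, wprod_append, ← wprod_expand, hW4, hW2, hcd, hcd'] at e
    simp only [wprod, List.map_cons, List.map_nil, List.prod_cons, List.prod_nil, mul_one] at e
    simp only [pow_succ, pow_zero, one_mul]
    simpa only [mul_assoc] using e
  have hdf : (genIm ψ n 3 * genIm ψ n 5) ^ 3 = 1 := by
    have e : wprod (gl ψ n) (Data.rhsDfX ++ Data.rhsDfX ++ Data.rhsDfX) = 1 := by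
      refine one_of_cycEq hψ hn kdf ?_
      rw [wprod_append, ← sdf1, eDf31, ← wprod_append, ← sdf2, eDf32, tdf2, hnil]
    rw [wprod_append, wprod_append, ← eDfX, sdfx, ← wprod_expand] at e
    simp only [wprod, List.map_cons, List.map_nil, List.prod_cons, List.prod_nil, mul_one] at e
    simp only [pow_succ, pow_zero, one_mul]
    exact e
  have hQ : (genIm ψ n 2 * genIm ψ n 3 * genIm ψ n 5 * genIm ψ n 6) ^ 4 = 1 := by
    generalize hw : Data.lhsQ4.take (Data.lhsQ4.length / 2) = w at kq sq4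
    have e : wprod (gl ψ n) (Data.rhsQX ++ Data.rhsQX ++ w.reverse) = 1 := by
      refine one_of_cycEq hψ hn kq ?_
      rw [wprod_append, ← sq1, eQ21, ← wprod_append, ← sq2, eQ22, tq2, hnil]
    rw [wprod_append, wprod_append, wprod_reverse _ (gl_mul_self hψ hn), mul_inv_eq_one, ← eQX, sqx,
      ← wprod_expand] at e
    have e4 := eQ4
    rw [sq4, tq4, hnil, wprod_append, ← e] at e4
    simp only [wprod, List.map_cons, List.map_nil, List.prod_cons, List.prod_nil, mul_one] at e4
    simp only [pow_succ, pow_zero, one_mul]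
    simpa only [mul_assoc] using e4
  have hsq : ∀ k, k < 7 → genIm ψ n k * genIm ψ n k = 1 := by
    intro k hk
    rcases eq_or_ne k 3 with rfl | h
    · have e := eDd
      rw [sdd, tdd, hnil, wprod_redW (gl_mul_self hψ hn), ← wprod_expand] at e
      simpa [wprod] using e
    · rw [genIm, ← wprod_append, eq_of_segEq hψ n (hinv k hk h)]; rfl
  refine ⟨hsq, fun r hr => ?_⟩
  have h := List.all_eq_true.1 hshape r hr
  simp only [Bool.or_eq_true, List.any_eq_true] at h
  rcases h with h | ⟨v, hv, h⟩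
  · rw [wprod_expand, eq_of_segEq hψ n h]; rfl
  rw [eq_of_leq _ _ h]
  simp only [dRels, List.mem_cons, List.not_mem_nil, or_false] at hv
  rcases hv with rfl | rfl | rfl | rfl | rfl | rfl | rfl | rfl | rfl
  · rw [wprod_expand, ← wprod_redW (gl_mul_self hψ hn), ← sdd, eDd, tdd, hnil]
  · rw [wprod_expand, ← wprod_redW (gl_mul_self hψ hn), ← sad, eAd, tad, hnil]
  · rw [wprod_expand, ← wprod_redW (gl_mul_self hψ hn), ← sbd, eBd, tbd, hnil]
  · rw [wprod_expand, ← wprod_redW (gl_mul_self hψ hn), ← sde, eDe, tde, hnil]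
  · rw [← hdf]; simp [wprod, pow_succ, mul_assoc]
  · rw [wprod_expand, ← wprod_redW (gl_mul_self hψ hn), ← sdg, eDg, tdg, hnil]
  · have e : (genIm ψ n 2 * genIm ψ n 3) ^ 10 = 1 := by
      rw [show (10 : ℕ) = 5 * 2 from rfl, pow_mul, ← inv_eq_of_mul_eq_one_right h5, sq, ← mul_inv_rev,
        hsq 0 (by norm_num), inv_one]
    rw [← e]; simp [wprod, pow_succ, mul_assoc]
  · have h2 := hsq 2 (by norm_num)
    have h0 := hsq 0 (by norm_num)
    have hc : (genIm ψ n 2 * genIm ψ n 3)⁻¹ = genIm ψ n 3 * genIm ψ n 2 := by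
      rw [mul_inv_rev, inv_eq_of_mul_eq_one_right h2, inv_eq_of_mul_eq_one_right (hsq 3 (by norm_num))]
    have e : genIm ψ n 0 * (genIm ψ n 3 * genIm ψ n 2) ^ 5 = 1 := by
      rw [← hc, inv_pow, ← inv_eq_of_mul_eq_one_right h5, inv_inv, h0]
    rw [← e]; simp [wprod, pow_succ, mul_assoc]
  · rw [← hQ]; simp [wprod, pow_succ, mul_assoc]

/-- The action of a word on the 24 points. -/
def mWord : List ℕ → ℕ → ℕ
  | [], i => i
  | x :: L, i => (mPerms.getD x []).getD (mWord L i) 0

/-- The word fixes the 24 points. -/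
def mChk (w : List ℕ) : Bool := w.all (fun x => decide (x < 6)) && (List.range 24).all fun i => mWord w i == i

theorem mPerm_apply {k : ℕ} (hk : k < 6) (i : Fin 24) : (mPerm k i : ℕ) = (mPerms.getD k []).getD i 0 := by
  show (mFun k i : ℕ) = _
  simp [mFun, hk]

theorem wprod_mPerm_apply : ∀ (w : List ℕ), (∀ x ∈ w, x < 6) → ∀ i : Fin 24, (wprod mPerm w i : ℕ) = mWord w i
  | [], _, i => by simp [wprod, mWord]
  | x :: L, hw, i => by
    have e : wprod mPerm (x :: L) = mPerm x * wprod mPerm L := by simp [wprod]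
    rw [e, Equiv.Perm.mul_apply, mPerm_apply (hw x List.mem_cons_self), mWord,
      wprod_mPerm_apply L (fun y hy => hw y (List.mem_cons_of_mem x hy)) i]

theorem wprod_mPerm_eq_one {w : List ℕ} (h : mChk w = true) : wprod mPerm w = 1 := by
  simp only [mChk, Bool.and_eq_true, List.all_eq_true, decide_eq_true_eq, beq_iff_eq, List.mem_range] at h
  refine Equiv.ext fun i => Fin.ext ?_
  rw [Equiv.Perm.one_apply, wprod_mPerm_apply w h.1 i, h.2 i i.2]

theorem mathieu_ok : CertM24.rels.all (okRel (baseRels 0 2 1)) = true ∧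
    (CertM24.rels.all fun r => mChk r) = true ∧ mChk CertM24.word = true ∧
    CertM24.word = redW (Data.mW ++ Data.mX ++ Data.mW.reverse ++ Data.mX1.reverse) ∧
    hFold Data.mX = some 4257 ∧ hFold Data.mX1 = some 58129 := by
  decide +kernel

/-- The Mathieu pattern is excluded by fusion. -/
theorem not_mathieu (hψ : IsFrame t ψ) (hn : n * n = 1) (hb : ∀ r ∈ baseRels 0 2 1, wprod (gl ψ n) r = 1)
    (hx : IsConj t (ψ 4257)) (hx1 : ¬ IsConj t (ψ 58129)) : False := by
  obtain ⟨h1, h2, h3, h4, h5, h6⟩ := mathieu_ok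
  have h := derive_one (gl_mul_self hψ hn) mPerm_mul_self (fun g => eq_one_of_mem_pairM hψ)
    (fun x hx => by rw [gl_lt ψ n hx]; exact Subgroup.subset_closure ⟨⟨x, hx⟩, rfl⟩) CertM24.sound
    (fun r hr => okRel_sound hψ hn hb (List.all_eq_true.1 h1 r hr))
    (fun r hr => wprod_mPerm_eq_one (List.all_eq_true.1 h2 r hr)) (wprod_mPerm_eq_one h3)
  rw [h4, wprod_redW (gl_mul_self hψ hn), wprod_append, wprod_append, wprod_append,
    wprod_reverse _ (gl_mul_self hψ hn), wprod_reverse _ (gl_mul_self hψ hn), wprod_gl_fold hψ h5,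
    wprod_gl_fold hψ h6, mul_inv_eq_one] at h
  exact hx1 (hx.trans (isConj_iff.2 ⟨_, h⟩))

/-- **The completion**: a frame and a swap give a nontrivial homomorphism from Held's group. -/
theorem exists_hom (ht : orderOf t = 2) (hψ : IsFrame t ψ) (hn : IsSwap ψ n)
    (hx : IsConj t (ψ 4257)) (hx1 : ¬ IsConj t (ψ 58129)) : ∃ φ : He →* G, φ ≠ 1 := by
  rcases triangle_values hψ hn with hb | hb
  · obtain ⟨hsq, hrel⟩ := genIm_rels hψ hn.sq hb
    obtain ⟨φ, hφ⟩ := SporHe.pres.exists_hom (genIm ψ n) (fun k => (lt_or_ge k 7).elim (hsq k) fun hk => by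
      rw [genIm, List.getD_eq_default _ _ (le_trans (le_of_eq (by decide : Data.imW.length = 7)) hk)]
      exact mul_one _) hrel
    refine ⟨φ, fun h => ?_⟩
    have e := hφ 4 (by norm_num)
    rw [h, genIm, wprod_gl_fold hψ shape_ok.2.2.1, hψ.map_z, MonoidHom.one_apply] at e
    rw [← e, orderOf_one] at ht
    exact absurd ht (by norm_num)
  · exact (not_mathieu hψ hn.sq hb hx hx1).elim

end CfsgLib.InvChar.HeRec
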