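import Cfsg.Agent.Lib.InvChar.HeRec.Model
import Cfsg.Agent.Lib.InvChar.HeRec.CModel

/-!
# The split candidate in matrix codes: tables

`toH` sends a code `q + 128 * n` of the split candidate to a code of the centraliser of a transvection in
`SL(5, 2)`: the extraspecial part goes to the translations and the complement to the matrices.
-/

set_option autoImplicit false

namespace CfsgLib.InvChar.HeRec.CModel

/-- The translation of an element of the extraspecial group. -/
def qH (q : ℕ) : ℕ := 273 + 512 * look 0xb97afddb36ed58d9bb7edd3af568a95abd5a34e950c99b3e5c38f160f9fbffdf3efd78993a7cd932e548e9dbbf5e3cf970891a3c5830e1403878f9d326cd1858b97ad52ad5282858b95224c91048993a5428d12078f9fbd72edd38183878d122c50868d9bb562cd9300818385020c100 q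

/-- The matrix of an index. -/
def lH (n : ℕ) : ℕ := (0xa5f973eae3d4c5a88f8d5f32a6674fcf18fe51dc8bbd197b8af655cccbb98b7d2f59de739ca72946754ee99d13ba7757cea99953b367c69eee29d857b32ee69ee70dca1f933ea7a94f72a6f547e98e54ccc9f9abe755cfacaf19de5394af22e646cdcd7baae75de539caf2d585eb2b535ea1bdc3bb4745ce8f9b1a3735eea8ef61cec59f88bed6e5dde3abc35687eb0f563eb4656acbd0d7e14fe2afd1558d899bd3d7c78f8b5317a5af8b9f571e32b4676b4f563efd29ee55dea8bd11 >>> (9 * n)) &&& 511

/-- The inverse matrix of an index. -/
def lInvH (n : ℕ) : ℕ := (0xcd2adfb67e64c4ade2859d72e9c74df8d5bb52b3ee9d18f235ef54eccb8f5a359b56bfec9c99b14bc70d3be5132eebec7cd9b95332ae7d3b2f3e6851cf2a9f8e9bf78a1675cba6f9b372a6655cfab21c72c9a75df7cf0ddfa919376e946cd3a6453ceabdf961fbd53b32e3d68d1af97352be7152feb145cb9a95f38a97f5a8f7a547bd2a3de8d6ad7ae7a67c62c7dd3a31e356ed4ac97f58b97352be715d0a39e553eecbcf9a7463c6adda959f7d33e3162d6ad7ae17b54bb72d3fe911 >>> (9 * n)) &&& 511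

/-- The index of a matrix. -/
def lIdx (A : ℕ) : ℕ := (0x29069a6b0000003800725a001200005ea60000322000004c7e00000a7900008a0043180094000000508d2f660000000000000000000000003657408200000000000000000000170000460002680009008b0025002a00a500006e00398f0071009d005f00520000007799101e00000000000000000000001d009e910049002e00007f009675000000000000000000785100003b1a00005d00000e00452300000800646900370005560000a78500000000000000000000000f6f00004d8700650044007b00a200938e00000c610000000000000000000000162d00009f58003e001c0080000000283500004773000000000000000000000098630000263c004f00002200540d0089000034007c9b0000700400009241000000000000000000113048a1000000006a811960000000000000000000000000007d002c03005b008c00140033001b0000a400274e0083004b00550097006c001f677486000000000000000000000000a03f3a0b0000000000000000000000000000071576a3000000005c3d884a0000426d0000212b0000849c00006213000031019553000000005924907a000000000000000000000000000000000000000000000000000000000000000000000000000000000000000000000000000000000000000000000000000000000000000000000000000000000000000000000000 >>> (8 * A)) &&& 255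

/-- The matrix code of a code of the candidate. -/
def toH (c : ℕ) : ℕ := hmul (qH (c % 128)) (lH (c / 128))

/-- The code of a matrix code. -/
def fromH (x : ℕ) : ℕ :=
  look 0xbb7ae5fb566dd89b3a64f95265c8ebdba77e5c79f0cb9b267c5871e0fbfbe7ff5e7df8dbbb66fd5a75e8ab5aa57a5469d08b1a24785061c03a78e1f3464d981a3860f14245886ad9a3764c59b04a9922744851a07af9e3f74e5db85ab962f54a55a82a58a1724449900a182070404180 (hmul x (lInvH (lIdx (x &&& 511))) >>> 9) + 128 * lIdx (x &&& 511)

end CfsgLib.InvChar.HeRec.CModel
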