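import Cfsg.Agent.Lib.InvChar.HeRec.Words
import Cfsg.Agent.Lib.InvChar.HeRec.CompletionData

/-!
# The relators satisfied by a frame with a swap, and derivations transported through a product
-/

set_option autoImplicit false
set_option maxRecDepth 100000

namespace CfsgLib.InvChar.HeRec

open CfsgLib.InvChar.Coset

/-- The relators of the swap on the common centraliser and of its product with `hS`. -/
def nRels : List (List ℕ) :=
  ((List.range 4).map fun i => redW (5 :: (Data.nA.getD i [] ++ 5 :: (Data.nB.getD i []).reverse))) ++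
    [redW ((Data.sW ++ [5]) ++ (Data.sW ++ [5]) ++ (Data.sW ++ [5]))]

/-- The relator of a triangle with a candidate value of its cube. -/
def triWord (i k : ℕ) : List ℕ :=
  (Data.triW.getD i [] ++ [5]) ++ (Data.triW.getD i [] ++ [5]) ++ (Data.triW.getD i [] ++ [5]) ++
    ((Data.optW.getD i []).getD k []).reverse

/-- Whether a relator is trivial in the centraliser or is in a list. -/
noncomputable def okRel (B : List (List ℕ)) (r : List ℕ) : Bool :=
  segEq r [] || ((List.range 6).any fun x => leq r [x, x]) || B.any (leq r)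

variable {G : Type*} [Group G] {t : G} {ψ : ℕ → G} {n : G}

theorem okRel_sound (hψ : IsFrame t ψ) (hn : n * n = 1) {B : List (List ℕ)}
    (hB : ∀ r ∈ B, wprod (gl ψ n) r = 1) {r : List ℕ} (h : okRel B r = true) : wprod (gl ψ n) r = 1 := by
  simp only [okRel, Bool.or_eq_true, List.any_eq_true] at h
  rcases h with (h | ⟨x, -, h⟩) | ⟨b, hb, h⟩
  · rw [eq_of_segEq hψ n h]; rfl
  · rw [eq_of_leq _ _ h]; simp [wprod, gl_mul_self hψ hn]
  · rw [eq_of_leq _ _ h]; exact hB b hb

theorem wprod_gl_fold (hψ : IsFrame t ψ) {w : List ℕ} {c : ℕ} (h : hFold w = some c) :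
    wprod (gl ψ n) w = ψ c := (hFold_spec hψ n w c h).2

theorem wprod_five (w : List ℕ) : wprod (gl ψ n) (5 :: w) = n * wprod (gl ψ n) w := by simp [wprod, gl_five]

theorem nA_fold : ∀ i < 4, hFold (Data.nA.getD i []) = some (hD.getD i 0) ∧
    hFold (Data.nB.getD i []) = some (hDimg.getD i 0) := by
  decide +kernel

theorem sW_fold : hFold Data.sW = some hS := by decide +kernel

theorem optW_fold : ∀ i < 3, hFold (Data.triW.getD i []) = some (hTri.getD i 0) ∧
    ∀ k < 4, hFold ((Data.optW.getD i []).getD k []) = some ((hTriOpts.getD i []).getD k 0) := by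
  decide +kernel

theorem wprod_pow_three (hψ : IsFrame t ψ) {w : List ℕ} {c : ℕ} (h : hFold w = some c) :
    wprod (gl ψ n) ((w ++ [5]) ++ (w ++ [5]) ++ (w ++ [5])) = (ψ c * n) ^ 3 := by
  simp only [wprod_append, wprod_gl_fold hψ h, show wprod (gl ψ n) [5] = n by simp [wprod, gl_five],
    pow_succ, pow_zero, one_mul, mul_assoc]

theorem nRels_one (hψ : IsFrame t ψ) (hn : IsSwap ψ n) : ∀ r ∈ nRels, wprod (gl ψ n) r = 1 := by
  intro r hr
  simp only [nRels, List.mem_append, List.mem_map, List.mem_range, List.mem_singleton] at hr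
  rcases hr with ⟨i, hi, rfl⟩ | rfl
  · obtain ⟨ha, hb⟩ := nA_fold i hi
    rw [wprod_redW (gl_mul_self hψ hn.sq), wprod_five, wprod_append, wprod_gl_fold hψ ha, wprod_five,
      wprod_reverse _ (gl_mul_self hψ hn.sq), wprod_gl_fold hψ hb, ← hn.map_d i hi]
    group
  · rw [wprod_redW (gl_mul_self hψ hn.sq), wprod_pow_three hψ sW_fold, hn.cube]

theorem triWord_one (hψ : IsFrame t ψ) (hn : n * n = 1) {i k : ℕ} (hi : i < 3) (hk : k < 4)
    (h : (ψ (hTri.getD i 0) * n) ^ 3 = ψ ((hTriOpts.getD i []).getD k 0)) :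
    wprod (gl ψ n) (triWord i k) = 1 := by
  obtain ⟨ha, hb⟩ := optW_fold i hi
  rw [triWord, wprod_append, wprod_pow_three hψ ha, wprod_reverse _ (gl_mul_self hψ hn),
    wprod_gl_fold hψ (hb k hk), h, mul_inv_cancel]

theorem wprod_prod {K : Type*} [Group K] (f : ℕ → G) (k : ℕ → K) :
    ∀ L : List ℕ, wprod (fun x => (f x, k x)) L = (wprod f L, wprod k L)
  | [] => rfl
  | x :: L => by
    have e := wprod_prod f k L
    simp only [wprod, List.map_cons, List.prod_cons] at e ⊢
    rw [e, Prod.mk_mul_mk]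

/-- A derivation in a product with a group in which the word is trivial. -/
theorem derive_one {K : Type*} [Group K] {f : ℕ → G} (hf : ∀ x, f x * f x = 1) {k : ℕ → K}
    (hk : ∀ x, k x * k x = 1) {H : Subgroup (G × K)} (hinj : ∀ g : G, (g, (1 : K)) ∈ H → g = 1)
    (hH : ∀ x < 5, (f x, k x) ∈ H) {rels : List (List ℕ)} {w : List ℕ}
    (sound : ∀ (s : ℕ → G × K), (∀ x, s x * s x = 1) → ∀ H' : Subgroup (G × K),
      (∀ r ∈ rels, wprod s r = 1) → (∀ x < 5, s x ∈ H') → wprod s w ∈ H')
    (hG : ∀ r ∈ rels, wprod f r = 1) (hK : ∀ r ∈ rels, wprod k r = 1) (hw : wprod k w = 1) :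
    wprod f w = 1 := by
  have h := sound (fun x => (f x, k x)) (fun x => by rw [Prod.mk_mul_mk, hf, hk]; rfl) H
    (fun r hr => by rw [wprod_prod, hG r hr, hK r hr]; rfl) hH
  rw [wprod_prod, hw] at h
  exact hinj _ h

end CfsgLib.InvChar.HeRec
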