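import Cfsg.Agent.Lib.InvChar.SporHeSimple
import Cfsg.Agent.Lib.InvChar.SporHeSp

/-!
# From a homomorphism of the presented Held group to the recognition statements
-/

set_option autoImplicit false

namespace CfsgLib.InvChar.HeRec

open Cfsg.Spor

theorem iso_of_hom {G : Type*} [Group G] [Finite G] (hG : Nat.card G = 4030387200) (φ : He →* G)
    (hφ : φ ≠ 1) : IsoHe G := by
  have : IsSimpleGroup He := SporHe.isSimpleGroup
  have : Finite He := SporHe.card_le.1
  have hinj : Function.Injective φ := by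
    rw [← MonoidHom.ker_eq_bot_iff]
    exact φ.normal_ker.eq_bot_or_eq_top.resolve_right fun h => hφ (MonoidHom.ker_eq_top_iff.1 h)
  exact ⟨(MulEquiv.ofBijective φ ((Nat.bijective_iff_injective_and_card _).2
    ⟨hinj, SporHe.card_eq.1.trans hG.symm⟩)).symm⟩

theorem sp_of_iso {G : Type*} [Group G] (h : IsoHe G) :
    ∃ (H : Subgroup G) (N : Subgroup H) (K : Type) (_ : Field K) (_ : Fintype K),
      N.Normal ∧ N.index = 2 ∧ Fintype.card K = 4 ∧
        Nonempty (N ≃* Matrix.symplecticGroup (Fin 2) K) := by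
  obtain ⟨e⟩ := h
  let ι : He →* G := e.symm.toMonoidHom
  have hι : Function.Injective ι := e.symm.injective
  let f : SporHe.H ≃* SporHe.H.map ι := SporHe.H.equivMapOfInjective ι hι
  refine ⟨SporHe.H.map ι, SporHeSp.even.map f.toMonoidHom, FQ4, inferInstance, inferInstance,
    ?_, ?_, FQ4.card_eq, ?_⟩
  · exact Subgroup.Normal.map (MonoidHom.normal_ker _) _ f.surjective
  · exact (Subgroup.index_map_equiv _ f).trans SporHeSp.even_index
  · obtain ⟨g⟩ := SporHeSp.exists_iso
    exact ⟨(SporHeSp.even.equivMapOfInjective _ f.injective).symm.trans g⟩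

end CfsgLib.InvChar.HeRec
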