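import Cfsg.Agent.Lib.InvChar.HeRec.FusionYCheck
import Cfsg.Agent.Lib.Invol.Basic
import Mathlib.GroupTheory.GroupAction.Quotient
import Mathlib.Algebra.BigOperators.Ring.Finset
import Mathlib.Tactic

/-!
# Fusion in Held's group: the gluing class consists of conjugates of `t`

A two-group acts on the conjugates of `t`; the numbers of fixed points depend only on which classes of
involutions of `C(t)` fuse to `t`, and on one unknown for the other class.  The divisibility of their
sums by the group order fixes the classes of `hY` and `hZY`.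
-/

set_option autoImplicit false

namespace CfsgLib.InvChar.HeRec

namespace Fus

theorem valid_count :
    ((Finset.range 512).filter fun a => hvalid a = true).card = 168 := by
  decide +kernel

theorem total_congr (ni oc : List ℕ) {P Q : ℕ → Bool} (h : ∀ k < 8, P k = Q k) {X Y m : ℕ}
    (hXY : X ≡ Y [MOD m]) : total ni oc P X ≡ total ni oc Q Y [MOD m] := by
  have hf : fz P = fz Q := Finset.sum_congr rfl fun k hk => by rw [h k (Finset.mem_range.1 hk)]
  have hsum : ∀ (s : Finset ℕ) (f g : ℕ → ℕ), (∀ k ∈ s, f k ≡ g k [MOD m]) →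
      ∑ k ∈ s, f k ≡ ∑ k ∈ s, g k [MOD m] := by
    intro s f g hfg
    rw [Nat.ModEq, Finset.sum_nat_mod, Finset.sum_nat_mod s m g,
      Finset.sum_congr rfl fun k hk => hfg k hk]
  refine Nat.ModEq.add_left _ (hsum _ _ _ fun k hk => ?_)
  rw [h k (Finset.mem_range.1 hk)]
  refine Nat.ModEq.add_right _ (Nat.ModEq.mul_left _ ?_)
  simp only [fv, h k (Finset.mem_range.1 hk), hf]
  split
  · rfl
  · exact hXY

/-- The number of conjugates of `t` commuting with `g`. -/
noncomputable def fixN {G : Type*} [Group G] (t g : G) : ℕ :=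
  Nat.card {s : G // IsConj t s ∧ g * s = s * g}

theorem fixN_conj {G : Type*} [Group G] (t : G) {g g' : G} (h : IsConj g g') :
    fixN t g = fixN t g' := by
  obtain ⟨c, hc⟩ := isConj_iff.1 h
  subst hc
  refine Nat.card_congr
    { toFun := fun s => ⟨c * s.1 * c⁻¹, s.2.1.trans (isConj_iff.2 ⟨c, rfl⟩), ?_⟩
      invFun := fun s => ⟨c⁻¹ * s.1 * c, s.2.1.trans (isConj_iff.2 ⟨c⁻¹, by simp⟩), ?_⟩
      left_inv := fun s => Subtype.ext (by simp [mul_assoc])
      right_inv := fun s => Subtype.ext (by simp [mul_assoc]) }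
  · calc c * g * c⁻¹ * (c * s.1 * c⁻¹) = c * (g * s.1) * c⁻¹ := by group
      _ = c * s.1 * c⁻¹ * (c * g * c⁻¹) := by rw [s.2.2]; group
  · calc g * (c⁻¹ * s.1 * c) = c⁻¹ * (c * g * c⁻¹ * s.1) * c := by group
      _ = c⁻¹ * s.1 * c * g := by rw [s.2.2]; group

theorem fixN_one {G : Type*} [Group G] (t : G) : fixN t 1 = Nat.card {s : G // IsConj t s} :=
  Nat.card_congr (Equiv.subtypeEquivRight fun s => by simp)

/-- Burnside for a subgroup acting on the conjugates of `t`. -/
theorem dvd_sum_fixN {G : Type*} [Group G] [Finite G] (t : G) (A : Subgroup G) [Fintype A] :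
    Nat.card A ∣ ∑ a : A, fixN t (a : G) := by
  classical
  letI : MulAction A {s : G // IsConj t s} :=
    { smul := fun a s => ⟨(a : G) * s.1 * (a : G)⁻¹, s.2.trans (isConj_iff.2 ⟨_, rfl⟩)⟩
      one_smul := fun s => Subtype.ext (show ((1 : A) : G) * s.1 * ((1 : A) : G)⁻¹ = s.1 by simp)
      mul_smul := fun a b s => Subtype.ext
        (show ((a * b : A) : G) * s.1 * ((a * b : A) : G)⁻¹ = _ * (_ * s.1 * _) * _ by
          simp [mul_assoc]) }
  have hfix : ∀ a : A, fixN t (a : G) = Nat.card (MulAction.fixedBy {s : G // IsConj t s} a) := by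
    intro a
    refine Nat.card_congr ((Equiv.subtypeSubtypeEquivSubtypeInter _ _).symm.trans
      (Equiv.subtypeEquivRight fun s => ?_))
    rw [MulAction.mem_fixedBy, Subtype.ext_iff]
    exact (mul_inv_eq_iff_eq_mul).symm
  have := Fintype.ofFinite {s : G // IsConj t s}
  have := Fintype.ofFinite (Quotient (MulAction.orbitRel A {s : G // IsConj t s}))
  have hb := MulAction.sum_card_fixedBy_eq_card_orbits_mul_card_group A {s : G // IsConj t s}
  refine Dvd.intro_left (Fintype.card (Quotient (MulAction.orbitRel A {s : G // IsConj t s}))) ?_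
  rw [Nat.card_eq_fintype_card, ← hb]
  exact Finset.sum_congr rfl fun a _ => by rw [hfix, Nat.card_eq_fintype_card]

variable {G : Type*} [Group G] [Finite G] {t : G} {ψ : ℕ → G}

omit [Finite G] in
theorem map_one (hψ : IsFrame t ψ) : ψ hOne = 1 := by
  have h := hψ.map_mul hOne hOne (by decide) (by decide)
  rw [show hmul hOne hOne = hOne by decide] at h
  exact mul_eq_left.1 h.symm

omit [Finite G] in
theorem commute_t (hψ : IsFrame t ψ) {x : ℕ} (hx : hvalid x = true) : ψ x * t = t * ψ x :=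
  Subgroup.mem_centralizer_singleton_iff.1 ((hψ.mem_iff _).2 ⟨x, hx, rfl⟩)

theorem card_cent (hψ : IsFrame t ψ) : Nat.card (Subgroup.centralizer ({t} : Set G)) = 21504 := by
  classical
  obtain ⟨S, hSdef⟩ : ∃ S : Finset (ℕ × ℕ),
      S = Finset.range 128 ×ˢ (Finset.range 512).filter fun a => hvalid a = true := ⟨_, rfl⟩
  have hv : ∀ p ∈ S, hvalid (p.2 + 512 * p.1) = true ∧ p.1 < 128 ∧ p.2 < 512 := by
    intro p hp
    simp only [hSdef, Finset.mem_product, Finset.mem_range, Finset.mem_filter] at hp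
    refine ⟨(valid_iff _).2 ⟨by omega, ?_⟩, hp.1, hp.2.1⟩
    rw [Nat.add_mul_mod_self_left, Nat.mod_eq_of_lt hp.2.1]
    exact hp.2.2
  have hS : ∀ p : S, ψ (p.1.2 + 512 * p.1.1) ∈ Subgroup.centralizer ({t} : Set G) := fun p =>
    (hψ.mem_iff _).2 ⟨_, (hv _ p.2).1, rfl⟩
  rw [show 21504 = S.card by rw [hSdef, Finset.card_product, valid_count, Finset.card_range],
    ← Nat.card_eq_finsetCard]
  refine (Nat.card_eq_of_bijective (fun p : S => (⟨_, hS p⟩ : Subgroup.centralizer ({t} : Set G)))
    ⟨fun p q h => ?_, fun g => ?_⟩).symm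
  · have e := hψ.inj _ _ (hv _ p.2).1 (hv _ q.2).1 (congrArg Subtype.val h)
    have := (hv _ p.2).2
    have := (hv _ q.2).2
    exact Subtype.ext (Prod.ext (by omega) (by omega))
  · obtain ⟨x, hx, e⟩ := (hψ.mem_iff _).1 g.2
    obtain ⟨hlt, hA⟩ := (valid_iff x).1 hx
    refine ⟨⟨(x / 512, x % 512), by
      simp only [hSdef, Finset.mem_product, Finset.mem_range, Finset.mem_filter]
      exact ⟨by omega, by omega, hA⟩⟩, Subtype.ext ?_⟩
    show ψ (x % 512 + 512 * (x / 512)) = g.1
    rw [Nat.mod_add_div, e]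

theorem fixN_one_eq (hψ : IsFrame t ψ) (hG : Nat.card G = 4030387200) : fixN t 1 = 187425 := by
  have h := CfsgLib.Invol.card_class_mul_card_centralizer t
  rw [card_cent hψ, hG] at h
  rw [fixN_one]
  omega

omit [Finite G] in
theorem conj_of_eq (hψ : IsFrame t ψ) {c x r : ℕ} (hc : hvalid c = true) (hx : hvalid x = true)
    (hr : hvalid r = true) (h : hmul c x = hmul r c) : IsConj (ψ x) (ψ r) := by
  refine isConj_iff.2 ⟨ψ c, ?_⟩
  rw [mul_inv_eq_iff_eq_mul, ← hψ.map_mul _ _ hc hx, h, hψ.map_mul _ _ hr hc]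

open Classical in
/-- Which classes consist of conjugates of `t`. -/
noncomputable def fused (t : G) (ψ : ℕ → G) (k : ℕ) : Bool := decide (IsConj t (ψ (reps.getD k 0)))

omit [Finite G] in
theorem fused_iff (hψ : IsFrame t ψ) {r : ℕ} (hr : r ∈ invTab) :
    IsConj t (ψ (eCode r)) ↔ fused t ψ (rCls r) = true := by
  obtain ⟨h1, h2, h3, h4⟩ := tab_spec r hr
  have hc := conj_of_eq hψ h2 h1 h3 h4
  simp only [fused, decide_eq_true_eq]
  exact ⟨fun h => h.trans hc, fun h => h.trans hc.symm⟩

theorem rCls_lt (r : ℕ) : rCls r < 8 := Nat.mod_lt _ (by norm_num)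

theorem reps_valid : ∀ k < 8, hvalid (reps.getD k 0) = true := by decide +kernel

theorem reps_order : ∀ k < 8, hmul (reps.getD k 0) (reps.getD k 0) = hOne ∧ reps.getD k 0 ≠ hOne := by
  decide +kernel

/-- An element whose centraliser is inside `C(t)`: its fixed points are counted in the model. -/
theorem fixN_of_le (hψ : IsFrame t ψ) (ht : orderOf t = 2) {a : ℕ} (ha : hvalid a = true)
    (hcl : ∀ r ∈ invTab, hvalid (hmul (eCode r) a) = true ∧ hvalid (hmul a (eCode r)) = true)
    (hC : ∀ s : G, ψ a * s = s * ψ a → s * t = t * s) :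
    fixN t (ψ a) = ∑ k ∈ Finset.range 8, if fused t ψ k then hist a k else 0 := by
  classical
  set L := (invTab.filter fun r => fused t ψ (rCls r) && hmul (eCode r) a == hmul a (eCode r)) with hL
  have hnd : invTab.Nodup := List.Nodup.of_map _ (List.isChain_iff_pairwise.1 tab_sorted).nodup
  have hR : fixN t (ψ a) = L.toFinset.card := by
    have hmem : ∀ r : L.toFinset, IsConj t (ψ (eCode r.1)) ∧
        ψ a * ψ (eCode r.1) = ψ (eCode r.1) * ψ a := by
      intro r
      have h := List.mem_toFinset.1 r.2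
      simp only [hL, List.mem_filter, Bool.and_eq_true, beq_iff_eq] at h
      obtain ⟨hr, hf, he⟩ := h
      have h1 := (tab_spec r.1 hr).1
      exact ⟨(fused_iff hψ hr).2 hf, by rw [← hψ.map_mul _ _ ha h1, ← hψ.map_mul _ _ h1 ha, he]⟩
    rw [← Nat.card_eq_finsetCard, fixN]
    refine (Nat.card_eq_of_bijective (fun r : L.toFinset =>
      (⟨ψ (eCode r.1), hmem r⟩ : {s : G // IsConj t s ∧ ψ a * s = s * ψ a})) ⟨?_, ?_⟩).symm
    · intro p q h
      have hp := (List.mem_filter.1 (List.mem_toFinset.1 p.2)).1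
      have hq := (List.mem_filter.1 (List.mem_toFinset.1 q.2)).1
      exact Subtype.ext (code_injOn hp hq
        (hψ.inj _ _ (tab_spec _ hp).1 (tab_spec _ hq).1 (congrArg Subtype.val h)))
    · rintro ⟨s, hs, hsa⟩
      obtain ⟨x, hx, rfl⟩ := (hψ.mem_iff s).1 (Subgroup.mem_centralizer_singleton_iff.2 (hC s hsa))
      obtain ⟨c, hc⟩ := isConj_iff.1 hs
      have htt : t * t = 1 := by
        rw [← pow_two, ← ht, pow_orderOf_eq_one]
      have hs2 : ψ x * ψ x = 1 := by
        rw [← hc]
        calc c * t * c⁻¹ * (c * t * c⁻¹) = c * (t * t) * c⁻¹ := by group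
          _ = 1 := by rw [htt]; group
      have hs1 : x ≠ hOne := fun e => by
        rw [e, map_one hψ] at hc
        have ht1 : t = 1 := by simpa using hc
        rw [ht1, orderOf_one] at ht
        norm_num at ht
      have hx2 : hmul x x = hOne :=
        hψ.inj _ _ (hvalid_sq hx) (by decide) (by rw [hψ.map_mul _ _ hx hx, hs2, map_one hψ])
      obtain ⟨r, hr, rfl⟩ := tab_complete hx hx2 hs1
      refine ⟨⟨r, List.mem_toFinset.2 ?_⟩, rfl⟩
      simp only [hL, List.mem_filter, Bool.and_eq_true, beq_iff_eq]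
      refine ⟨hr, (fused_iff hψ hr).1 hs, hψ.inj _ _ (hcl r hr).1 (hcl r hr).2 ?_⟩
      rw [hψ.map_mul _ _ hx ha, hψ.map_mul _ _ ha hx, hsa]
  rw [hR, Finset.card_eq_sum_card_fiberwise (f := rCls) (t := Finset.range 8)
    fun r _ => Finset.mem_range.2 (rCls_lt r)]
  refine Finset.sum_congr rfl fun k _ => ?_
  have hfe : L.toFinset.filter (fun r => rCls r = k) = if fused t ψ k then
      (invTab.filter fun r => rCls r == k && hmul (eCode r) a == hmul a (eCode r)).toFinset
      else ∅ := by
    ext r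
    split <;> rename_i hk <;>
      simp only [Finset.mem_filter, List.mem_toFinset, hL, List.mem_filter, Bool.and_eq_true,
        beq_iff_eq, Finset.notMem_empty]
    · constructor
      · rintro ⟨⟨hr, -, he⟩, hrk⟩; exact ⟨hr, hrk, he⟩
      · rintro ⟨hr, hrk, he⟩; exact ⟨⟨hr, hrk ▸ hk, he⟩, hrk⟩
    · constructor
      · rintro ⟨⟨-, hf, -⟩, hrk⟩; exact hk (hrk ▸ hf)
      · exact fun h => h.elim
  rw [hfe]
  split
  · exact List.toFinset_card_of_nodup (hnd.filter _)
  · rfl

/-- A central element of the count: `hZ` commutes with everything. -/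
theorem hist_z : ∀ r ∈ invTab, hmul (eCode r) hZ = hmul hZ (eCode r) := by decide +kernel

theorem fixN_t (hψ : IsFrame t ψ) (ht : orderOf t = 2) : fixN t t = fz (fused t ψ) := by
  have hzv : hvalid hZ = true := by decide
  have hz : ∀ r ∈ invTab, hvalid (hmul (eCode r) hZ) = true ∧ hvalid (hmul hZ (eCode r)) = true := by
    intro r hr
    have h : ∀ a < 512, hvalid a = true →
        hvalid (mulA a (hZ % 512)) = true ∧ hvalid (mulA (hZ % 512) a) = true := by decide +kernel
    obtain ⟨h1, -⟩ := tab_spec r hr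
    obtain ⟨h2, h3⟩ := h _ (Nat.mod_lt _ (by norm_num)) ((valid_iff _).1 h1).2
    exact ⟨valid_hmul h1 hzv h2, valid_hmul hzv h1 h3⟩
  have h := fixN_of_le hψ ht hzv hz fun s hs => by rw [hψ.map_z] at hs; exact hs.symm
  rw [hψ.map_z] at h
  rw [h, fz]
  refine Finset.sum_congr rfl fun k hk => ?_
  rw [← tab_count k (Finset.mem_range.1 hk), hist,
    List.filter_congr (q := fun r => rCls r == k) fun r hr => by simp [hist_z r hr]]


omit [Finite G] in
theorem exists_fix_const (ht : orderOf t = 2) (htwo : ∃ x y : G, orderOf x = 2 ∧ orderOf y = 2 ∧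
    ¬ IsConj x y ∧ ∀ z : G, orderOf z = 2 → IsConj z x ∨ IsConj z y) :
    ∃ X : ℕ, ∀ v : G, orderOf v = 2 → ¬ IsConj t v → fixN t v = X := by
  obtain ⟨x, y, -, -, -, hall⟩ := htwo
  rcases hall t ht with htx | hty
  · refine ⟨fixN t y, fun v hv hn => fixN_conj t ((hall v hv).resolve_left fun h => hn ?_)⟩
    exact htx.trans h.symm
  · refine ⟨fixN t x, fun v hv hn => fixN_conj t ((hall v hv).resolve_right fun h => hn ?_)⟩
    exact hty.trans h.symm

/-- The fixed points of the representative of a class. -/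
theorem fixN_rep (hψ : IsFrame t ψ) (ht : orderOf t = 2) {X : ℕ}
    (hX : ∀ v : G, orderOf v = 2 → ¬ IsConj t v → fixN t v = X) {k : ℕ} (hk : k < 8) :
    fixN t (ψ (reps.getD k 0)) = fv (fused t ψ) X k := by
  rw [fv]
  split
  · rename_i hf
    simp only [fused, decide_eq_true_eq] at hf
    rw [← fixN_conj t hf, fixN_t hψ ht]
  · rename_i hf
    simp only [fused, decide_eq_true_eq] at hf
    obtain ⟨h2, h1⟩ := reps_order k hk
    have hv := reps_valid k hk
    refine hX _ (orderOf_eq_prime ?_ fun e => h1 (hψ.inj _ _ hv (by decide)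
      (e.trans (map_one hψ).symm))) hf
    rw [pow_two, ← hψ.map_mul _ _ hv hv, h2, map_one hψ]

/-- The fixed points of the further representatives. -/
theorem fixN_rep2 (hψ : IsFrame t ψ) (ht : orderOf t = 2) {i : ℕ} (hi : i < 2) :
    fixN t (ψ (reps2.getD i 0)) =
      ∑ k ∈ Finset.range 8, if fused t ψ k then histOf i k else 0 := by
  have hmem : reps2.getD i 0 ∈ reps2 := by
    have h : ∀ i < 2, reps2.getD i 0 ∈ reps2 := by decide +kernel
    exact h i hi
  obtain ⟨ha, hp, -⟩ := reps2_spec _ hmem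
  generalize hA : reps2.getD i 0 = a at *
  have step : ∀ {b : ℕ}, hvalid b = true → ∀ {s : G}, ψ b * s = s * ψ b →
      ψ (hmul b b) * s = s * ψ (hmul b b) := by
    intro b hb s hs
    rw [hψ.map_mul _ _ hb hb]
    calc ψ b * ψ b * s = ψ b * (ψ b * s) := by group
      _ = ψ b * s * ψ b := by rw [mul_assoc (ψ b) s, ← hs]
      _ = s * (ψ b * ψ b) := by rw [hs]; group
  rw [fixN_of_le hψ ht ha (fun r hr => reps2_closed hmem hr) fun s hs => ?_]
  · exact Finset.sum_congr rfl fun k hk => by rw [← hA, hist_ok i hi k (Finset.mem_range.1 hk)]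
  · have h1 := step ha hs
    rcases hp with h | h
    · rw [h, hψ.map_z] at h1; exact h1.symm
    · have h2 := step (hvalid_sq ha) h1
      rw [h, hψ.map_z] at h2; exact h2.symm

/-- The congruence given by one subgroup. -/
theorem total_dvd (hψ : IsFrame t ψ) (ht : orderOf t = 2) (hG : Nat.card G = 4030387200) {X : ℕ}
    (hX : ∀ v : G, orderOf v = 2 → ¬ IsConj t v → fixN t v = X) {gen ent nx pl ni oc : List ℕ} {m : ℕ}
    (hA : GrpOK gen ent nx pl ni oc m) (hm : 0 < m) : total ni oc (fused t ψ) X % m = 0 := by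
  classical
  set el : ℕ → ℕ := fun i => eCode (ent.getD i 0) with hel
  have hv : ∀ i < m, hvalid (el i) = true := fun i hi => (hA.ent_valid i hi).1
  have mulg : ∀ i < m, ∀ j < gen.length, ∃ k < m, ψ (el i) * ψ (gen.getD j 0) = ψ (el k) := by
    intro i hi j hj
    obtain ⟨h1, h2⟩ := hA.next i hi j hj
    exact ⟨_, h1, by rw [← hψ.map_mul _ _ (hv i hi) (hA.gen_valid j hj), h2]⟩
  have mulm : ∀ j, j < m → ∀ i < m, ∃ k < m, ψ (el i) * ψ (el j) = ψ (el k) := by
    intro j
    induction j using Nat.strong_induction_on with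
    | _ j ih =>
      intro hj i hi
      rcases Nat.eq_zero_or_pos j with rfl | hpos
      · exact ⟨i, hi, by rw [show el 0 = hOne from hA.first, map_one hψ, mul_one]⟩
      obtain ⟨hp, hg, e⟩ := hA.parent j hj hpos
      obtain ⟨k, hk, hk'⟩ := ih _ hp (lt_trans hp hj) i hi
      obtain ⟨l, hl, hl'⟩ := mulg k hk _ hg
      refine ⟨l, hl, ?_⟩
      rw [← hl', ← hk', show el j = hmul _ _ from e.symm,
        hψ.map_mul _ _ (hv _ (lt_trans hp hj)) (hA.gen_valid _ hg), mul_assoc]
  let H : Subgroup G :=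
    { carrier := {g | ∃ i < m, ψ (el i) = g}
      one_mem' := ⟨0, hm, by rw [show el 0 = hOne from hA.first, map_one hψ]⟩
      mul_mem' := by
        rintro _ _ ⟨i, hi, rfl⟩ ⟨j, hj, rfl⟩
        obtain ⟨k, hk, e⟩ := mulm j hj i hi
        exact ⟨k, hk, e.symm⟩
      inv_mem' := by
        rintro _ ⟨i, hi, rfl⟩
        have hpow : ∀ n : ℕ, ∃ k < m, ψ (el k) = ψ (el i) ^ n := by
          intro n
          induction n with
          | zero => exact ⟨0, hm, by rw [show el 0 = hOne from hA.first, map_one hψ, pow_zero]⟩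
          | succ n ih =>
            obtain ⟨k, hk, e⟩ := ih
            obtain ⟨l, hl, e'⟩ := mulm i hi k hk
            exact ⟨l, hl, by rw [pow_succ, ← e, e']⟩
        obtain ⟨k, hk, e⟩ := hpow (orderOf (ψ (el i)) - 1)
        refine ⟨k, hk, e.trans (eq_inv_of_mul_eq_one_left ?_)⟩
        rw [← pow_succ, Nat.sub_add_cancel (orderOf_pos _), pow_orderOf_eq_one] }
  have hbij : Function.Bijective fun i : Finset.range m =>
      (⟨ψ (el i.1), i.1, Finset.mem_range.1 i.2, rfl⟩ : H) := by
    refine ⟨fun a b h => ?_, ?_⟩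
    · have ha := Finset.mem_range.1 a.2
      have hb := Finset.mem_range.1 b.2
      have e := hψ.inj _ _ (hv _ ha) (hv _ hb) (congrArg Subtype.val h)
      have ha' : a.1 < (ent.map eCode).length := by rw [List.length_map, hA.len]; exact ha
      have hb' : b.1 < (ent.map eCode).length := by rw [List.length_map, hA.len]; exact hb
      refine Subtype.ext ((hA.inj.getElem_inj_iff (hi := ha') (hj := hb')).1 ?_)
      simpa [hel, List.getD_eq_getElem, hA.len, ha, hb] using e
    · rintro ⟨_, i, hi, rfl⟩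
      exact ⟨⟨i, Finset.mem_range.2 hi⟩, rfl⟩
  have := Fintype.ofFinite H
  have hcard : Nat.card H = m := by
    rw [← Nat.card_eq_of_bijective _ hbij, Nat.card_eq_finsetCard, Finset.card_range]
  have hd := dvd_sum_fixN t H
  rw [hcard, ← Fintype.sum_bijective _ hbij _ (fun g : H => fixN t (g : G)) fun _ => rfl,
    Finset.sum_coe_sort (Finset.range m) fun i => fixN t (ψ (el i))] at hd
  set lab : ℕ → ℕ := fun i => eLab (ent.getD i 0) with hlab
  have key : ∀ i ∈ Finset.range m, fixN t (ψ (el i)) = (if lab i = 31 then 187425 else 0) +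
      ∑ k ∈ Finset.range 8, ((if lab i = k then fv (fused t ψ) X k else 0) +
        if fused t ψ k then (if 8 ≤ lab i ∧ lab i < 10 then histOf (lab i - 8) k else 0) else 0) := by
    intro i hi
    have hi' := Finset.mem_range.1 hi
    obtain ⟨hc1, hc2⟩ := hA.ent_valid i hi'
    rcases hA.label i hi' with ⟨hl, he⟩ | ⟨hl, he⟩ | ⟨hl1, hl2, he⟩
    · replace hl : lab i = 31 := hl
      rw [show el i = hOne from he, map_one hψ, fixN_one_eq hψ hG, hl, if_pos rfl]
      rw [Finset.sum_eq_zero, add_zero]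
      intro k hk
      have := Finset.mem_range.1 hk
      rw [if_neg (show ¬ 31 = k by omega), if_neg (show ¬ (8 ≤ 31 ∧ 31 < 10) by omega)]
      simp
    · replace hl : lab i < 8 := hl
      rw [if_neg (show ¬ lab i = 31 by omega), zero_add,
        fixN_conj t (conj_of_eq hψ hc2 hc1 (reps_valid _ hl) he), fixN_rep hψ ht hX hl]
      rw [Finset.sum_congr rfl (g := fun k => if lab i = k then fv (fused t ψ) X k else 0) fun k _ => by
        rw [if_neg (show ¬ (8 ≤ lab i ∧ lab i < 10) by omega), ite_self, add_zero]]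
      rw [Finset.sum_ite_eq, if_pos (Finset.mem_range.2 hl)]
    · replace hl1 : 8 ≤ lab i := hl1
      replace hl2 : lab i < 10 := hl2
      have hv2 : hvalid (reps2.getD (lab i - 8) 0) = true := by
        have h : ∀ i < 2, hvalid (reps2.getD i 0) = true := by decide +kernel
        exact h _ (by omega)
      rw [if_neg (show ¬ lab i = 31 by omega), zero_add, fixN_conj t (conj_of_eq hψ hc2 hc1 hv2 he),
        fixN_rep2 hψ ht (show lab i - 8 < 2 by omega)]
      refine Finset.sum_congr rfl fun k hk => ?_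
      have := Finset.mem_range.1 hk
      rw [if_neg (show ¬ lab i = k by omega), zero_add]
      simp only [hl1, hl2, and_self, if_true]
  rw [Finset.sum_congr rfl key, Finset.sum_add_distrib, Finset.sum_comm] at hd
  have hone : ∑ i ∈ Finset.range m, (if lab i = 31 then 187425 else 0) = 187425 := by
    rw [← Finset.sum_filter, Finset.sum_const, hA.one_count, one_smul]
  have htot : ∀ k ∈ Finset.range 8, ∑ i ∈ Finset.range m,
      ((if lab i = k then fv (fused t ψ) X k else 0) +
        if fused t ψ k then (if 8 ≤ lab i ∧ lab i < 10 then histOf (lab i - 8) k else 0) else 0) =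
      ni.getD k 0 * fv (fused t ψ) X k + if fused t ψ k then oc.getD k 0 else 0 := by
    intro k hk
    rw [Finset.sum_add_distrib, ← Finset.sum_filter, Finset.sum_const,
      hA.invol k (Finset.mem_range.1 hk), smul_eq_mul]
    congr 1
    split
    · rw [← Finset.sum_filter]; exact hA.other k (Finset.mem_range.1 hk)
    · exact Finset.sum_const_zero
  rw [hone, Finset.sum_congr rfl htot] at hd
  exact Nat.mod_eq_zero_of_dvd hd

theorem fused_one (hψ : IsFrame t ψ) (ht : orderOf t = 2) (hG : Nat.card G = 4030387200)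
    (htwo : ∃ x y : G, orderOf x = 2 ∧ orderOf y = 2 ∧ ¬ IsConj x y ∧
      ∀ z : G, orderOf z = 2 → IsConj z x ∨ IsConj z y) : fused t ψ 1 = true := by
  obtain ⟨X, hX⟩ := exists_fix_const ht htwo
  have h7 : fused t ψ 7 = true := by
    simp only [fused, decide_eq_true_eq, show reps.getD 7 0 = hZ from by decide, hψ.map_z]
    exact IsConj.refl t
  rcases Bool.eq_false_or_eq_true (fused t ψ 1) with h | h
  · exact h
  exfalso
  set P := pat (fused t ψ 0) (fused t ψ 2) (fused t ψ 3) (fused t ψ 4) (fused t ψ 5) (fused t ψ 6)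
  have hP : ∀ k < 8, fused t ψ k = P k := by
    intro k hk
    interval_cases k <;> simp [P, pat, h, h7]
  have hmod : ∀ {m : ℕ}, m ∣ 64 → ∀ ni oc : List ℕ, total ni oc (fused t ψ) X % m = 0 →
      total ni oc P (X % 64) % m = 0 := by
    intro m hm ni oc e
    have hc : X ≡ X % 64 [MOD m] := ((Nat.mod_modEq X 64).of_dvd hm).symm
    rw [← e]
    exact (total_congr ni oc hP hc).symm
  exact no_pattern _ _ _ _ _ _ (X % 64) (Nat.mod_lt _ (by norm_num))
    ⟨hmod dvd_rfl _ _ (total_dvd hψ ht hG hX grpA_ok (by norm_num)),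
      hmod (by norm_num) _ _ (total_dvd hψ ht hG hX grpB_ok (by norm_num)),
      hmod (by norm_num) _ _ (total_dvd hψ ht hG hX grpC_ok (by norm_num))⟩

end Fus

/-- The classes of `hY` and of `hZY` consist of conjugates of `t`. -/
theorem conj_hY {G : Type*} [Group G] [Finite G] {t : G} (ht : orderOf t = 2)
    (hG : Nat.card G = 4030387200) (htwo : ∃ x y : G, orderOf x = 2 ∧ orderOf y = 2 ∧ ¬ IsConj x y ∧
      ∀ z : G, orderOf z = 2 → IsConj z x ∨ IsConj z y) {ψ : ℕ → G} (hψ : IsFrame t ψ) :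
    IsConj t (ψ hY) ∧ IsConj t (ψ hZY) := by
  have h := Fus.fused_one hψ ht hG htwo
  obtain ⟨r, hr, hr1, hr2⟩ := Fus.tab_hY
  obtain ⟨r', hr', hr1', hr2'⟩ := Fus.tab_hZY
  refine ⟨hr1 ▸ (Fus.fused_iff hψ hr).2 (hr2 ▸ h), hr1' ▸ (Fus.fused_iff hψ hr').2 (hr2' ▸ h)⟩

/-- Piece C: a frame in which both edges at the gluing class join conjugates of `t`. -/
theorem conj_y {G : Type*} [Group G] [Finite G] {t : G} (ht : orderOf t = 2)
    (hG : Nat.card G = 4030387200) (htwo : ∃ x y : G, orderOf x = 2 ∧ orderOf y = 2 ∧ ¬ IsConj x y ∧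
      ∀ z : G, orderOf z = 2 → IsConj z x ∨ IsConj z y) (ψ : ℕ → G) (hψ : IsFrame t ψ) :
    ∃ ψ' : ℕ → G, IsFrame t ψ' ∧ IsConj t (ψ' hY) ∧ IsConj t (ψ' hZY) :=
  ⟨ψ, hψ, conj_hY ht hG htwo hψ⟩

end CfsgLib.InvChar.HeRec
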