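import Cfsg.Agent.Lib.InvChar.HeRec.FusionYData
import Mathlib.Algebra.BigOperators.Group.Finset.Basic
import Mathlib.Tactic

/-!
# Checks of the tables for the fusion congruences in Held's group
-/

set_option autoImplicit false

namespace CfsgLib.InvChar.HeRec.Fus

/-- The code of a table entry. -/
def eCode (r : ℕ) : ℕ := r % 65536

/-- The class of a row of `invTab`. -/
def rCls (r : ℕ) : ℕ := (r >>> 16) % 8

/-- The conjugator of a row of `invTab`. -/
def rCjg (r : ℕ) : ℕ := r >>> 19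

/-- All rows. -/
def invTab : List ℕ := invBuckets.flatMap Prod.snd

/-- The label of a subgroup entry: below `8` a class of involutions, `31` the identity. -/
def eLab (r : ℕ) : ℕ := (r >>> 16) % 32

/-- The conjugator of a subgroup entry. -/
def eCjg (r : ℕ) : ℕ := r >>> 21

/-- The numbers of elements in the classes. -/
def sizes : List ℕ := [84, 168, 14, 168, 14, 42, 84, 1]

/-- The number of involutions of class `k` commuting with `a`. -/
def hist (a k : ℕ) : ℕ :=
  (invTab.filter fun r => rCls r == k && hmul (eCode r) a == hmul a (eCode r)).length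

/-- The listed number for the representative `i` and class `k`. -/
def histOf (i k : ℕ) : ℕ := hist2.getD (8 * i + k) 0

theorem valid_iff (x : ℕ) : hvalid x = true ↔ x < 65536 ∧ hvalid (x % 512) = true := by
  simp only [hvalid, Bool.and_eq_true, decide_eq_true_eq, bne_iff_ne, ne_eq,
    Nat.shiftRight_eq_div_pow, show (7 : ℕ) = 2 ^ 3 - 1 from rfl, Nat.and_two_pow_sub_one_eq_mod]
  norm_num

  have e2 : x % 512 / 8 % 8 = x / 8 % 8 := by omega
  have e3 : x % 512 / 64 % 8 = x / 64 % 8 := by omega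
  simp only [e2, e3]
  omega

/-- The matrix part of a product. -/
def mulA (a b : ℕ) : ℕ := hmul a b % 512

theorem hmul_mod (x y : ℕ) : hmul x y % 512 = mulA (x % 512) (y % 512) := by
  simp only [mulA, hmul, show (511 : ℕ) = 2 ^ 9 - 1 from rfl, Nat.and_two_pow_sub_one_eq_mod]
  norm_num
  omega

theorem rowMul_lt (R B : ℕ) : rowMul R B < 2 ^ 3 := by
  have h : ∀ a b : ℕ, (a &&& 1) * (b &&& 7) < 2 ^ 3 := by
    intro a b
    rw [Nat.and_one_is_mod, show (7 : ℕ) = 2 ^ 3 - 1 from rfl, Nat.and_two_pow_sub_one_eq_mod]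
    rcases Nat.mod_two_eq_zero_or_one a with e | e <;> simp [e] <;> omega
  exact Nat.xor_lt_two_pow (Nat.xor_lt_two_pow (h _ _) (h _ _)) (h _ _)

theorem parThree_lt (x : ℕ) : parThree x < 2 := by
  rw [parThree, Nat.and_one_is_mod]
  omega

theorem hmul_lt {x y : ℕ} (hx : x < 65536) (hy : y < 65536) : hmul x y < 65536 := by
  have hc : ∀ A v, colMul A v < 2 ^ 3 := by
    intro A v
    have := parThree_lt (A &&& v)
    have := parThree_lt ((A >>> 3) &&& v)
    have := parThree_lt ((A >>> 6) &&& v)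
    simp only [colMul]
    omega
  have h7 : ∀ a : ℕ, a &&& 7 < 2 ^ 3 := fun a => Nat.lt_succ_of_le Nat.and_le_right
  have h15 : ∀ {z : ℕ}, z < 65536 → z >>> 15 < 2 ^ 1 := fun hz => by
    rw [Nat.shiftRight_eq_div_pow]; omega
  simp only [hmul]
  have := rowMul_lt ((x &&& 511) &&& 7) (y &&& 511)
  have := rowMul_lt (((x &&& 511) >>> 3) &&& 7) (y &&& 511)
  have := rowMul_lt (((x &&& 511) >>> 6) &&& 7) (y &&& 511)
  have := Nat.xor_lt_two_pow (hc (x &&& 511) ((y >>> 9) &&& 7)) (h7 (x >>> 9))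
  have := Nat.xor_lt_two_pow (rowMul_lt ((x >>> 12) &&& 7) (y &&& 511)) (h7 (y >>> 12))
  have := Nat.xor_lt_two_pow (Nat.xor_lt_two_pow (h15 hx) (h15 hy))
    (show parThree (((x >>> 12) &&& 7) &&& ((y >>> 9) &&& 7)) < 2 ^ 1 from parThree_lt _)
  omega

theorem valid_hmul {x y : ℕ} (hx : hvalid x = true) (hy : hvalid y = true)
    (h : hvalid (mulA (x % 512) (y % 512)) = true) : hvalid (hmul x y) = true := by
  rw [valid_iff, hmul_mod]
  exact ⟨hmul_lt ((valid_iff x).1 hx).1 ((valid_iff y).1 hy).1, h⟩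

theorem sq_valid_aux : ∀ a < 512, hvalid a = true → hvalid (mulA a a) = true := by decide +kernel

theorem hvalid_sq {x : ℕ} (h : hvalid x = true) : hvalid (hmul x x) = true :=
  valid_hmul h h (sq_valid_aux _ (Nat.mod_lt _ (by norm_num)) ((valid_iff x).1 h).2)

theorem tab_spec : ∀ r ∈ invTab, hvalid (eCode r) = true ∧ hvalid (rCjg r) = true ∧
    hvalid (reps.getD (rCls r) 0) = true ∧
    hmul (rCjg r) (eCode r) = hmul (reps.getD (rCls r) 0) (rCjg r) := by
  decide +kernel

theorem tab_sorted : (invTab.map fun r => 65536 * (eCode r % 512) + eCode r).IsChain (· < ·) := by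
  decide +kernel

theorem code_injOn {p q : ℕ} (hp : p ∈ invTab) (hq : q ∈ invTab) (h : eCode p = eCode q) : p = q :=
  List.inj_on_of_nodup_map (List.isChain_iff_pairwise.1 tab_sorted).nodup hp hq
    (by show 65536 * (eCode p % 512) + eCode p = _; rw [h])

theorem tab_count : ∀ k < 8, (invTab.filter fun r => rCls r == k).length = sizes.getD k 0 := by
  decide +kernel

theorem bucket_complete : ∀ a < 512, hvalid a = true → mulA a a = hOne →
    ∃ b ∈ invBuckets, b.1 = a := by
  decide +kernel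

theorem tab_complete_aux : ∀ b ∈ invBuckets, ∀ q < 128,
    hmul (b.1 + 512 * q) (b.1 + 512 * q) = hOne →
      b.1 + 512 * q = hOne ∨ ∃ r ∈ b.2, eCode r = b.1 + 512 * q := by
  decide +kernel

theorem tab_complete {x : ℕ} (h : hvalid x = true) (h2 : hmul x x = hOne) (h1 : x ≠ hOne) :
    ∃ r ∈ invTab, eCode r = x := by
  obtain ⟨hx, ha⟩ := (valid_iff x).1 h
  have hsq : mulA (x % 512) (x % 512) = hOne := by
    rw [← hmul_mod, h2]; decide
  obtain ⟨b, hb, hba⟩ := bucket_complete _ (Nat.mod_lt _ (by norm_num)) ha hsq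
  have hxe : b.1 + 512 * (x / 512) = x := by rw [hba, Nat.mod_add_div]
  rcases tab_complete_aux b hb (x / 512) (by omega) (by rw [hxe]; exact h2) with e | ⟨r, hr, e⟩
  · exact absurd (hxe.symm.trans e) h1
  · exact ⟨r, List.mem_flatMap.2 ⟨b, hb, hr⟩, e.trans hxe⟩

theorem reps2_spec : ∀ a ∈ reps2, hvalid a = true ∧
    (hmul a a = hZ ∨ hmul (hmul a a) (hmul a a) = hZ) ∧
    ∀ b ∈ invBuckets, hvalid (mulA b.1 (a % 512)) = true ∧ hvalid (mulA (a % 512) b.1) = true := by
  decide +kernel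

theorem bucket_spec : ∀ b ∈ invBuckets, ∀ r ∈ b.2, eCode r % 512 = b.1 := by decide +kernel

theorem reps2_closed {a r : ℕ} (ha : a ∈ reps2) (hr : r ∈ invTab) :
    hvalid (hmul (eCode r) a) = true ∧ hvalid (hmul a (eCode r)) = true := by
  obtain ⟨b, hb, hrb⟩ := List.mem_flatMap.1 hr
  obtain ⟨h1, -, h3⟩ := reps2_spec a ha
  have h := h3 b hb
  rw [← bucket_spec b hb r hrb] at h
  exact ⟨valid_hmul (tab_spec r hr).1 h1 h.1, valid_hmul h1 (tab_spec r hr).1 h.2⟩

theorem hist_ok : ∀ i < 2, ∀ k < 8, hist (reps2.getD i 0) k = histOf i k := by decide +kernel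

/-- The conditions on one of the three subgroups. -/
structure GrpOK (gen ent nx pl ni oc : List ℕ) (m : ℕ) : Prop where
  len : ent.length = m
  gen_valid : ∀ j < gen.length, hvalid (gen.getD j 0) = true
  ent_valid : ∀ i < m, hvalid (eCode (ent.getD i 0)) = true ∧ hvalid (eCjg (ent.getD i 0)) = true
  first : eCode (ent.getD 0 0) = hOne
  inj : (ent.map eCode).Nodup
  next : ∀ i < m, ∀ j < gen.length, nx.getD (gen.length * i + j) 0 < m ∧
    hmul (eCode (ent.getD i 0)) (gen.getD j 0) = eCode (ent.getD (nx.getD (gen.length * i + j) 0) 0)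
  parent : ∀ i < m, 0 < i → pl.getD i 0 / 8 < i ∧ pl.getD i 0 % 8 < gen.length ∧
    hmul (eCode (ent.getD (pl.getD i 0 / 8) 0)) (gen.getD (pl.getD i 0 % 8) 0) = eCode (ent.getD i 0)
  label : ∀ i < m, (eLab (ent.getD i 0) = 31 ∧ eCode (ent.getD i 0) = hOne) ∨
    (eLab (ent.getD i 0) < 8 ∧
      hmul (eCjg (ent.getD i 0)) (eCode (ent.getD i 0)) =
        hmul (reps.getD (eLab (ent.getD i 0)) 0) (eCjg (ent.getD i 0))) ∨
    (8 ≤ eLab (ent.getD i 0) ∧ eLab (ent.getD i 0) < 10 ∧
      hmul (eCjg (ent.getD i 0)) (eCode (ent.getD i 0)) =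
        hmul (reps2.getD (eLab (ent.getD i 0) - 8) 0) (eCjg (ent.getD i 0)))
  one_count : ((Finset.range m).filter fun i => eLab (ent.getD i 0) = 31).card = 1
  invol : ∀ k < 8, ((Finset.range m).filter fun i => eLab (ent.getD i 0) = k).card = ni.getD k 0
  other : ∀ k < 8,
    ∑ i ∈ (Finset.range m).filter (fun i => 8 ≤ eLab (ent.getD i 0) ∧ eLab (ent.getD i 0) < 10),
      histOf (eLab (ent.getD i 0) - 8) k = oc.getD k 0

theorem grpA_ok : GrpOK genA entA nextA parA invA othA 64 := by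
  constructor <;> decide +kernel

theorem grpB_ok : GrpOK genB entB nextB parB invB othB 16 := by
  constructor <;> decide +kernel

theorem grpC_ok : GrpOK genC entC nextC parC invC othC 32 := by
  constructor <;> decide +kernel

/-- The number of fixed points of a conjugate of `t`, from the pattern of fused classes. -/
def fz (P : ℕ → Bool) : ℕ := ∑ k ∈ Finset.range 8, if P k then sizes.getD k 0 else 0

/-- The number of fixed points of an involution of class `k`. -/
def fv (P : ℕ → Bool) (X k : ℕ) : ℕ := if P k then fz P else X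

/-- The sum of the numbers of fixed points over a subgroup with counts `ni`, `oc`. -/
def total (ni oc : List ℕ) (P : ℕ → Bool) (X : ℕ) : ℕ :=
  187425 + ∑ k ∈ Finset.range 8, (ni.getD k 0 * fv P X k + if P k then oc.getD k 0 else 0)

/-- A class pattern from its bits; class `1` is not fused. -/
def pat (b₀ b₂ b₃ b₄ b₅ b₆ : Bool) (k : ℕ) : Bool :=
  [b₀, false, b₂, b₃, b₄, b₅, b₆, true].getD k true

theorem no_pattern : ∀ b₀ b₂ b₃ b₄ b₅ b₆ : Bool, ∀ X < 64,
    ¬ (total invA othA (pat b₀ b₂ b₃ b₄ b₅ b₆) X % 64 = 0 ∧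
      total invB othB (pat b₀ b₂ b₃ b₄ b₅ b₆) X % 16 = 0 ∧
      total invC othC (pat b₀ b₂ b₃ b₄ b₅ b₆) X % 32 = 0) := by
  decide +kernel

theorem tab_hY : ∃ r ∈ invTab, eCode r = hY ∧ rCls r = 1 := by decide +kernel

theorem tab_hZY : ∃ r ∈ invTab, eCode r = hZY ∧ rCls r = 1 := by decide +kernel

end CfsgLib.InvChar.HeRec.Fus
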