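import Mathlib.GroupTheory.Subgroup.Centralizer
import Mathlib.Data.Nat.Bitwise

/-!
# The involution centraliser of the Held group as codes

A code `A + 2^9 u + 2^12 φ + 2^15 c` stands for the matrix `[[1, φ, c], [0, A, u], [0, 0, 1]]` over the field
with two elements (`A` by rows, three bits each): the centraliser of a transvection in `SL(5, 2)`.
-/

set_option autoImplicit false

namespace CfsgLib.InvChar.HeRec

/-- The row vector `R` times the matrix `B`. -/
def rowMul (R B : ℕ) : ℕ :=
  (R &&& 1) * (B &&& 7) ^^^ ((R >>> 1) &&& 1) * ((B >>> 3) &&& 7) ^^^ ((R >>> 2) &&& 1) * ((B >>> 6) &&& 7)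

/-- Parity of a three-bit number. -/
def parThree (x : ℕ) : ℕ := (x ^^^ (x >>> 1) ^^^ (x >>> 2)) &&& 1

/-- The matrix `A` times the column vector `v`. -/
def colMul (A v : ℕ) : ℕ :=
  parThree (A &&& v) + 2 * parThree ((A >>> 3) &&& v) + 4 * parThree ((A >>> 6) &&& v)

/-- The product of two codes. -/
def hmul (x y : ℕ) : ℕ :=
  let A := x &&& 511
  let u := (x >>> 9) &&& 7
  let f := (x >>> 12) &&& 7
  let B := y &&& 511
  let v := (y >>> 9) &&& 7
  rowMul (A &&& 7) B + 8 * rowMul ((A >>> 3) &&& 7) B + 64 * rowMul ((A >>> 6) &&& 7) B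
    + 512 * (colMul A v ^^^ u)
    + 4096 * (rowMul f B ^^^ ((y >>> 12) &&& 7))
    + 32768 * ((x >>> 15) ^^^ (y >>> 15) ^^^ parThree (f &&& v))

/-- The codes: the matrix part is invertible. -/
def hvalid (x : ℕ) : Bool :=
  let a := x &&& 7
  let b := (x >>> 3) &&& 7
  let c := (x >>> 6) &&& 7
  decide (x < 65536) && a != 0 && b != 0 && b != a && c != 0 && c != a && c != b && c != (a ^^^ b)

/-- The identity. -/
def hOne : ℕ := 273

/-- The central involution. -/
def hZ : ℕ := 33041

/-- The representative of the gluing class of conjugates of the central involution. -/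
def hY : ℕ := 34581

/-- The product `hZ * hY`. -/
def hZY : ℕ := 1813

/-- An involution interchanging `hY` and `hZY`. -/
def hS : ℕ := 43283

/-- Generators of the centraliser of `hY`, a group of order 128. -/
def hD : List ℕ := [17173, 17201, 20279, 51479]

/-- Their images under the swap of `hZ` and `hY`. -/
def hDimg : List ℕ := [50961, 49425, 52535, 19223]

/-- The three triangle elements. -/
def hTri : List ℕ := [61095, 32015, 3353]

/-- Possible values of the cube of each triangle element times the swap; the first is the one of Held's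
group. -/
def hTriOpts : List (List ℕ) := [[273, 33553, 3863, 36119], [273, 17713, 50449, 33073], [273, 33585, 50965, 17717]]

/-- `ψ` identifies the codes with the centraliser of `t`. -/
structure IsFrame {G : Type*} [Group G] (t : G) (ψ : ℕ → G) : Prop where
  map_mul : ∀ x y, hvalid x = true → hvalid y = true → ψ (hmul x y) = ψ x * ψ y
  inj : ∀ x y, hvalid x = true → hvalid y = true → ψ x = ψ y → x = y
  mem_iff : ∀ g, g ∈ Subgroup.centralizer ({t} : Set G) ↔ ∃ x, hvalid x = true ∧ ψ x = g
  map_z : ψ hZ = t

/-- `n` is a swap involution for the frame `ψ`: it interchanges `ψ hZ` and `ψ hY` and acts on their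
common centraliser as in Held's group. -/
structure IsSwap {G : Type*} [Group G] (ψ : ℕ → G) (n : G) : Prop where
  sq : n * n = 1
  map_z : n * ψ hZ * n = ψ hY
  cube : (ψ hS * n) ^ 3 = 1
  map_d : ∀ i, i < 4 → n * ψ (hD.getD i 0) * n = ψ (hDimg.getD i 0)
  tri : ∀ i, i < 3 → ∃ x ∈ hTriOpts.getD i [], (ψ (hTri.getD i 0) * n) ^ 3 = ψ x

end CfsgLib.InvChar.HeRec
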