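import Cfsg.Agent.Lib.InvChar.HeRec.Completion
import Cfsg.Agent.Lib.InvChar.HeRec.Frame
import Cfsg.Agent.Lib.InvChar.HeRec.FusionY
import Cfsg.Agent.Lib.InvChar.HeRec.FusionExtra
import Cfsg.Agent.Lib.InvChar.HeRec.Swap
import Cfsg.Agent.Lib.InvChar.HeRec.Finale

/-!
# Recognition of Held's group from an involution centraliser and the order
-/

set_option autoImplicit false

namespace CfsgLib.InvChar.HeRec

universe u

/-- A simple group of the order of Held's group with two classes of involutions and an involution centraliser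
`2^{1+6}.L₃(2)` is Held's group. -/
theorem isoHe_of_centralizer {G : Type u} [Group G] [Finite G] [IsSimpleGroup G] (t : G) (ht : orderOf t = 2)
    (Q : Subgroup (Subgroup.centralizer ({t} : Set G))) [Q.Normal] (hQ : Cfsg.IsExtraspecial 2 Q)
    (hcard : Nat.card Q = 2 ^ 7) (h2c : Subgroup.centralizer (Q : Set (Subgroup.centralizer ({t} : Set G))) ≤ Q)
    (e : (Subgroup.centralizer ({t} : Set G)) ⧸ Q ≃* Matrix.SpecialLinearGroup (Fin 3) (ZMod 2))
    (hG : Nat.card G = 4030387200)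
    (htwo : ∃ x y : G, orderOf x = 2 ∧ orderOf y = 2 ∧ ¬ IsConj x y ∧
      ∀ z : G, orderOf z = 2 → IsConj z x ∨ IsConj z y) : Cfsg.Spor.IsoHe G := by
  obtain ⟨ψ, hψ⟩ := exists_frame t ht Q hQ hcard h2c e hG
  obtain ⟨hy, hzy⟩ := conj_hY ht hG htwo hψ
  obtain ⟨n, hn⟩ := exists_swap ht ψ hψ hy hzy
  obtain ⟨hx, hx1⟩ := fusion_extra ht hG htwo hψ
  obtain ⟨φ, hφ⟩ := exists_hom ht hψ hn hx hx1
  exact iso_of_hom hG φ hφ

end CfsgLib.InvChar.HeRec
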