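import Cfsg.Agent.Lib.InvChar.HeRec.Letters
import Cfsg.Agent.Lib.InvChar.CosetCert

/-!
# Words in the five letters of the centraliser and the swap
-/

set_option autoImplicit false

namespace CfsgLib.InvChar.HeRec

open CfsgLib.InvChar.Coset

/-- Left multiply a code into the value of a word, checking validity. -/
def hStep (x : ℕ) (acc : Option ℕ) : Option ℕ :=
  acc.bind fun v => if hvalid (hmul (hLet.getD x 0) v) && decide (x < 5) then some (hmul (hLet.getD x 0) v)
    else none

/-- The code of a word in the five letters. -/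
def hFold : List ℕ → Option ℕ
  | [] => some hOne
  | x :: L => hStep x (hFold L)

/-- The segments of a word between the occurrences of the letter `5`, as codes: the first one and the rest. -/
def hSegs : List ℕ → Option (ℕ × List ℕ)
  | [] => some (hOne, [])
  | x :: L => (hSegs L).bind fun p =>
      if x = 5 then some (hOne, p.1 :: p.2) else (hStep x (some p.1)).map fun v => (v, p.2)

/-- The cyclic segments: one code after each occurrence of `5`, the last one joined with the first segment. -/
def hCyc (w : List ℕ) : Option (List ℕ) :=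
  (hSegs w).bind fun p =>
    match p.2.reverse with
    | [] => if p.1 = hOne then some [] else none
    | l :: rest => if hvalid (hmul l p.1) then some ((hmul l p.1 :: rest).reverse) else none

/-- `w` is a rotation of `v`, possibly reversed, after normalising the segments. -/
def cycEq (v w : List ℕ) (k : ℕ) (rev : Bool) : Bool :=
  match hCyc v, hCyc (if rev then w.reverse else w) with
  | some a, some b => decide (a.drop k ++ a.take k = b)
  | _, _ => false

/-- Two words have the same segments. -/
def segEq (v w : List ℕ) : Bool :=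
  match hSegs v, hSegs w with
  | some a, some b => decide (a = b)
  | _, _ => false

/-- Cancel equal neighbours. -/
def redW : List ℕ → List ℕ
  | [] => []
  | x :: L => match redW L with
    | [] => [x]
    | y :: M => if x = y then M else x :: y :: M

variable {G : Type*} [Group G]

/-- The six letters in a group. -/
def gl (ψ : ℕ → G) (n : G) (x : ℕ) : G := if x < 5 then ψ (hLet.getD x 0) else if x = 5 then n else 1

theorem gl_lt (ψ : ℕ → G) (n : G) {x : ℕ} (hx : x < 5) : gl ψ n x = ψ (hLet.getD x 0) := if_pos hx

theorem gl_five (ψ : ℕ → G) (n : G) : gl ψ n 5 = n := rfl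

variable {t : G} {ψ : ℕ → G}

theorem IsFrame.map_one (hψ : IsFrame t ψ) : ψ hOne = 1 := by
  have h := hψ.map_mul hOne hOne (by decide) (by decide)
  rw [show hmul hOne hOne = hOne by decide] at h
  exact left_eq_mul.1 h

theorem IsFrame.mul_mem (hψ : IsFrame t ψ) {x : ℕ} (hx : hvalid x = true) :
    ψ x ∈ Subgroup.centralizer ({t} : Set G) := (hψ.mem_iff _).2 ⟨x, hx, rfl⟩

theorem let_valid {x : ℕ} (hx : x < 5) : hvalid (hLet.getD x 0) = true := (hLetK_code x hx).2

theorem gl_mul_self (hψ : IsFrame t ψ) {n : G} (hn : n * n = 1) (x : ℕ) : gl ψ n x * gl ψ n x = 1 := by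
  unfold gl
  split_ifs with h1 h2
  · rw [← hψ.map_mul _ _ (let_valid h1) (let_valid h1),
      (by decide : ∀ i < 5, hmul (hLet.getD i 0) (hLet.getD i 0) = hOne) x h1, hψ.map_one]
  · exact hn
  · exact one_mul 1

theorem hStep_spec (hψ : IsFrame t ψ) (n : G) {x v u : ℕ} (hv : hvalid v = true) (h : hStep x (some v) = some u) :
    hvalid u = true ∧ ψ u = gl ψ n x * ψ v := by
  simp only [hStep, Option.bind_some, Option.ite_none_right_eq_some, Bool.and_eq_true, decide_eq_true_eq,
    Option.some.injEq] at h
  obtain ⟨⟨hu, hx⟩, rfl⟩ := h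
  exact ⟨hu, by rw [hψ.map_mul _ _ (let_valid hx) hv, gl_lt ψ n hx]⟩

theorem hFold_spec (hψ : IsFrame t ψ) (n : G) : ∀ (w : List ℕ) (u : ℕ), hFold w = some u →
    hvalid u = true ∧ wprod (gl ψ n) w = ψ u
  | [], u, h => by
    obtain rfl : hOne = u := by simpa [hFold] using h
    exact ⟨by decide, by rw [hψ.map_one]; rfl⟩
  | x :: L, u, h => by
    rcases hL : hFold L with _ | v
    · rw [hFold, hL] at h; simp [hStep] at h
    · rw [hFold, hL] at h
      obtain ⟨hv, he⟩ := hFold_spec hψ n L v hL
      obtain ⟨hu, hq⟩ := hStep_spec hψ n hv h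
      exact ⟨hu, by rw [hq, ← he]; simp [wprod]⟩

/-- The product `n ψ c₁ n ψ c₂ …`. -/
def segProd (ψ : ℕ → G) (n : G) (cs : List ℕ) : G := (cs.map fun c => n * ψ c).prod

theorem hSegs_spec (hψ : IsFrame t ψ) (n : G) : ∀ (w : List ℕ) (p : ℕ × List ℕ), hSegs w = some p →
    hvalid p.1 = true ∧ (∀ c ∈ p.2, hvalid c = true) ∧ wprod (gl ψ n) w = ψ p.1 * segProd ψ n p.2
  | [], p, h => by
    obtain rfl : (hOne, []) = p := by simpa [hSegs] using h
    exact ⟨(by decide : hvalid hOne = true), by simp, by simp [hψ.map_one, segProd, wprod]⟩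
  | x :: L, p, h => by
    rcases hL : hSegs L with _ | q
    · rw [hSegs, hL] at h; simp at h
    · obtain ⟨hv, hc, he⟩ := hSegs_spec hψ n L q hL
      rw [hSegs, hL, Option.bind_some] at h
      split_ifs at h with hx
      · obtain rfl : (hOne, q.1 :: q.2) = p := by simpa using h
        subst hx
        refine ⟨(by decide : hvalid hOne = true), ?_, ?_⟩
        · intro c hc'
          rcases List.mem_cons.1 hc' with rfl | h'
          · exact hv
          · exact hc c h'
        · rw [hψ.map_one, one_mul, segProd, List.map_cons, List.prod_cons, mul_assoc]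
          show wprod (gl ψ n) (5 :: L) = n * (ψ q.1 * segProd ψ n q.2)
          rw [← he]; simp [wprod, gl_five]
      · rcases hs : hStep x (some q.1) with _ | v
        · rw [hs] at h; simp at h
        · rw [hs] at h
          obtain rfl : (v, q.2) = p := by simpa using h
          obtain ⟨hu, hq⟩ := hStep_spec hψ n hv hs
          exact ⟨hu, hc, by show wprod (gl ψ n) (x :: L) = ψ v * segProd ψ n q.2
                            rw [hq, mul_assoc, ← he]; simp [wprod]⟩

theorem wprod_redW {f : ℕ → G} (hf : ∀ x, f x * f x = 1) : ∀ w, wprod f (redW w) = wprod f w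
  | [] => rfl
  | x :: L => by
    have ih := wprod_redW hf L
    rw [redW]
    split
    · next h => rw [h] at ih; simp [wprod] at ih ⊢; exact ih.symm
    · next y M h =>
      rw [h] at ih
      simp only [wprod, List.map_cons, List.prod_cons] at ih ⊢
      split_ifs with e
      · subst e; rw [← ih, ← mul_assoc, hf, one_mul]
      · simp only [List.map_cons, List.prod_cons, ih]

theorem eq_of_segEq (hψ : IsFrame t ψ) (n : G) {v w : List ℕ} (h : segEq v w = true) :
    wprod (gl ψ n) v = wprod (gl ψ n) w := by
  unfold segEq at h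
  split at h
  · next a b ha hb =>
    simp only [decide_eq_true_eq] at h
    subst h
    rw [(hSegs_spec hψ n v a ha).2.2, (hSegs_spec hψ n w a hb).2.2]
  · simp at h

theorem one_iff_cyc (hψ : IsFrame t ψ) (n : G) {w : List ℕ} {cs : List ℕ} (h : hCyc w = some cs) :
    wprod (gl ψ n) w = 1 ↔ segProd ψ n cs = 1 := by
  rcases hp : hSegs w with _ | p
  · rw [hCyc, hp] at h; simp at h
  obtain ⟨hv, hc, he⟩ := hSegs_spec hψ n w p hp
  rw [hCyc, hp, Option.bind_some] at h
  rw [he]
  split at h
  · next hr =>
    rw [List.reverse_eq_nil_iff] at hr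
    split_ifs at h with h1
    obtain rfl : ([] : List ℕ) = cs := by simpa using h
    rw [hr, h1, hψ.map_one, one_mul]
  · next l rest hr =>
    split_ifs at h with h1
    obtain rfl : (hmul l p.1 :: rest).reverse = cs := by simpa using h
    have hr' : p.2 = rest.reverse ++ [l] := by
      rw [← List.reverse_reverse p.2, hr, List.reverse_cons]
    have hl : hvalid l = true := hc l (by rw [hr']; simp)
    rw [hr', List.reverse_cons]
    simp only [segProd, List.map_append, List.prod_append, List.map_cons, List.map_nil, List.prod_cons,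
      List.prod_nil, mul_one]
    rw [hψ.map_mul _ _ hl hv, mul_eq_one_comm]
    simp only [mul_assoc]

theorem segProd_rotate (n : G) (a : List ℕ) (k : ℕ) :
    segProd ψ n (a.drop k ++ a.take k) = 1 ↔ segProd ψ n a = 1 := by
  conv_rhs => rw [← List.take_append_drop k a]
  simp only [segProd, List.map_append, List.prod_append]
  exact mul_eq_one_comm

theorem one_of_cycEq (hψ : IsFrame t ψ) {n : G} (hn : n * n = 1) {v w : List ℕ} {k : ℕ} {rev : Bool}
    (h : cycEq v w k rev = true) (h1 : wprod (gl ψ n) v = 1) : wprod (gl ψ n) w = 1 := by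
  unfold cycEq at h
  split at h
  · next a b ha hb =>
    simp only [decide_eq_true_eq] at h
    subst h
    have h2 := (one_iff_cyc hψ n hb).2 ((segProd_rotate n a k).2 ((one_iff_cyc hψ n ha).1 h1))
    cases rev
    · exact h2
    · rw [if_pos rfl, wprod_reverse _ (gl_mul_self hψ hn), inv_eq_one] at h2
      exact h2
  · simp at h

/-- A certified cycle gives the equation of two words. -/
theorem eq_of_cycle (hψ : IsFrame t ψ) {n : G} (hn : n * n = 1) {v l r : List ℕ} {k : ℕ} {rev : Bool}
    (h : cycEq v (redW (l ++ r.reverse)) k rev = true) (h1 : wprod (gl ψ n) v = 1) :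
    wprod (gl ψ n) l = wprod (gl ψ n) r := by
  have h2 := one_of_cycEq hψ hn h h1
  rw [wprod_redW (gl_mul_self hψ hn), wprod_append, wprod_reverse _ (gl_mul_self hψ hn)] at h2
  exact mul_inv_eq_one.1 h2

end CfsgLib.InvChar.HeRec
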